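import Cfsg.Agent.H2.LocBal3

/-! Standard subgroups of alternating groups. -/

set_option autoImplicit false

namespace CfsgH2

open Subgroup Cfsg
open scoped commutatorElement

theorem isQuasisimple_of_simple {X : Type*} [Group X] [IsSimpleGroup X] (h : ¬ IsMulCommutative X) : 
    IsQuasisimple X := by
  have hc : commutator X = ⊤ := by
    rcases (inferInstance : (commutator X).Normal).eq_bot_or_eq_top with h1 | h1
    · exfalso
      apply h
      refine ⟨⟨fun a b => ?_⟩⟩
      have h2 : ⁅a, b⁆ ∈ commutator X := by
        rw [_root_.commutator_def]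
        exact commutator_mem_commutator (mem_top _) (mem_top _)
      rw [h1, mem_bot, commutatorElement_eq_one_iff_mul_comm] at h2
      exact h2
    · exact h1
  refine isQuasisimple_of_normal_le_center ⟨hc⟩ ?_
  intro N hN
  rcases hN.eq_bot_or_eq_top with h1 | h1
  · right; rw [h1]; exact bot_le
  · left; exact h1

section alt

open Equiv Equiv.Perm

variable {α : Type*} [Fintype α] [DecidableEq α]

/-- the alternating group on a subset -/
def RA (s : Finset α) : Subgroup (alternatingGroup α) := (alternatingGroup.ofSubtype s).range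

theorem mem_RA {s : Finset α} {k : alternatingGroup α} : k ∈ RA s ↔ (k : Perm α).support ⊆ s := 
  alternatingGroup.mem_range_ofSubtype_iff s k

theorem mem_RA' {s : Finset α} {k : alternatingGroup α} : k ∈ RA s ↔ ∀ x, x ∉ s → (k : Perm α) x = x := by
  rw [mem_RA]
  constructor
  · intro h x hx
    by_contra hne
    exact hx (h (mem_support.mpr hne))
  · intro h x hx
    by_contra hne
    exact (mem_support.mp hx) (h x hne)

/-- the 3-cycle -/
def cyc3 {x y z : α} (hxy : x ≠ y) (hxz : x ≠ z) : alternatingGroup α := 
  ⟨swap x y * swap x z, by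
    rw [mem_alternatingGroup, Perm.sign_mul, sign_swap hxy, sign_swap hxz]; rfl⟩

theorem cyc3_val {x y z : α} (hxy : x ≠ y) (hxz : x ≠ z) : 
    ((cyc3 hxy hxz : alternatingGroup α) : Perm α) = swap x y * swap x z := rfl

theorem cyc3_fix {x y z : α} (hxy : x ≠ y) (hxz : x ≠ z) {w : α} (h1 : w ≠ x) (h2 : w ≠ y) (h3 : w ≠ z) : 
    ((cyc3 hxy hxz : alternatingGroup α) : Perm α) w = w := by
  rw [cyc3_val, Perm.mul_apply, swap_apply_of_ne_of_ne h1 h3, swap_apply_of_ne_of_ne h1 h2]

theorem cyc3_apply {x y z : α} (hxy : x ≠ y) (hxz : x ≠ z) (hyz : y ≠ z) : 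
    ((cyc3 hxy hxz : alternatingGroup α) : Perm α) x = z := by
  rw [cyc3_val, Perm.mul_apply, swap_apply_left, swap_apply_of_ne_of_ne hxz.symm hyz.symm]

theorem cent_RA {s : Finset α} (hs : 4 ≤ s.card) : centralizer (RA s : Set (alternatingGroup α)) = RA sᶜ := by
  ext g
  constructor
  · intro hg
    rw [mem_RA']
    intro x hx
    rw [Finset.mem_compl, not_not] at hx
    have key : ∀ y ∈ s, ∀ z ∈ s, x ≠ y → x ≠ z → y ≠ z → 
        (g : Perm α) x = x ∨ (g : Perm α) x = y ∨ (g : Perm α) x = z := by
      intro y hy z hz hxy hxz hyz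
      by_contra hcon
      push Not at hcon
      have hc : cyc3 hxy hxz ∈ RA s := by
        rw [mem_RA']
        intro w hw
        refine cyc3_fix hxy hxz ?_ ?_ ?_
        · rintro rfl; exact hw hx
        · rintro rfl; exact hw hy
        · rintro rfl; exact hw hz
      have h1 := mem_centralizer_iff.mp hg _ hc
      have h2 := congrArg (fun k : alternatingGroup α => (k : Perm α) x) h1
      change ((cyc3 hxy hxz : alternatingGroup α) : Perm α) ((g : Perm α) x) = 
        (g : Perm α) (((cyc3 hxy hxz : alternatingGroup α) : Perm α) x) at h2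
      rw [cyc3_fix hxy hxz hcon.1 hcon.2.1 hcon.2.2, cyc3_apply hxy hxz hyz] at h2
      exact hxz ((g : Perm α).injective h2)
    have h3 : 3 ≤ (s.erase x).card := by rw [Finset.card_erase_of_mem hx]; omega
    obtain ⟨t, hts, ht⟩ := Finset.exists_subset_card_eq h3
    obtain ⟨y, z, w, hyz, hyw, hzw, rfl⟩ := Finset.card_eq_three.mp ht
    have hy := Finset.mem_erase.mp (hts (by simp : y ∈ ({y, z, w} : Finset α)))
    have hz := Finset.mem_erase.mp (hts (by simp : z ∈ ({y, z, w} : Finset α)))
    have hw := Finset.mem_erase.mp (hts (by simp : w ∈ ({y, z, w} : Finset α)))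
    rcases key y hy.2 z hz.2 hy.1.symm hz.1.symm hyz with h | h | h
    · exact h
    · rcases key z hz.2 w hw.2 hz.1.symm hw.1.symm hzw with h' | h' | h'
      · exact h'
      · exact absurd (h.symm.trans h') hyz
      · exact absurd (h.symm.trans h') hyw
    · rcases key y hy.2 w hw.2 hy.1.symm hw.1.symm hyw with h' | h' | h'
      · exact h'
      · exact absurd (h'.symm.trans h) hyz
      · exact absurd (h.symm.trans h') hzw
  · intro hg
    refine mem_centralizer_iff.mpr ?_
    intro h hh
    have hh' := mem_RA.mp hh
    have hg' := mem_RA.mp hg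
    apply Subtype.ext
    have hd : Perm.Disjoint (h : Perm α) (g : Perm α) := by
      rw [Perm.disjoint_iff_disjoint_support]
      exact Finset.disjoint_of_subset_left hh' (Finset.disjoint_of_subset_right hg' disjoint_compl_right)
    exact hd.commute.eq

theorem quasisimple_RA {s : Finset α} (hs : 5 ≤ s.card) : IsQuasisimple (RA s) := by
  have hs' : 5 ≤ Nat.card s := by rw [Nat.card_eq_fintype_card, Fintype.card_coe]; exact hs
  haveI : IsSimpleGroup (alternatingGroup s) := alternatingGroup.isSimpleGroup hs'
  have h1 : IsQuasisimple (alternatingGroup s) := by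
    apply isQuasisimple_of_simple
    rw [alternatingGroup.isMulCommutative_iff_card_le_three]
    omega
  exact (isQuasisimple_congr (MonoidHom.ofInjective (alternatingGroup.ofSubtype_injective (s := s)))).mp h1

theorem card_RA {s : Finset α} (hs : 2 ≤ s.card) : 2 * Nat.card (RA s) = s.card.factorial := by
  have h1 : Nat.card (RA s) = Nat.card (alternatingGroup s) := 
    (Nat.card_congr (MonoidHom.ofInjective (alternatingGroup.ofSubtype_injective (s := s))).toEquiv).symm
  haveI : Nontrivial s := by
    rw [← Finite.one_lt_card_iff_nontrivial, Nat.card_eq_fintype_card, Fintype.card_coe]; omega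
  rw [h1, two_mul_nat_card_alternatingGroup, Nat.card_perm, Nat.card_eq_fintype_card, Fintype.card_coe]

theorem support_involution {k : alternatingGroup α} (hk : orderOf k = 2) : 4 ≤ (k : Perm α).support.card := by
  have hk' : orderOf (k : Perm α) = 2 := by rw [Subgroup.orderOf_coe]; exact hk
  by_contra hlt
  have hne : (k : Perm α) ≠ 1 := by
    intro h; rw [h, orderOf_one] at hk'; omega
  have h2 := Perm.two_le_card_support_of_ne_one hne
  have h3 : (k : Perm α).support.card = 2 ∨ (k : Perm α).support.card = 3 := by omega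
  rcases h3 with h3 | h3
  · have h4 := (Perm.card_support_eq_two.mp h3).sign_eq
    have h5 := mem_alternatingGroup.mp k.2
    rw [h5] at h4
    exact absurd h4 (by decide)
  · have h4 := (card_support_eq_three_iff.mp h3).orderOf
    omega

theorem conj_RA_le {s : Finset α} {g : alternatingGroup α} (h : s.map (g : Perm α).toEmbedding = s) : 
    g ∈ normalizer (RA s : Set (alternatingGroup α)) := by
  have hsub : ∀ u : Finset α, u ⊆ s ↔ u.map (g : Perm α).toEmbedding ⊆ s := by
    intro u
    conv_rhs => rw [← h]
    rw [Finset.map_subset_map]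
  rw [mem_normalizer_iff]
  intro k
  change k ∈ RA s ↔ g * k * g⁻¹ ∈ RA s
  rw [mem_RA, mem_RA]
  change _ ↔ ((g : Perm α) * (k : Perm α) * (g : Perm α)⁻¹).support ⊆ s
  rw [Perm.support_conj, ← hsub]

theorem standard_RA {s : Finset α} (hs : 5 ≤ s.card) (ht : sᶜ.card = 4) : IsStandardSubgroup (RA s) := by
  have hcent : centralizer (RA s : Set (alternatingGroup α)) = RA sᶜ := cent_RA (by omega)
  have hcent' : centralizer (RA sᶜ : Set (alternatingGroup α)) = RA s := by
    rw [cent_RA (by omega), compl_compl]
  refine ⟨quasisimple_RA hs, ⟨?_, ?_⟩, ?_, ?_⟩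
  · rw [hcent]
    have := card_RA (s := sᶜ) (by omega)
    rw [ht] at this
    have h24 : Nat.factorial 4 = 24 := rfl
    have h12 : Nat.card (RA sᶜ) = 12 := by omega
    rw [h12]; decide
  · intro g hg
    rw [hcent] at hg ⊢
    by_contra hodd
    rw [Nat.not_odd_iff_even] at hodd
    obtain ⟨k, hk⟩ := exists_prime_orderOf_dvd_card' 2 (even_iff_two_dvd.mp hodd)
    have hk2 : orderOf (k : alternatingGroup α) = 2 := by rw [Subgroup.orderOf_coe]; exact hk
    obtain ⟨hk1, k', hk', hkk⟩ := k.2
    have hk2' : orderOf k' = 2 := by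
      rw [← hk2, ← hkk]
      exact (orderOf_injective (MulAut.conj g).toMonoidHom (MulAut.conj g).injective k').symm
    apply hg
    have hsupp : ∀ u : alternatingGroup α, u ∈ RA sᶜ → orderOf u = 2 → (u : Perm α).support = sᶜ := by
      intro u hu hu2
      refine Finset.eq_of_subset_of_card_le (mem_RA.mp hu) ?_
      rw [ht]
      exact support_involution hu2
    have h1 := hsupp _ hk1 hk2
    have h2 := hsupp _ hk' hk2'
    apply conj_RA_le
    have h3 : ((k : alternatingGroup α) : Perm α) = (g : Perm α) * (k' : Perm α) * (g : Perm α)⁻¹ := by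
      rw [← hkk]; rfl
    rw [h3, Perm.support_conj, h2] at h1
    exact h1
  · intro g _ hcomm
    have h1 : (RA s).map (MulAut.conj g).toMonoidHom ≤ RA sᶜ := by
      rw [← hcent, ← commutator_eq_bot_iff_le_centralizer, commutator_comm]
      exact hcomm
    have h2 := Nat.le_of_dvd Nat.card_pos (card_dvd_of_le h1)
    have h3 : Nat.card ((RA s).map (MulAut.conj g).toMonoidHom) = Nat.card (RA s) := 
      card_map_of_injective (MulAut.conj g).injective
    rw [h3] at h2
    have h4 := card_RA (s := s) (by omega)
    have h5 := card_RA (s := sᶜ) (by omega)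
    rw [ht] at h5
    have h6 : Nat.factorial 5 ≤ s.card.factorial := Nat.factorial_le hs
    have h24 : Nat.factorial 4 = 24 := rfl
    have h120 : Nat.factorial 5 = 120 := rfl
    omega
  · apply le_antisymm
    · exact normalizer_le_normalizer_centralizer _
    · have := normalizer_le_normalizer_centralizer (centralizer (RA s : Set (alternatingGroup α)))
      conv_rhs at this => rw [hcent, hcent']
      exact this

end alt

end CfsgH2
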