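import Mathlib
import Cfsg.Agent.H2.GenFitting2
import Cfsg.Agent.H1.Fit

/-! Maximal subgroups containing each other's generalized Fitting subgroup. -/

set_option autoImplicit false

namespace CfsgH2

open Subgroup Cfsg
open scoped commutatorElement

variable {G : Type*} [Group G]

/-- `O_p(M)` inside the ambient group -/
def Opm (p : ℕ) (M : Subgroup G) : Subgroup G := (pCore p M).map M.subtype

/-- `F(M)` inside the ambient group -/
def Fitm (M : Subgroup G) : Subgroup G := (fittingSubgroup M).map M.subtype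

/-- the `p'`-part of `F(M)` inside the ambient group -/
def Oppm (p : ℕ) (M : Subgroup G) : Subgroup G := (fittingSubgroup M ⊓ pPrimeCore p M).map M.subtype

theorem le_normalizer_map_of_normal {M : Subgroup G} (D : Subgroup M) (hD : D.Normal) :
    M ≤ normalizer ((D.map M.subtype : Subgroup G) : Set G) := by
  rw [CfsgH1.le_normalizer_iff_conj]
  rintro g hg _ ⟨x, hx, rfl⟩
  exact ⟨⟨g, hg⟩ * x * ⟨g, hg⟩⁻¹, hD.conj_mem x hx _, rfl⟩

theorem comm_of_norm_coprime [Finite G] {A B : Subgroup G} (hA : A ≤ normalizer (B : Set G))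
    (hB : B ≤ normalizer (A : Set G)) (hcop : (Nat.card A).Coprime (Nat.card B)) :
    ∀ a ∈ A, ∀ b ∈ B, a * b = b * a := by
  intro a ha b hb
  have h1 : a * b * a⁻¹ * b⁻¹ ∈ B := 
    B.mul_mem (CfsgH1.le_normalizer_iff_conj.mp hA a ha b hb) (B.inv_mem hb)
  have h2 : a * b * a⁻¹ * b⁻¹ ∈ A := by
    have := A.mul_mem ha (CfsgH1.le_normalizer_iff_conj.mp hB b hb a⁻¹ (A.inv_mem ha))
    have e : a * b * a⁻¹ * b⁻¹ = a * (b * a⁻¹ * b⁻¹) := by group
    rw [e]; exact this
  have h3 : A ⊓ B = ⊥ := inf_eq_bot_of_coprime hcop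
  have h4 : a * b * a⁻¹ * b⁻¹ ∈ A ⊓ B := ⟨h2, h1⟩
  rw [h3, mem_bot] at h4
  calc a * b = (a * b * a⁻¹ * b⁻¹) * (b * a) := by group
    _ = b * a := by rw [h4, one_mul]

theorem Opm_le_Fitm [Finite G] {p : ℕ} [Fact p.Prime] {M : Subgroup G} : Opm p M ≤ Fitm M :=
  map_mono (pCore_le_fittingSubgroup p)

theorem Oppm_le_Fitm {p : ℕ} {M : Subgroup G} : Oppm p M ≤ Fitm M := map_mono inf_le_left

theorem Fitm_le {M : Subgroup G} : Fitm M ≤ M := map_subtype_le _

theorem isPGroup_Opm (p : ℕ) (M : Subgroup G) : IsPGroup p (Opm p M) := (isPGroup_pCore p).map _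

theorem coprime_Oppm [Finite G] (p : ℕ) (M : Subgroup G) : (Nat.card (Oppm p M)).Coprime p := by
  have h1 : Nat.card (Oppm p M) = Nat.card (fittingSubgroup M ⊓ pPrimeCore p M : Subgroup M) :=
    card_map_of_injective M.subtype_injective
  rw [h1]
  exact Nat.Coprime.coprime_dvd_left (card_dvd_of_le inf_le_right) (coprime_card_pPrimeCore p)

theorem norm_Opm {p : ℕ} {M : Subgroup G} : M ≤ normalizer (Opm p M : Set G) :=
  le_normalizer_map_of_normal _ inferInstance

theorem norm_Oppm [Finite G] {p : ℕ} {M : Subgroup G} : M ≤ normalizer (Oppm p M : Set G) :=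
  le_normalizer_map_of_normal _ inferInstance

theorem norm_Fitm {M : Subgroup G} : M ≤ normalizer (Fitm M : Set G) :=
  le_normalizer_map_of_normal _ inferInstance

theorem Fitm_le_sup [Finite G] {p : ℕ} [hp : Fact p.Prime] {M : Subgroup G} : Fitm M ≤ Opm p M ⊔ Oppm p M := by
  unfold Fitm Opm Oppm
  rw [← Subgroup.map_sup]
  refine map_mono ?_
  have h1 := fittingSubgroup_eq_iSup_pCore (G := M)
  refine h1.le.trans (iSup_le ?_)
  rintro ⟨r, hr⟩
  haveI : Fact r.Prime := ⟨Nat.prime_of_mem_primeFactors hr⟩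
  by_cases hrp : r = p
  · subst hrp; exact le_sup_left
  · refine le_trans (le_inf (pCore_le_fittingSubgroup r) (le_pPrimeCore inferInstance ?_)) le_sup_right
    obtain ⟨n, hn⟩ := (IsPGroup.iff_card (p := r)).mp (isPGroup_pCore (G := M) r)
    change (Nat.card (pCore r M)).Coprime p
    rw [hn]
    exact Nat.Coprime.pow_left _ ((Nat.coprime_primes this.out hp.out).mpr hrp)

theorem coprime_p_p' [Finite G] {p : ℕ} [hp : Fact p.Prime] {A B : Subgroup G} (hA : IsPGroup p A)
    (hB : (Nat.card B).Coprime p) : (Nat.card A).Coprime (Nat.card B) := by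
  obtain ⟨n, hn⟩ := (IsPGroup.iff_card (p := p)).mp hA
  rw [hn]
  exact Nat.Coprime.pow_left _ hB.symm

theorem bender_step [Finite G] {M N : Subgroup G} {p q : ℕ} [hp : Fact p.Prime] [hq : Fact q.Prime] 
    (hpq : p ≠ q) (hFM : Fitm M ≤ N) (hFN : Fitm N ≤ M) (hCM : M ⊓ centralizer (Fitm M : Set G) ≤ Fitm M)
    (hNq : normalizer (Opm q N : Set G) ≤ N) : Opm p N ≤ Opm p M := by
  have hYpM : Opm p N ≤ M := Opm_le_Fitm.trans hFN
  have hYqM : Opm q N ≤ M := Opm_le_Fitm.trans hFN
  have hXN : Opm p M ≤ N := Opm_le_Fitm.trans hFM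
  have hX'N : Oppm p M ≤ N := Oppm_le_Fitm.trans hFM
  have hXM : Opm p M ≤ M := Opm_le_Fitm.trans Fitm_le
  have hX'M : Oppm p M ≤ M := Oppm_le_Fitm.trans Fitm_le
  have cXX' := comm_of_norm_coprime (hXM.trans norm_Oppm) (hX'M.trans norm_Opm) 
    (coprime_p_p' (isPGroup_Opm p M) (coprime_Oppm p M))
  have cYpX' := comm_of_norm_coprime (hYpM.trans norm_Oppm) (hX'N.trans norm_Opm) 
    (coprime_p_p' (isPGroup_Opm p N) (coprime_Oppm p M))
  have cXYq := comm_of_norm_coprime (hXN.trans (norm_Opm (p := q))) (hYqM.trans norm_Opm) 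
    (IsPGroup.coprime_card_of_ne p q hpq _ _ (isPGroup_Opm p M) (isPGroup_Opm q N))
  let K1 : Subgroup G := M ⊓ centralizer (Oppm p M : Set G)
  have hX'conj := CfsgH1.le_normalizer_iff_conj.mp (norm_Oppm (p := p) (M := M))
  have hXconj := CfsgH1.le_normalizer_iff_conj.mp (norm_Opm (p := p) (M := M))
  have hK1conj : ∀ m ∈ M, ∀ k ∈ K1, m * k * m⁻¹ ∈ K1 := by
    intro m hm k hk
    refine ⟨M.mul_mem (M.mul_mem hm hk.1) (M.inv_mem hm), mem_centralizer_iff.mpr ?_⟩
    intro u hu
    have h1 : m⁻¹ * u * m ∈ Oppm p M := by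
      have := hX'conj m⁻¹ (M.inv_mem hm) u hu
      rwa [inv_inv] at this
    have h2 := mem_centralizer_iff.mp hk.2 _ h1
    calc u * (m * k * m⁻¹) = m * ((m⁻¹ * u * m) * k) * m⁻¹ := by group
      _ = m * (k * (m⁻¹ * u * m)) * m⁻¹ := by rw [h2]
      _ = _ := by group
  have main : ∀ k ∈ K1, (∃ t : ℕ, k ^ (p ^ t) = 1) → ∀ y ∈ Opm q N, y * k = k * y := by
    rintro k hk ⟨t, ht⟩ y hy
    have hyM := hYqM hy
    have hkX' : ∀ u ∈ Oppm p M, u * k = k * u := fun u hu => mem_centralizer_iff.mp hk.2 u hu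
    set z := k * y * k⁻¹ * y⁻¹ with hz
    have hzM : z ∈ M := M.mul_mem (M.mul_mem (M.mul_mem hk.1 hyM) (M.inv_mem hk.1)) (M.inv_mem hyM)
    have hzX' : z ∈ centralizer (Oppm p M : Set G) := by
      have h1 : z = k * (y * k⁻¹ * y⁻¹) := by rw [hz]; group
      rw [h1]
      exact mul_mem hk.2 (hK1conj y hyM k⁻¹ (K1.inv_mem hk)).2
    have hzX : z ∈ centralizer (Opm p M : Set G) := by
      rw [mem_centralizer_iff]
      intro u hu
      have h1 : k⁻¹ * u * k ∈ Opm p M := by
        have := hXconj k⁻¹ (M.inv_mem hk.1) u hu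
        rwa [inv_inv] at this
      have h2 := cXYq _ h1 y hy
      have h3 := cXYq _ hu y hy
      calc u * z = k * ((k⁻¹ * u * k) * y) * k⁻¹ * y⁻¹ := by rw [hz]; group
        _ = k * (y * (k⁻¹ * u * k)) * k⁻¹ * y⁻¹ := by rw [h2]
        _ = k * y * k⁻¹ * (u * y⁻¹) := by group
        _ = k * y * k⁻¹ * (y⁻¹ * u) := by
            congr 1
            rw [eq_inv_mul_iff_mul_eq, ← mul_assoc, ← h3]; group
        _ = z * u := by rw [hz]; group
    have hzF : z ∈ Fitm M := by
      refine hCM ⟨hzM, ?_⟩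
      have h1 : Fitm M ≤ centralizer {z} := by
        refine (Fitm_le_sup (p := p)).trans (sup_le ?_ ?_)
        · intro u hu
          rw [Subgroup.mem_centralizer_iff]
          rintro _ rfl
          exact (mem_centralizer_iff.mp hzX u hu).symm
        · intro u hu
          rw [Subgroup.mem_centralizer_iff]
          rintro _ rfl
          exact (mem_centralizer_iff.mp hzX' u hu).symm
      refine mem_centralizer_iff.mpr ?_
      intro u hu
      exact (mem_centralizer_iff.mp (h1 hu) z rfl).symm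
    obtain ⟨a, ha, b, hb, hab⟩ := exists_mul_of_mem_sup (hXM.trans norm_Oppm) (Fitm_le_sup (p := p) hzF)
    have hky : k * y * k⁻¹ = a * (b * y) := by
      rw [← mul_assoc, hab, hz]; group
    obtain ⟨s, hs⟩ := isPGroup_Opm q N ⟨y, hy⟩
    have hys : y ^ (q ^ s) = 1 := congrArg Subtype.val hs
    have hpw : ∀ n : ℕ, (b * y) ^ n * (y ^ n)⁻¹ ∈ Oppm p M := by
      intro n
      induction n with
      | zero => simp [one_mem]
      | succ n ih =>
        have h1 : (b * y) ^ (n + 1) * (y ^ (n + 1))⁻¹ = b * (y * ((b * y) ^ n * (y ^ n)⁻¹) * y⁻¹) := by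
          rw [pow_succ', pow_succ]; group
        rw [h1]
        exact mul_mem hb (hX'conj y hyM _ ih)
    have hacomm : Commute a (b * y) := by
      have h1 : a * b = b * a := cXX' a ha b hb
      have h2 : a * y = y * a := cXYq a ha y hy
      change a * (b * y) = b * y * a
      rw [← mul_assoc, h1, mul_assoc, h2, mul_assoc]
    have ha1 : a = 1 := by
      have h1 : a ^ (q ^ s) * (b * y) ^ (q ^ s) = 1 := by
        rw [← hacomm.mul_pow, ← hky]
        have : (k * y * k⁻¹) ^ (q ^ s) = k * y ^ (q ^ s) * k⁻¹ := conj_pow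
        rw [this, hys]; group
      have h2 : (b * y) ^ (q ^ s) ∈ Oppm p M := by
        have := hpw (q ^ s)
        rwa [hys, inv_one, mul_one] at this
      have h3 : a ^ (q ^ s) ∈ Opm p M ⊓ Oppm p M := by
        refine ⟨pow_mem ha _, ?_⟩
        rw [eq_inv_of_mul_eq_one_left h1]
        exact (Oppm p M).inv_mem h2
      rw [inf_eq_bot_of_coprime (coprime_p_p' (isPGroup_Opm p M) (coprime_Oppm p M)), mem_bot] at h3
      obtain ⟨r, hr⟩ := isPGroup_Opm p M ⟨a, ha⟩
      have h4 : a ^ (p ^ r) = 1 := congrArg Subtype.val hr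
      have h5 : orderOf a = 1 := Nat.eq_one_of_dvd_coprimes (Nat.Coprime.pow _ _ 
        ((Nat.coprime_primes hp.out hq.out).mpr hpq)) (orderOf_dvd_of_pow_eq_one h4) (orderOf_dvd_of_pow_eq_one h3)
      exact orderOf_eq_one_iff.mp h5
    rw [ha1, one_mul] at hky
    have hkb := hkX' b hb
    have hki : ∀ n : ℕ, k ^ n * y * (k ^ n)⁻¹ = b ^ n * y := by
      intro n
      induction n with
      | zero => simp
      | succ n ih =>
        have h1 : k ^ (n + 1) * y * (k ^ (n + 1))⁻¹ = k * (k ^ n * y * (k ^ n)⁻¹) * k⁻¹ := by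
          rw [pow_succ']; group
        have h2 : k * b ^ n = b ^ n * k := ((show Commute k b from hkb.symm).pow_right n).eq
        rw [h1, ih]
        calc k * (b ^ n * y) * k⁻¹ = (k * b ^ n) * y * k⁻¹ := by group
          _ = b ^ n * (k * y * k⁻¹) := by rw [h2]; group
          _ = b ^ (n + 1) * y := by rw [hky, pow_succ]; group
    have hb1 : b = 1 := by
      have h1 := hki (p ^ t)
      rw [ht] at h1
      have h2 : b ^ (p ^ t) = 1 := by
        have h3 : b ^ (p ^ t) * y = y := by rw [← h1]; group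
        exact mul_eq_right.mp h3
      have h3 : orderOf b ∣ Nat.card (Oppm p M) := by
        have := orderOf_dvd_natCard (⟨b, hb⟩ : Oppm p M)
        rwa [orderOf_mk] at this
      have h5 : orderOf b = 1 := Nat.eq_one_of_dvd_coprimes (Nat.Coprime.pow_right t (coprime_Oppm p M))
        h3 (orderOf_dvd_of_pow_eq_one h2)
      exact orderOf_eq_one_iff.mp h5
    rw [hb1, one_mul] at hky
    exact (mul_inv_eq_iff_eq_mul.mp hky).symm
  let J : Subgroup G := closure {k | k ∈ K1 ∧ ∃ t : ℕ, k ^ (p ^ t) = 1}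
  have hJM : J ≤ M := by
    rw [closure_le]
    rintro k ⟨hk, -⟩
    exact hk.1
  have hJN : J ≤ N := by
    refine le_trans ?_ hNq
    have h1 : J ≤ centralizer (Opm q N : Set G) := by
      rw [closure_le]
      rintro k ⟨hk, ht⟩
      rw [SetLike.mem_coe, mem_centralizer_iff]
      intro y hy
      exact main k hk ht y hy
    rw [CfsgH1.le_normalizer_iff_conj]
    intro k hk y hy
    have h2 := mem_centralizer_iff.mp (h1 hk) y hy
    have h3 : k * y * k⁻¹ = y := by rw [← h2]; group
    rw [h3]; exact hy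
  have hYpJ : Opm p N ≤ J := by
    intro y hy
    refine subset_closure ⟨⟨hYpM hy, mem_centralizer_iff.mpr fun u hu => (cYpX' y hy u hu).symm⟩, ?_⟩
    obtain ⟨r, hr⟩ := isPGroup_Opm p N ⟨y, hy⟩
    exact ⟨r, congrArg Subtype.val hr⟩
  have hMJ : M ≤ normalizer (J : Set G) := by
    rw [CfsgH1.le_normalizer_iff_conj]
    intro m hm k hk
    have h1 : J.map (MulAut.conj m).toMonoidHom ≤ J := by
      rw [MonoidHom.map_closure, closure_le]
      rintro _ ⟨x, ⟨hx, t, ht⟩, rfl⟩
      refine subset_closure ⟨hK1conj m hm x hx, t, ?_⟩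
      change (m * x * m⁻¹) ^ (p ^ t) = 1
      rw [conj_pow, ht]; group
    exact h1 ⟨k, hk, rfl⟩
  have h1 : Opm p N ≤ (pCore p J).map J.subtype := by
    have h2 : (Opm p N).subgroupOf J ≤ pCore p J := by
      refine le_pCore ?_ ?_
      · rw [normal_subgroupOf_iff_le_normalizer hYpJ]
        exact hJN.trans norm_Opm
      · exact (isPGroup_Opm p N).of_equiv (subgroupOfEquivOfLe hYpJ).symm
    intro x hx
    exact ⟨⟨x, hYpJ hx⟩, h2 hx, rfl⟩
  refine h1.trans (pCore_map_subtype_le_of_le_normalizer hJM ?_)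
  exact hMJ.trans (normalizer_le_normalizer_map_of_characteristic _)

theorem comp_transfer [Finite G] {M N : Subgroup G} 
    (h1 : (generalizedFittingSubgroup M).map M.subtype ≤ N) 
    (h2 : (generalizedFittingSubgroup N).map N.subtype ≤ M) : 
    (layer M).map M.subtype ≤ (layer N).map N.subtype := by
  set EM := (layer M).map M.subtype with hEM
  set EN := (layer N).map N.subtype with hEN
  have hEMN : EM ≤ N := (map_mono layer_le_generalizedFittingSubgroup).trans h1
  have hENM : EN ≤ M := (map_mono layer_le_generalizedFittingSubgroup).trans h2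
  have hFNM : Fitm N ≤ M := (map_mono fittingSubgroup_le_generalizedFittingSubgroup).trans h2
  have hEMM : EM ≤ M := map_subtype_le _
  have hENN : EN ≤ N := map_subtype_le _
  have nM : M ≤ normalizer (EM : Set G) := le_normalizer_map_of_normal _ layer_normal
  have nN : N ≤ normalizer (EN : Set G) := le_normalizer_map_of_normal _ layer_normal
  have cM := CfsgH1.le_normalizer_iff_conj.mp nM
  have cN := CfsgH1.le_normalizer_iff_conj.mp nN
  rw [hEM, Subgroup.map_le_iff_le_comap]
  refine sSup_le fun K hK => ?_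
  rw [← Subgroup.map_le_iff_le_comap]
  have hK' : IsComponent K := hK
  set Ka := K.map M.subtype with hKa
  have hKaE : Ka ≤ EM := map_mono (IsComponent.le_layer hK')
  have hKaM : Ka ≤ M := map_subtype_le _
  have hKperf : ⁅Ka, Ka⁆ = Ka := by
    rw [hKa, ← map_commutator, IsComponent.commutator_self hK']
  set D : Subgroup G := EM ⊓ EN with hD
  have hcomD : ⁅Ka, EN⁆ ≤ D := by
    rw [commutator_le]
    intro x hx y hy
    refine ⟨?_, ?_⟩
    · have h3 := cM y (hENM hy) x⁻¹ (EM.inv_mem (hKaE hx))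
      have e : ⁅x, y⁆ = x * (y * x⁻¹ * y⁻¹) := by rw [commutatorElement_def]; group
      rw [e]
      exact EM.mul_mem (hKaE hx) h3
    · have h3 := cN x (hEMN (hKaE hx)) y hy
      have e : ⁅x, y⁆ = (x * y * x⁻¹) * y⁻¹ := by rw [commutatorElement_def]
      rw [e]
      exact EN.mul_mem h3 (EN.inv_mem hy)
  have hDsub : (D.subgroupOf M).IsSubnormal := by
    have hle : D.subgroupOf M ≤ layer M := by
      intro x hx
      obtain ⟨y, hy, hyx⟩ := (mem_subgroupOf.mp hx).1
      have : y = x := Subtype.ext hyx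
      rwa [← this]
    refine IsSubnormal.step _ (layer M) hle (Normal.isSubnormal layer_normal) ?_
    rw [normal_subgroupOf_iff_le_normalizer hle, CfsgH1.le_normalizer_iff_conj]
    intro g hg x hx
    rw [mem_subgroupOf] at hx ⊢
    have hgE : (g : G) ∈ EM := ⟨g, hg, rfl⟩
    exact ⟨cM _ g.2 _ hx.1, cN _ (hEMN hgE) _ hx.2⟩
  rcases IsComponent.le_or_commutator_eq_bot hK' hDsub with h3 | h3
  · intro x hx
    obtain ⟨y, hy, rfl⟩ := hx
    exact (mem_subgroupOf.mp (h3 hy)).2
  · exfalso
    have hKD : ⁅Ka, D⁆ = ⊥ := by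
      have h4 : (D.subgroupOf M).map M.subtype = D := by
        rw [subgroupOf_map_subtype]
        exact inf_eq_left.mpr (inf_le_left.trans hEMM)
      rw [hKa, ← h4, ← map_commutator, h3, Subgroup.map_bot]
    have e1 : ⁅⁅Ka, EN⁆, Ka⁆ = ⊥ := by
      rw [eq_bot_iff, ← hKD, commutator_comm Ka D]
      exact commutator_mono hcomD le_rfl
    have e2 : ⁅⁅EN, Ka⁆, Ka⁆ = ⊥ := by rw [commutator_comm EN Ka]; exact e1
    have e3 : ⁅Ka, EN⁆ = ⊥ := by
      have := commutator_commutator_eq_bot_of_rotate e1 e2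
      rwa [hKperf] at this
    have e4 : ⁅Ka, Fitm N⁆ = ⊥ := by
      have hs : Group.IsSolvable ((Fitm N).subgroupOf M) := by
        have h5 : Group.IsSolvable (fittingSubgroup N) := inferInstance
        have h6 : Group.IsSolvable (Fitm N) := 
          Group.isSolvable_of_isSolvable_injective 
            (f := ((fittingSubgroup N).equivMapOfInjective _ N.subtype_injective).symm.toMonoidHom)
            (MulEquiv.injective _)
        exact Group.isSolvable_of_isSolvable_injective (f := (subgroupOfEquivOfLe hFNM).toMonoidHom) 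
          (MulEquiv.injective _)
      have h7 := IsComponent.commutator_eq_bot_of_solvable_normalized hK' hs (by
        rw [CfsgH1.le_normalizer_iff_conj]
        intro g hg x hx
        rw [mem_subgroupOf] at hx ⊢
        have hgE : (g : G) ∈ N := hEMN (hKaE ⟨g, hg, rfl⟩)
        exact CfsgH1.le_normalizer_iff_conj.mp norm_Fitm _ hgE _ hx)
      have h8 : ((Fitm N).subgroupOf M).map M.subtype = Fitm N := by
        rw [subgroupOf_map_subtype]
        exact inf_eq_left.mpr hFNM
      rw [hKa, ← h8, ← map_commutator, h7, Subgroup.map_bot]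
    have hKN : Ka ≤ N := hKaE.trans hEMN
    have e5 : Ka.subgroupOf N ≤ fittingSubgroup N := by
      refine le_trans ?_ centralizer_generalizedFittingSubgroup_le_fittingSubgroup
      rw [le_centralizer_iff]
      refine sup_le ?_ ?_
      · intro x hx
        rw [mem_centralizer_iff]
        intro y hy
        apply Subtype.ext
        have h4 := commutator_eq_bot_iff_le_centralizer.mp e3
        exact (mem_centralizer_iff.mp (h4 (mem_subgroupOf.mp hy)) x ⟨x, hx, rfl⟩).symm
      · intro x hx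
        rw [mem_centralizer_iff]
        intro y hy
        apply Subtype.ext
        have h4 := commutator_eq_bot_iff_le_centralizer.mp e4
        exact (mem_centralizer_iff.mp (h4 (mem_subgroupOf.mp hy)) x ⟨x, hx, rfl⟩).symm
    apply IsQuasisimple.not_isSolvable hK'.2
    have h5 : Group.IsSolvable (fittingSubgroup N) := inferInstance
    have h6 : Group.IsSolvable (Ka.subgroupOf N) := 
      Group.isSolvable_of_isSolvable_injective (f := inclusion e5) (inclusion_injective e5)
    have h7 : Group.IsSolvable Ka := 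
      Group.isSolvable_of_isSolvable_injective (f := (subgroupOfEquivOfLe hKN).symm.toMonoidHom) 
        (MulEquiv.injective _)
    exact Group.isSolvable_of_isSolvable_injective 
      (f := (K.equivMapOfInjective _ M.subtype_injective).toMonoidHom) (MulEquiv.injective _)

theorem Opm_eq_bot_transfer [Finite G] {M N : Subgroup G} {p : ℕ} [hp : Fact p.Prime]
    (hFM : Fitm M ≤ N) (hFN : Fitm N ≤ M) (hCN : N ⊓ centralizer (Fitm N : Set G) ≤ Fitm N)
    (h : Opm p N = ⊥) : Opm p M = ⊥ := by
  have hXN : Opm p M ≤ N := Opm_le_Fitm.trans hFM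
  have hFN' : Fitm N ≤ Oppm p N := by
    have := Fitm_le_sup (p := p) (M := N)
    rwa [h, bot_sup_eq] at this
  have hY'M : Oppm p N ≤ M := Oppm_le_Fitm.trans hFN
  have hcop := coprime_p_p' (isPGroup_Opm p M) (coprime_Oppm p N)
  have hc := comm_of_norm_coprime (hXN.trans norm_Oppm) (hY'M.trans norm_Opm) hcop
  have h1 : Opm p M ≤ Fitm N := by
    refine le_trans (le_inf hXN ?_) hCN
    intro x hx
    rw [mem_centralizer_iff]
    intro y hy
    exact (hc x hx y (hFN' hy)).symm
  have h2 : Opm p M ≤ Opm p M ⊓ Oppm p N := le_inf le_rfl (h1.trans hFN')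
  rw [inf_eq_bot_of_coprime hcop] at h2
  exact le_bot_iff.mp h2

theorem exists_other_prime [Finite G] {N : Subgroup G} {p : ℕ} [hp : Fact p.Prime] (h : Oppm p N ≠ ⊥) :
    ∃ q : ℕ, q.Prime ∧ p ≠ q ∧ Opm q N ≠ ⊥ := by
  have h1 : Nat.card (Oppm p N) ≠ 1 := fun h1 => h (card_eq_one.mp h1)
  obtain ⟨q, hq, hqd⟩ := Nat.exists_prime_and_dvd h1
  haveI := Fact.mk hq
  refine ⟨q, hq, ?_, ?_⟩
  · rintro rfl
    have h2 := Nat.Coprime.coprime_dvd_left hqd (coprime_Oppm p N)
    rw [Nat.coprime_self] at h2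
    exact hq.one_lt.ne' h2
  · intro h3
    have h4 : Fitm N ≤ Oppm q N := by
      have := Fitm_le_sup (p := q) (M := N)
      rwa [h3, bot_sup_eq] at this
    have h5 : q ∣ Nat.card (Oppm q N) := hqd.trans (card_dvd_of_le (Oppm_le_Fitm.trans h4))
    have h2 := Nat.Coprime.coprime_dvd_left h5 (coprime_Oppm q N)
    rw [Nat.coprime_self] at h2
    exact hq.one_lt.ne' h2

/-- S1312 -/
theorem bender_max [Finite G] [hsim : IsSimpleGroup G] (hna : ¬ IsMulCommutative G) (M N : Subgroup G) 
    (hM : IsCoatom M) (hN : IsCoatom N) (hMN : M ≠ N) 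
    (h1 : (generalizedFittingSubgroup M).map M.subtype ≤ N) 
    (h2 : (generalizedFittingSubgroup N).map N.subtype ≤ M) : 
    ∃ p : ℕ, p.Prime ∧ IsPGroup p (generalizedFittingSubgroup M) ∧ 
      IsPGroup p (generalizedFittingSubgroup N) := by
  have hnorm : ∀ (M : Subgroup G), IsCoatom M → ∀ D : Subgroup G, D ≤ M → D ≠ ⊥ → 
      M ≤ normalizer (D : Set G) → normalizer (D : Set G) = M := by
    intro M hM D hDM hD hMD
    rcases hM.le_iff.mp hMD with h | h
    · have hDn : D.Normal := normalizer_eq_top_iff.mp h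
      rcases hDn.eq_bot_or_eq_top with h3 | h3
      · exact absurd h3 hD
      · rw [h3] at hDM
        exact absurd (top_le_iff.mp hDM) hM.1
    · exact h
  have hEE : (layer M).map M.subtype = (layer N).map N.subtype := 
    le_antisymm (comp_transfer h1 h2) (comp_transfer h2 h1)
  have hlM : (layer M).map M.subtype = ⊥ := by
    by_contra h
    have e1 := hnorm M hM _ (map_subtype_le _) h (le_normalizer_map_of_normal _ layer_normal)
    have e2 := hnorm N hN _ (map_subtype_le _) (hEE ▸ h) (le_normalizer_map_of_normal _ layer_normal)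
    rw [hEE] at e1
    exact hMN (e1.symm.trans e2)
  have hlN : (layer N).map N.subtype = ⊥ := hEE ▸ hlM
  have hlM' : layer M = ⊥ := (map_eq_bot_iff_of_injective _ M.subtype_injective).mp hlM
  have hlN' : layer N = ⊥ := (map_eq_bot_iff_of_injective _ N.subtype_injective).mp hlN
  have hgM : generalizedFittingSubgroup M = fittingSubgroup M := by
    unfold generalizedFittingSubgroup; rw [hlM', bot_sup_eq]
  have hgN : generalizedFittingSubgroup N = fittingSubgroup N := by
    unfold generalizedFittingSubgroup; rw [hlN', bot_sup_eq]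
  have hFM : Fitm M ≤ N := by rw [hgM] at h1; exact h1
  have hFN : Fitm N ≤ M := by rw [hgN] at h2; exact h2
  have hC : ∀ M : Subgroup G, layer M = ⊥ → M ⊓ centralizer (Fitm M : Set G) ≤ Fitm M := by
    rintro M hl x ⟨hxM, hx⟩
    refine ⟨⟨x, hxM⟩, centralizer_fittingSubgroup_le_iff.mpr hl ?_, rfl⟩
    rw [mem_centralizer_iff]
    intro y hy
    exact Subtype.ext (mem_centralizer_iff.mp hx y ⟨y, hy, rfl⟩)
  have hCM := hC M hlM'
  have hCN := hC N hlN'
  -- the key contradiction
  have key : ∀ p q : ℕ, p.Prime → q.Prime → p ≠ q → Opm p M ≠ ⊥ → Opm q M ≠ ⊥ → Opm p N ≠ ⊥ → 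
      Opm q N ≠ ⊥ → False := by
    intro p q hp hq hpq a1 a2 a3 a4
    haveI := Fact.mk hp
    haveI := Fact.mk hq
    have b1 := bender_step (M := M) (N := N) hpq hFM hFN hCM 
      (hnorm N hN _ (map_subtype_le _) a4 norm_Opm).le
    have b2 := bender_step (M := N) (N := M) hpq hFN hFM hCN 
      (hnorm M hM _ (map_subtype_le _) a2 norm_Opm).le
    have b3 : Opm p M = Opm p N := le_antisymm b2 b1
    have e1 := hnorm M hM _ (map_subtype_le _) a1 norm_Opm
    have e2 := hnorm N hN _ (map_subtype_le _) a3 norm_Opm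
    apply hMN
    rw [← e1, ← e2]
    have : (Opm p M : Set G) = Opm p N := by rw [b3]
    exact congrArg normalizer this
  -- M is non-trivial
  have hMne : M ≠ ⊥ := by
    intro h
    apply hna
    rw [h] at hM
    obtain ⟨x, hx⟩ := exists_ne (1 : G)
    have h3 : (⊥ : Subgroup G) < zpowers x := bot_lt_iff_ne_bot.mpr (by rwa [Ne, zpowers_eq_bot])
    have h4 := hM.2 _ h3
    have hcyc : IsCyclic G := ⟨x, fun y => mem_zpowers_iff.mp (by rw [h4]; exact mem_top y)⟩
    exact ⟨⟨fun a b => (hcyc.commGroup).mul_comm a b⟩⟩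
  have hFne : Fitm M ≠ ⊥ := by
    intro h
    haveI : Nontrivial M := (nontrivial_iff_ne_bot M).mpr hMne
    apply generalizedFittingSubgroup_ne_bot (G := M)
    rw [hgM]
    exact (map_eq_bot_iff_of_injective _ M.subtype_injective).mp h
  obtain ⟨p, hp, hpM⟩ : ∃ p : ℕ, p.Prime ∧ Opm p M ≠ ⊥ := by
    by_contra hcon
    push Not at hcon
    apply hFne
    haveI : Fact (Nat.Prime 2) := ⟨Nat.prime_two⟩
    have h3 : Oppm 2 M = ⊥ := by
      by_contra h4
      obtain ⟨q, hq, -, hq2⟩ := exists_other_prime h4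
      exact hq2 (hcon q hq)
    have h5 := Fitm_le_sup (p := 2) (M := M)
    rw [h3, hcon 2 Nat.prime_two, bot_sup_eq] at h5
    exact le_bot_iff.mp h5
  haveI := Fact.mk hp
  have hpN : Opm p N ≠ ⊥ := fun h => hpM (Opm_eq_bot_transfer hFM hFN hCN h)
  have hN' : Oppm p N = ⊥ := by
    by_contra h
    obtain ⟨q, hq, hpq, hqN⟩ := exists_other_prime h
    haveI := Fact.mk hq
    have hqM : Opm q M ≠ ⊥ := fun h => hqN (Opm_eq_bot_transfer hFN hFM hCM h)
    exact key p q hp hq hpq hpM hqM hpN hqN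
  have hM' : Oppm p M = ⊥ := by
    by_contra h
    obtain ⟨q, hq, hpq, hqM⟩ := exists_other_prime h
    haveI := Fact.mk hq
    have hqN : Opm q N ≠ ⊥ := fun h => hqM (Opm_eq_bot_transfer hFM hFN hCN h)
    exact key p q hp hq hpq hpM hqM hpN hqN
  have hfin : ∀ M : Subgroup G, Oppm p M = ⊥ → generalizedFittingSubgroup M = fittingSubgroup M → 
      IsPGroup p (generalizedFittingSubgroup M) := by
    intro M h hg
    have h5 := Fitm_le_sup (p := p) (M := M)
    rw [h, sup_bot_eq] at h5
    have h6 : fittingSubgroup M ≤ pCore p M := (map_le_map_iff_of_injective M.subtype_injective).mp h5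
    rw [hg]
    exact (isPGroup_pCore p).to_le h6
  exact ⟨p, hp, hfin M hM' hgM, hfin N hN' hgN⟩

end CfsgH2
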