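import Cfsg.Agent.H2.Basic
import Cfsg.Agent.H2.ClassSize
import Cfsg.Agent.H2.CopGen
import Cfsg.Agent.H2.GenFitting
import Cfsg.Agent.H1.Coprime
import Cfsg.Agent.H1.ConjAct
import Cfsg.Agent.H1.PUnique
import Cfsg.Agent.H1.FrobComp
import Cfsg.Agent.H3.Hall
import Cfsg.Prelude.Def_OddOrderLocal
import Mathlib.GroupTheory.SpecificGroups.ZGroup

/-! # TI Hall subgroups of separable groups (helper2 library) -/

set_option autoImplicit false

open scoped commutatorElement Pointwise

namespace CfsgH2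

open Subgroup

universe u

variable {G : Type u} [Group G] [Finite G]

/-- an element whose order is coprime to the index of a normal subgroup lies in it -/
theorem mem_of_coprime_relIndex {H N : Subgroup G} (hN : N ≤ normalizer (H : Set G)) {x : G} (hx : x ∈ N)
    (hc : (orderOf x).Coprime (H.relIndex N)) : x ∈ H := by
  haveI : (H.subgroupOf N).Normal := CfsgH1.normal_subgroupOf_of_le_normalizer hN
  let y : N ⧸ H.subgroupOf N := QuotientGroup.mk (⟨x, hx⟩ : N)
  have h1 : orderOf y ∣ orderOf x := by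
    rw [← Subgroup.orderOf_mk x hx]
    exact orderOf_map_dvd (QuotientGroup.mk' (H.subgroupOf N)) ⟨x, hx⟩
  have h2 : orderOf y ∣ H.relIndex N := orderOf_dvd_natCard y
  have h3 : y = 1 := orderOf_eq_one_iff.1 (Nat.eq_one_of_dvd_coprimes hc h1 h2)
  have h4 := (QuotientGroup.eq_one_iff _).1 h3
  exact h4

theorem zpowers_eq_of_orderOf_eq {C : Type*} [Group C] [Finite C] [IsCyclic C] {x y : C} (h : orderOf x = orderOf y) :
    zpowers x = zpowers y := by
  classical
  haveI : Fintype C := Fintype.ofFinite C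
  have key : ∀ x y : C, orderOf x = orderOf y → y ∈ zpowers x := by
    intro x y h
    have hsub : (Finset.univ.filter fun a : C => a ∈ zpowers x) ⊆ Finset.univ.filter fun a : C => a ^ orderOf x = 1 := by
      intro a ha
      rw [Finset.mem_filter] at ha ⊢
      refine ⟨ha.1, ?_⟩
      obtain ⟨k, rfl⟩ := mem_zpowers_iff.1 ha.2
      rw [← zpow_natCast, ← zpow_mul, mul_comm, zpow_mul, zpow_natCast, pow_orderOf_eq_one, one_zpow]
    have hcard : (Finset.univ.filter fun a : C => a ∈ zpowers x).card = orderOf x := by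
      rw [← Fintype.card_subtype, ← Nat.card_eq_fintype_card]
      exact Nat.card_zpowers x
    have heq := Finset.eq_of_subset_of_card_le hsub (by
      rw [hcard]
      exact IsCyclic.card_pow_eq_one_le (orderOf_pos x))
    have hy : y ∈ Finset.univ.filter fun a : C => a ^ orderOf x = 1 := by
      rw [Finset.mem_filter]
      exact ⟨Finset.mem_univ _, by rw [h]; exact pow_orderOf_eq_one y⟩
    rw [← heq, Finset.mem_filter] at hy
    exact hy.2
  exact le_antisymm (zpowers_le.2 (key y x h.symm)) (zpowers_le.2 (key x y h))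

theorem ti_mem {H : Subgroup G} (hTI : Cfsg.IsTISubset (H : Set G)) {g x : G} (hx : x ∈ H) (hx1 : x ≠ 1)
    (h : g * x * g⁻¹ ∈ H) : g ∈ normalizer (H : Set G) := by
  by_contra hg
  exact hx1 (hTI g hg x hx h)

/-- a TI Hall subgroup of its normalizer is a Hall subgroup -/
theorem ti_hall_coprime {H : Subgroup G} (hTI : Cfsg.IsTISubset (H : Set G))
    (hHall : (Nat.card H).Coprime (H.subgroupOf (normalizer (H : Set G))).index) : (Nat.card H).Coprime H.index := by
  set N := normalizer (H : Set G) with hN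
  have hHN : H ≤ N := le_normalizer
  rw [← Subgroup.relIndex_mul_index hHN]
  refine Nat.Coprime.mul_right hHall ?_
  by_contra hcop
  obtain ⟨p, hp, hpH, hpN⟩ := Nat.Prime.not_coprime_iff_dvd.1 hcop
  haveI : Fact p.Prime := ⟨hp⟩
  obtain ⟨⟨x, hxH⟩, hx'⟩ := exists_prime_orderOf_dvd_card' (G := H) p hpH
  have hx : orderOf x = p := by rw [← hx', Subgroup.orderOf_mk]
  have hx1 : x ≠ 1 := by
    rintro rfl
    rw [orderOf_one] at hx
    exact hp.ne_one hx.symm
  have hP : IsPGroup p (zpowers x) := IsPGroup.of_card (n := 1) (by rw [Nat.card_zpowers, hx, pow_one])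
  have h1 := hP.card_modEq_card_fixedPoints (G ⧸ N)
  have h2 : Nat.card (MulAction.fixedPoints (zpowers x) (G ⧸ N)) = 1 := by
    rw [Nat.card_eq_one_iff_unique]
    have key : ∀ y : MulAction.fixedPoints (zpowers x) (G ⧸ N), (y : G ⧸ N) = QuotientGroup.mk 1 := by
      rintro ⟨y, hy⟩
      obtain ⟨g, rfl⟩ := QuotientGroup.mk_surjective y
      have h3 := hy ⟨x, mem_zpowers x⟩
      have h4 : (QuotientGroup.mk (x * g) : G ⧸ N) = QuotientGroup.mk g := h3
      have h5 : g⁻¹ * (x * g) ∈ N := QuotientGroup.eq.1 h4.symm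
      have h6 : orderOf (g⁻¹ * (x * g)) = p := by
        rw [← hx]
        have : g⁻¹ * (x * g) = MulAut.conj g⁻¹ x := by rw [MulAut.conj_apply]; group
        rw [this]
        exact orderOf_injective (MulAut.conj g⁻¹).toMonoidHom (MulAut.conj g⁻¹).injective x
      have h7 : g⁻¹ * (x * g) ∈ H := by
        refine mem_of_coprime_relIndex (N := N) le_rfl h5 ?_
        rw [h6]
        exact Nat.Coprime.coprime_dvd_left hpH hHall
      have h8 : g⁻¹ ∈ N := ti_mem hTI hxH hx1 (by rw [inv_inv, mul_assoc]; exact h7)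
      show (QuotientGroup.mk g : G ⧸ N) = QuotientGroup.mk 1
      rw [QuotientGroup.eq, mul_one]
      exact h8
    refine ⟨⟨fun a b => Subtype.ext ((key a).trans (key b).symm)⟩, ⟨⟨QuotientGroup.mk 1, ?_⟩⟩⟩
    rintro ⟨z, hz⟩
    show (QuotientGroup.mk (z * 1) : G ⧸ N) = QuotientGroup.mk 1
    rw [QuotientGroup.eq, mul_one, mul_one]
    have : z ∈ H := (zpowers_le.2 hxH) hz
    exact inv_mem (hHN this)
  rw [h2] at h1
  have h3 : N.index ≡ 0 [MOD p] := (Nat.modEq_zero_iff_dvd).2 hpN
  have h4 : (1 : ℕ) ≡ 0 [MOD p] := h1.symm.trans h3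
  exact hp.one_lt.ne' (Nat.dvd_one.1 ((Nat.modEq_zero_iff_dvd).1 h4))

theorem exists_ti_kernel {H : Subgroup G} (hTI : Cfsg.IsTISubset (H : Set G)) (hnn : ¬ H.Normal)
    (hHall : (Nat.card H).Coprime (H.subgroupOf (normalizer (H : Set G))).index)
    (hsep : ∃ (n : ℕ) (M : Fin (n + 1) → Subgroup G), M 0 = ⊥ ∧ M (Fin.last n) = ⊤ ∧ Monotone M ∧ (∀ i, (M i).Normal) ∧
      ∀ i : Fin n, (∀ q : ℕ, q.Prime → q ∣ (M i.castSucc).relIndex (M i.succ) → q ∣ Nat.card H) ∨
        ((M i.castSucc).relIndex (M i.succ)).Coprime (Nat.card H)) :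
    ∃ K : Subgroup G, K.Normal ∧ (Nat.card K).Coprime (Nat.card H) ∧ K ⊔ normalizer (H : Set G) = ⊤ ∧
      ∀ K' : Subgroup G, K'.Normal → (Nat.card K').Coprime (Nat.card H) → K' ≤ K := by
  have hHi := ti_hall_coprime hTI hHall
  have hHbot : H ≠ ⊥ := by
    rintro rfl
    exact hnn inferInstance
  have hH1 : Nat.card H ≠ 1 := fun h => hHbot (Subgroup.eq_bot_of_card_eq _ h)
  obtain ⟨K, ⟨hKn, hKc⟩, hKmax⟩ := CfsgH1.exists_maximal_of_set {K : Subgroup G | K.Normal ∧ (Nat.card K).Coprime (Nat.card H)}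
    ⟨⊥, inferInstance, by simp⟩
  haveI := hKn
  have hsup : ∀ K' : Subgroup G, K'.Normal → (K.relIndex K').Coprime (Nat.card H) → K' ≤ K := by
    intro K' hK'n hK'c
    haveI := hK'n
    have h1 : Nat.card ↥(K ⊔ K') = Nat.card K * K.relIndex K' := by
      rw [← Subgroup.relIndex_sup_left, ← Subgroup.relIndex_bot_left, ← Subgroup.relIndex_bot_left]
      exact (Subgroup.relIndex_mul_relIndex ⊥ K (K ⊔ K') bot_le le_sup_left).symm
    have h2 : K ⊔ K' ∈ {K : Subgroup G | K.Normal ∧ (Nat.card K).Coprime (Nat.card H)} := by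
      refine ⟨inferInstance, ?_⟩
      rw [h1]
      exact Nat.Coprime.mul_left hKc hK'c
    rw [← hKmax _ h2 le_sup_left]
    exact le_sup_right
  refine ⟨K, hKn, hKc, ?_, ?_⟩
  · obtain ⟨n, M, hM0, hMl, hMm, hMn, hM⟩ := hsep
    have hKtop : K ≠ ⊤ := by
      rintro rfl
      rw [Subgroup.card_top] at hKc
      exact hH1 (Nat.eq_one_of_dvd_coprimes hKc (Subgroup.card_subgroup_dvd_card H) dvd_rfl)
    obtain ⟨i, hi1, hi2⟩ : ∃ i : Fin n, M i.castSucc ≤ K ∧ ¬ M i.succ ≤ K := by
      by_contra hcon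
      push Not at hcon
      have : ∀ j : Fin (n + 1), M j ≤ K := by
        intro j
        induction j using Fin.induction with
        | zero => rw [hM0]; exact bot_le
        | succ i ih => exact hcon i ih
      apply hKtop
      rw [eq_top_iff, ← hMl]
      exact this _
    have hdvd : K.relIndex (M i.succ) ∣ (M i.castSucc).relIndex (M i.succ) := Subgroup.relIndex_dvd_of_le_left _ hi1
    rcases hM i with hπ | hπ'
    · -- the factor is a π-group
      set M' := M i.succ with hM'
      haveI : M'.Normal := hMn _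
      set L := K ⊔ M' with hL
      have hKL : K ≤ L := le_sup_left
      have hKLrel : K.relIndex L = K.relIndex M' := Subgroup.relIndex_sup_left _ _
      have hne1 : K.relIndex L ≠ 1 := by
        rw [hKLrel]
        intro h
        exact hi2 (Subgroup.relIndex_eq_one.1 h)
      have hLprime : ∀ q : ℕ, q.Prime → q ∣ K.relIndex L → q ∣ Nat.card H := by
        intro q hq hqd
        exact hπ q hq (hqd.trans (hKLrel ▸ hdvd))
      obtain ⟨p, hp, hpd⟩ := Nat.exists_prime_and_dvd hne1
      haveI : Fact p.Prime := ⟨hp⟩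
      have hpH := hLprime p hp hpd
      -- Frattini
      obtain ⟨P⟩ : Nonempty (Sylow p L) := inferInstance
      have hfr := Sylow.normalizer_sup_eq_top P
      obtain ⟨Q⟩ : Nonempty (Sylow p H) := inferInstance
      obtain ⟨S, hS⟩ := CfsgH3.exists_sylow_of_hall H hHi Q
      have hSH : (S : Subgroup G) ≤ H := by
        rw [hS]; rintro _ ⟨y, -, rfl⟩; exact y.2
      obtain ⟨S', hS'⟩ := (P.2.map L.subtype).exists_le_sylow
      obtain ⟨g, hg⟩ := MulAction.exists_smul_eq G S S'
      have hPne : ∃ x ∈ (P : Subgroup L).map L.subtype, x ≠ 1 := by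
        have hpL : p ∣ Nat.card L := by
          refine hpd.trans ?_
          have := Subgroup.relIndex_mul_relIndex ⊥ K L bot_le hKL
          rw [Subgroup.relIndex_bot_left, Subgroup.relIndex_bot_left] at this
          exact ⟨_, by rw [← this, mul_comm]⟩
        have h1 : p ∣ Nat.card (P : Subgroup L) := P.dvd_card_of_dvd_card hpL
        obtain ⟨x, hx⟩ := exists_prime_orderOf_dvd_card' (G := (P : Subgroup L)) p h1
        refine ⟨_, ⟨(x : L), x.2, rfl⟩, ?_⟩
        intro h
        have h2 : x = 1 := Subtype.ext (Subtype.ext h)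
        rw [h2, orderOf_one] at hx
        exact hp.ne_one hx.symm
      have hPconj : ∀ x ∈ (P : Subgroup L).map L.subtype, g⁻¹ * x * g ∈ H := by
        intro x hx
        apply hSH
        have h1 : x ∈ (S' : Subgroup G) := hS' hx
        rw [← hg, Sylow.coe_subgroup_smul, Subgroup.mem_pointwise_smul_iff_inv_smul_mem, ← map_inv, MulAut.smul_def,
          MulAut.conj_apply, inv_inv] at h1
        exact h1
      have hNN : ∀ y ∈ normalizer (((P : Subgroup L).map L.subtype : Subgroup G) : Set G), g⁻¹ * y * g ∈ normalizer (H : Set G) := by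
        intro y hy
        obtain ⟨x, hx, hx1⟩ := hPne
        have h1 : y * x * y⁻¹ ∈ (P : Subgroup L).map L.subtype := (mem_normalizer_iff.1 hy x).1 hx
        refine ti_mem hTI (hPconj x hx) ?_ ?_
        · intro h
          apply hx1
          have h3 : g⁻¹ * x * g⁻¹⁻¹ = 1 := by rw [inv_inv]; exact h
          exact conj_eq_one_iff.1 h3
        · have h2 := hPconj _ h1
          have h3 : g⁻¹ * y * g * (g⁻¹ * x * g) * (g⁻¹ * y * g)⁻¹ = g⁻¹ * (y * x * y⁻¹) * g := by group
          rw [h3]; exact h2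
      -- ⊤ = L ⊔ N
      have hLN : L ⊔ normalizer (H : Set G) = ⊤ := by
        rw [eq_top_iff]
        intro x _
        have h1 : g * x * g⁻¹ ∈ normalizer (((P : Subgroup L).map L.subtype : Subgroup G) : Set G) ⊔ L := by
          rw [hfr]; trivial
        rw [CfsgH1.mem_sup_of_le_normalizer (CfsgH1.le_normalizer_of_normal _ L)] at h1
        obtain ⟨a, ha, b, hb, hab⟩ := h1
        have h2 : x = (g⁻¹ * a * g) * (g⁻¹ * b * g) := by
          calc x = g⁻¹ * (g * x * g⁻¹) * g := by group
            _ = g⁻¹ * (a * b) * g := by rw [hab]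
            _ = _ := by group
        rw [h2]
        refine mul_mem (mem_sup_right (hNN a ha)) (mem_sup_left ?_)
        have := (inferInstance : L.Normal).conj_mem b hb g⁻¹
        rwa [inv_inv] at this
      -- L ≤ K ⊔ H
      have hLKH : L ≤ K ⊔ H := by
        rw [← Subgroup.relIndex_eq_one]
        have h1 : (K ⊔ H).relIndex L ∣ K.relIndex L := Subgroup.relIndex_dvd_of_le_left _ le_sup_left
        have h2 : (K ⊔ H).relIndex L ∣ H.index :=
          (Subgroup.relIndex_dvd_of_le_left _ le_sup_right).trans (relIndex_normal_dvd_index H L)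
        by_contra hne
        obtain ⟨q, hq, hqd⟩ := Nat.exists_prime_and_dvd hne
        have h3 := hLprime q hq (hqd.trans h1)
        exact hq.ne_one (Nat.eq_one_of_dvd_coprimes hHi h3 (hqd.trans h2))
      rw [eq_top_iff, ← hLN]
      refine sup_le (hLKH.trans (sup_le le_sup_left (le_normalizer.trans le_sup_right))) le_sup_right
    · exact absurd (hsup _ (hMn _) (Nat.Coprime.coprime_dvd_left hdvd hπ')) hi2
  · intro K' hK'n hK'c
    refine hsup K' hK'n (Nat.Coprime.coprime_dvd_left ?_ hK'c)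
    rw [← Subgroup.relIndex_bot_left]
    exact Subgroup.relIndex_dvd_of_le_left _ bot_le

/-- fixed points in the kernel -/
theorem ti_fixed {H K : Subgroup G} [hKn : K.Normal] (hTI : Cfsg.IsTISubset (H : Set G))
    (hKc : (Nat.card K).Coprime (Nat.card H)) {h : G} (hh : h ∈ H) (h1 : h ≠ 1) :
    K ⊓ centralizer {h} ≤ centralizer (H : Set G) := by
  rintro x ⟨hxK, hxh⟩
  have hxh' : h * x = x * h := mem_centralizer_singleton_iff'.1 hxh
  have hxN : x ∈ normalizer (H : Set G) := by
    apply ti_mem hTI hh h1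
    rw [← hxh', mul_inv_cancel_right]
    exact hh
  rw [mem_centralizer_iff]
  intro y hy
  have h2 : x * y * x⁻¹ * y⁻¹ ∈ H := mul_mem ((mem_normalizer_iff.1 hxN y).1 hy) (inv_mem hy)
  have h3 : x * y * x⁻¹ * y⁻¹ ∈ K := by
    have : x * (y * x⁻¹ * y⁻¹) = x * y * x⁻¹ * y⁻¹ := by group
    rw [← this]
    exact mul_mem hxK (hKn.conj_mem _ (inv_mem hxK) y)
  have h4 : x * y * x⁻¹ * y⁻¹ ∈ K ⊓ H := ⟨h3, h2⟩
  rw [CfsgH1.inf_eq_bot_of_coprime hKc, mem_bot] at h4
  have h5 : x * y = y * x := by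
    rw [mul_inv_eq_one, mul_inv_eq_iff_eq_mul] at h4
    exact h4
  exact h5.symm

/-- the commutator subgroup of a group normalizing a cyclic group centralizes it -/
theorem commutator_le_centralizer_of_isCyclic {X Z : Subgroup G} (hZ : IsCyclic Z) (hX : X ≤ normalizer (Z : Set G)) :
    ⁅X, X⁆ ≤ centralizer (Z : Set G) := by
  obtain ⟨⟨z, hz⟩, hgen⟩ := hZ.exists_generator
  have hzgen : ∀ y ∈ Z, ∃ k : ℤ, z ^ k = y := by
    intro y hy
    obtain ⟨k, hk⟩ := mem_zpowers_iff.1 (hgen ⟨y, hy⟩)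
    exact ⟨k, congrArg Subtype.val hk⟩
  have hact : ∀ x ∈ X, ∃ k : ℤ, ∀ y ∈ Z, x * y * x⁻¹ = y ^ k := by
    intro x hx
    obtain ⟨k, hk⟩ := hzgen _ ((mem_normalizer_iff.1 (hX hx) z).1 hz)
    refine ⟨k, fun y hy => ?_⟩
    obtain ⟨j, rfl⟩ := hzgen y hy
    rw [← conj_zpow, ← hk, ← zpow_mul, ← zpow_mul, mul_comm]
  rw [commutator_le]
  intro x hx y hy
  rw [mem_centralizer_iff]
  intro w hw
  obtain ⟨a, ha⟩ := hact x hx
  obtain ⟨b, hb⟩ := hact y hy
  -- conjugation by x*y and y*x agree on Z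
  have h1 : ∀ v ∈ Z, (x * y) * v * (x * y)⁻¹ = (y * x) * v * (y * x)⁻¹ := by
    intro v hv
    have hv1 : x * v * x⁻¹ ∈ Z := (mem_normalizer_iff.1 (hX hx) v).1 hv
    have hv2 : y * v * y⁻¹ ∈ Z := (mem_normalizer_iff.1 (hX hy) v).1 hv
    calc (x * y) * v * (x * y)⁻¹ = x * (y * v * y⁻¹) * x⁻¹ := by group
      _ = (v ^ b) ^ a := by rw [ha _ hv2, hb v hv]
      _ = (v ^ a) ^ b := by rw [← zpow_mul, ← zpow_mul, mul_comm]
      _ = y * (x * v * x⁻¹) * y⁻¹ := by rw [hb _ hv1, ha v hv]
      _ = (y * x) * v * (y * x)⁻¹ := by group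
  have hv0 : (y * x)⁻¹ * w * (y * x) ∈ Z := by
    have h2 : (y * x)⁻¹ ∈ normalizer (Z : Set G) := inv_mem (mul_mem (hX hy) (hX hx))
    have := (mem_normalizer_iff.1 h2 w).1 hw
    rwa [inv_inv] at this
  have h2 := h1 _ hv0
  have h3 : (y * x) * ((y * x)⁻¹ * w * (y * x)) * (y * x)⁻¹ = w := by group
  rw [h3] at h2
  have h4 : (x * y) * ((y * x)⁻¹ * w * (y * x)) * (x * y)⁻¹ = ⁅x, y⁆ * w * ⁅x, y⁆⁻¹ := by
    rw [commutatorElement_def]; group
  rw [h4, mul_inv_eq_iff_eq_mul] at h2
  exact h2.symm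

theorem ti_isZGroup {H K : Subgroup G} [hKn : K.Normal] (hTI : Cfsg.IsTISubset (H : Set G)) (hnn : ¬ H.Normal)
    (hKc : (Nat.card K).Coprime (Nat.card H)) (hKN : K ⊔ normalizer (H : Set G) = ⊤)
    (h2 : ∀ P : Sylow 2 H, IsMulCommutative (P : Subgroup H)) : IsZGroup H := by
  have hKH : ¬ K ≤ centralizer (H : Set G) := by
    intro h
    apply hnn
    rw [← normalizer_eq_top_iff, eq_top_iff, ← hKN]
    refine sup_le (h.trans ?_) le_rfl
    exact centralizer_le_normalizer _
  have hno : ∀ (p : ℕ) (hp : p.Prime) (E : Subgroup G), E ≤ H → Nat.card E = p ^ 2 → (∀ e ∈ E, e ^ p = 1) →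
      (∀ x ∈ E, ∀ y ∈ E, x * y = y * x) → False := by
    intro p hp E hEH hEc hexp hab
    haveI : Fact p.Prime := ⟨hp⟩
    have hE1 : E ≠ ⊥ := by
      rintro rfl
      rw [Subgroup.card_bot] at hEc
      have := Nat.one_lt_pow (n := 2) (by norm_num) hp.one_lt
      omega
    obtain ⟨a, haE, ha1⟩ : ∃ a ∈ E, a ≠ 1 := by
      by_contra hcon
      push Not at hcon
      exact hE1 ((Subgroup.eq_bot_iff_forall _).2 hcon)
    obtain ⟨b, hbE, hba⟩ : ∃ b ∈ E, b ∉ zpowers a := by
      by_contra hcon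
      push Not at hcon
      have h1 : Nat.card E ≤ Nat.card (zpowers a) := Subgroup.card_le_of_le hcon
      have h3 : orderOf a ∣ p := orderOf_dvd_of_pow_eq_one (hexp a haE)
      rw [Nat.card_zpowers, hEc] at h1
      have h4 := Nat.le_of_dvd hp.pos h3
      have h5 : p < p ^ 2 := by
        rw [pow_two]
        exact lt_mul_of_one_lt_left hp.pos hp.one_lt
      omega
    apply hKH
    have hpc : (Nat.card K).Coprime p := by
      refine Nat.Coprime.coprime_dvd_right ?_ hKc
      refine dvd_trans ?_ (Subgroup.card_dvd_of_le hEH)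
      rw [hEc]
      exact dvd_pow_self p (by norm_num)
    refine coprime_two_gen hp (A := E) (K := K) (IsPGroup.of_card hEc) hab (CfsgH1.le_normalizer_of_normal E K) hpc haE hbE ?_ ?_ ?_ ?_
    · rw [hexp a haE]; exact one_mem _
    · rw [hexp b hbE]; exact one_mem _
    · exact ti_fixed hTI hKc (hEH haE) ha1
    · intro i
      refine ti_fixed hTI hKc (hEH (mul_mem hbE (pow_mem haE i))) ?_
      intro h
      apply hba
      rw [mul_eq_one_iff_eq_inv] at h
      rw [h]
      exact inv_mem (pow_mem (mem_zpowers a) i)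
  refine ⟨fun p hp P => ?_⟩
  haveI : Fact p.Prime := ⟨hp⟩
  have huniq := CfsgH1.unique_order_p_of_no_elementary (G := (P : Subgroup H)) (p := p) P.2 (by
    intro E hEc hexp hab
    let f : (P : Subgroup H) →* G := H.subtype.comp (P : Subgroup H).subtype
    have hf : Function.Injective f := H.subtype_injective.comp (P : Subgroup H).subtype_injective
    refine hno p hp (E.map f) ?_ ?_ ?_ ?_
    · rintro _ ⟨y, -, rfl⟩
      exact (y : H).2
    · rw [Subgroup.card_map_of_injective hf, hEc]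
    · rintro _ ⟨y, hy, rfl⟩
      rw [← map_pow, hexp y hy, map_one]
    · rintro _ ⟨x, hx, rfl⟩ _ ⟨y, hy, rfl⟩
      rw [← map_mul, ← map_mul, hab x hx y hy])
  by_cases hp2 : p = 2
  · subst hp2
    have hcomm := h2 P
    have h3 : IsCyclic (⊤ : Subgroup (P : Subgroup H)) :=
      CfsgH1.punique_abelian_cyclic P.2 (fun x _ y _ => hcomm.is_comm.comm x y) huniq
    exact isCyclic_of_surjective (Subgroup.topEquiv (G := (P : Subgroup H))).toMonoidHom (Subgroup.topEquiv).surjective
  · rcases CfsgH1.punique_classification P.2 huniq with h3 | ⟨h3, -⟩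
    · exact h3
    · exact absurd h3 hp2

theorem ti_main {H Q : Subgroup G} (hTI : Cfsg.IsTISubset (H : Set G)) (hnn : ¬ H.Normal)
    (hHall : (Nat.card H).Coprime (H.subgroupOf (normalizer (H : Set G))).index)
    (hsep : ∃ (n : ℕ) (M : Fin (n + 1) → Subgroup G), M 0 = ⊥ ∧ M (Fin.last n) = ⊤ ∧ Monotone M ∧ (∀ i, (M i).Normal) ∧
      ∀ i : Fin n, (∀ q : ℕ, q.Prime → q ∣ (M i.castSucc).relIndex (M i.succ) → q ∣ Nat.card H) ∨
        ((M i.castSucc).relIndex (M i.succ)).Coprime (Nat.card H))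
    (h2 : ∀ P : Sylow 2 H, IsMulCommutative (P : Subgroup H))
    (hQ : Q ≤ normalizer (H : Set G)) (hQH : Q ⊓ H = ⊥) (hQH' : Q ⊔ H = normalizer (H : Set G)) :
    (Nat.card ↥(H ⊓ centralizer (Q : Set G))).Coprime (H ⊓ centralizer (Q : Set G)).index ∧
    ∃ N : Subgroup G, N.Normal ∧ N.IsComplement' (H ⊓ centralizer (Q : Set G)) := by
  obtain ⟨K, hKn, hKc, hKN, -⟩ := exists_ti_kernel hTI hnn hHall hsep
  haveI := hKn
  haveI hZ : IsZGroup H := ti_isZGroup hTI hnn hKc hKN h2
  have hHi := ti_hall_coprime hTI hHall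
  -- order of Q
  have hQc : (Nat.card Q).Coprime (Nat.card H) := by
    have h3 : Nat.card Q = H.relIndex (normalizer (H : Set G)) := by
      have h4 := CfsgH1.card_sup_of_disjoint hQ hQH
      rw [hQH'] at h4
      have h5 := Subgroup.relIndex_mul_relIndex ⊥ H (normalizer (H : Set G)) bot_le le_normalizer
      rw [Subgroup.relIndex_bot_left, Subgroup.relIndex_bot_left, h4, mul_comm] at h5
      exact Nat.eq_of_mul_eq_mul_right Nat.card_pos h5.symm
    rw [h3]
    exact hHall.symm
  set C := H ⊓ centralizer (Q : Set G) with hC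
  set M := ⁅H, Q⁆ with hM
  have hHsolv : Group.IsSolvable H := inferInstance
  have hMH : M ≤ H := by rw [hM, ← Subgroup.le_normalizer_iff_commutator_le_left]; exact hQ
  have hMC : M ⊔ C = H := CfsgH1.coprime_commutator_sup hQ hQc (Or.inr hHsolv)
  have hMQ : ⁅M, Q⁆ = M := CfsgH1.coprime_commutator_idem hQ hQc (Or.inr hHsolv)
  have hHM : H ≤ normalizer (M : Set G) := normalizer_commutator_ge_left H Q
  have hQM : Q ≤ normalizer (M : Set G) := normalizer_commutator_ge_right H Q
  -- M centralizes H'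
  have hcent : M ≤ centralizer ((⁅H, H⁆ : Subgroup G) : Set G) := by
    have hcyc : IsCyclic (⁅H, H⁆ : Subgroup G) := by
      have h3 : IsCyclic (commutator H) := IsZGroup.isCyclic_commutator H
      have h4 : (commutator H).map H.subtype = ⁅H, H⁆ := by
        rw [_root_.commutator_def, Subgroup.map_commutator, ← MonoidHom.range_eq_map, Subgroup.range_subtype]
      rw [← h4]
      exact isCyclic_of_surjective _ ((commutator H).equivMapOfInjective H.subtype H.subtype_injective).surjective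
    have hnorm : normalizer (H : Set G) ≤ normalizer ((⁅H, H⁆ : Subgroup G) : Set G) :=
      CfsgH1.normalizer_commutator le_rfl le_rfl
    refine le_trans ?_ (commutator_le_centralizer_of_isCyclic hcyc hnorm)
    exact commutator_mono le_normalizer hQ
  have hMab : ∀ x ∈ M, ∀ y ∈ M, x * y = y * x := by
    haveI : IsZGroup M := IsZGroup.of_injective (f := Subgroup.inclusion hMH) (Subgroup.inclusion_injective hMH)
    have h3 : (Abelianization.of (G := M)).ker ≤ center M := by
      rw [Abelianization.ker_of]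
      intro x hx
      rw [mem_center_iff]
      intro y
      have h4 : (x : G) ∈ ⁅H, H⁆ := by
        have h5 : (x : G) ∈ (commutator M).map M.subtype := ⟨x, hx, rfl⟩
        rw [_root_.commutator_def, Subgroup.map_commutator, ← MonoidHom.range_eq_map, Subgroup.range_subtype] at h5
        exact commutator_mono hMH hMH h5
      exact Subtype.ext ((mem_centralizer_iff.1 (hcent y.2)) x h4).symm
    have h4 := MonoidHom.isMulCommutative_of_isCyclic_of_ker_le_center _ h3
    intro x hx y hy
    exact congrArg Subtype.val (h4.is_comm.comm ⟨x, hx⟩ ⟨y, hy⟩)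
  haveI hMZ : IsZGroup M := IsZGroup.of_injective (f := Subgroup.inclusion hMH) (Subgroup.inclusion_injective hMH)
  -- C ⊓ M = ⊥
  have hCM : C ⊓ M = ⊥ := by
    have h3 := CfsgH1.coprime_abelian_inf hMab hQM (Nat.Coprime.coprime_dvd_right (Subgroup.card_dvd_of_le hMH) hQc)
    rw [hMQ] at h3
    rw [eq_bot_iff, ← h3]
    rintro x ⟨⟨-, hx1⟩, hx2⟩
    exact ⟨⟨hx2, hx1⟩, hx2⟩
  -- |M| and |C| coprime
  have hMCc : (Nat.card M).Coprime (Nat.card C) := by
    by_contra hcop
    obtain ⟨r, hr, hrM, hrC⟩ := Nat.Prime.not_coprime_iff_dvd.1 hcop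
    haveI : Fact r.Prime := ⟨hr⟩
    obtain ⟨⟨x, hxM⟩, hx'⟩ := exists_prime_orderOf_dvd_card' (G := M) r hrM
    obtain ⟨⟨y, hyC⟩, hy'⟩ := exists_prime_orderOf_dvd_card' (G := C) r hrC
    have hx : orderOf x = r := by rw [← hx', Subgroup.orderOf_mk]
    have hy : orderOf y = r := by rw [← hy', Subgroup.orderOf_mk]
    -- M is cyclic, so ⟨x⟩ is normalized by H
    haveI : Group.IsNilpotent M := isNilpotent_of_isMulCommutative (isMulCommutative_of_forall fun a b => Subtype.ext (hMab a a.2 b b.2))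
    haveI hMcyc : IsCyclic M := inferInstance
    have hyH : y ∈ H := hyC.1
    -- y normalizes ⟨x⟩: conjugation preserves the unique subgroup of order r
    have huniq : ∀ w ∈ M, orderOf w = r → zpowers w = zpowers x := by
      intro w hw hwr
      have h3 : zpowers (⟨w, hw⟩ : M) = zpowers (⟨x, hxM⟩ : M) := by
        apply zpowers_eq_of_orderOf_eq
        rw [Subgroup.orderOf_mk, Subgroup.orderOf_mk, hx, hwr]
      have h4 := congrArg (Subgroup.map M.subtype) h3
      rwa [MonoidHom.map_zpowers, MonoidHom.map_zpowers] at h4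
    have hyn : y ∈ normalizer ((zpowers x : Subgroup G) : Set G) := by
      have h3 : y * x * y⁻¹ ∈ M := (mem_normalizer_iff.1 (hHM hyH) x).1 hxM
      have h4 : orderOf (y * x * y⁻¹) = r := by
        rw [← MulAut.conj_apply, ← hx]
        exact orderOf_injective (MulAut.conj y).toMonoidHom (MulAut.conj y).injective x
      have h5 := huniq _ h3 h4
      rw [mem_normalizer_iff_map_conj, MonoidHom.map_zpowers]
      exact h5
    -- ⟨x⟩⟨y⟩ is an r-group in H, contained in a cyclic Sylow subgroup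
    have hxr : IsPGroup r (zpowers x) := IsPGroup.of_card (n := 1) (by rw [Nat.card_zpowers, hx, pow_one])
    have hyr : IsPGroup r (zpowers y) := IsPGroup.of_card (n := 1) (by rw [Nat.card_zpowers, hy, pow_one])
    have hyn' : zpowers y ≤ normalizer ((zpowers x : Subgroup G) : Set G) := zpowers_le.2 hyn
    have hE := hyr.to_sup_of_normal_right' hxr hyn'
    have hEH : zpowers y ⊔ zpowers x ≤ H := sup_le (zpowers_le.2 hyH) (zpowers_le.2 (hMH hxM))
    haveI : IsZGroup ↥(zpowers y ⊔ zpowers x) :=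
      IsZGroup.of_injective (f := Subgroup.inclusion hEH) (Subgroup.inclusion_injective hEH)
    haveI hEcyc : IsCyclic ↥(zpowers y ⊔ zpowers x) := by
      haveI h7 : IsCyclic (⊤ : Subgroup ↥(zpowers y ⊔ zpowers x)) := (hE.to_subgroup ⊤).isCyclic_of_isZGroup
      exact isCyclic_of_surjective (Subgroup.topEquiv (G := ↥(zpowers y ⊔ zpowers x))).toMonoidHom (Subgroup.topEquiv).surjective
    have hxE : x ∈ zpowers y ⊔ zpowers x := mem_sup_right (mem_zpowers x)
    have hyE : y ∈ zpowers y ⊔ zpowers x := mem_sup_left (mem_zpowers y)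
    have h3 : zpowers (⟨y, hyE⟩ : ↥(zpowers y ⊔ zpowers x)) = zpowers (⟨x, hxE⟩ : ↥(zpowers y ⊔ zpowers x)) := by
      apply zpowers_eq_of_orderOf_eq
      rw [Subgroup.orderOf_mk, Subgroup.orderOf_mk, hx, hy]
    have h4 := congrArg (Subgroup.map (zpowers y ⊔ zpowers x).subtype) h3
    rw [MonoidHom.map_zpowers, MonoidHom.map_zpowers] at h4
    have h5 : y ∈ M := by
      have h6 : y ∈ zpowers x := by
        have h7 : y ∈ zpowers y := mem_zpowers y
        have h8 : zpowers y = zpowers x := h4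
        rwa [h8] at h7
      exact (zpowers_le.2 hxM) h6
    have h6 : y ∈ C ⊓ M := ⟨hyC, h5⟩
    rw [hCM, mem_bot] at h6
    rw [h6, orderOf_one] at hy
    exact hr.ne_one hy.symm
  have hCH : C ≤ H := inf_le_left
  -- |H| = |C| * |M|
  have hcardH : Nat.card H = Nat.card C * Nat.card M := by
    have h3 := CfsgH1.card_sup_of_disjoint (hCH.trans hHM) hCM
    rw [sup_comm, hMC] at h3
    exact h3
  have hCi : (Nat.card C).Coprime C.index := by
    rw [← Subgroup.relIndex_mul_index hCH]
    refine Nat.Coprime.mul_right ?_ (Nat.Coprime.coprime_dvd_left (Subgroup.card_dvd_of_le hCH) hHi)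
    have h3 : C.relIndex H = Nat.card M := by
      have h5 := Subgroup.relIndex_mul_relIndex ⊥ C H bot_le hCH
      rw [Subgroup.relIndex_bot_left, Subgroup.relIndex_bot_left, hcardH] at h5
      exact Nat.eq_of_mul_eq_mul_left Nat.card_pos h5
    rw [h3]
    exact hMCc.symm
  refine ⟨hCi, ?_⟩
  -- the complement
  set N := K ⊔ (Q ⊔ M) with hN
  have hCQ : C ≤ normalizer (Q : Set G) := inf_le_right.trans (centralizer_le_normalizer _)
  have hCN : C ≤ normalizer (N : Set G) :=
    CfsgH1.le_normalizer_sup (CfsgH1.le_normalizer_of_normal C K) (CfsgH1.le_normalizer_sup hCQ (hCH.trans hHM))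
  have htop : N ⊔ C = ⊤ := by
    rw [eq_top_iff, ← hKN, ← hQH', ← hMC]
    refine sup_le (le_sup_left.trans le_sup_left) (sup_le ?_ (sup_le ?_ le_sup_right))
    · exact (le_sup_left.trans le_sup_right).trans le_sup_left
    · exact (le_sup_right.trans le_sup_right).trans le_sup_left
  have hNn : N.Normal := by
    rw [← normalizer_eq_top_iff, eq_top_iff, ← htop]
    exact sup_le le_normalizer hCN
  have hNC : N ⊓ C = ⊥ := by
    apply CfsgH1.inf_eq_bot_of_coprime
    have h3 : Nat.card ↥(Q ⊔ M) ∣ Nat.card Q * Nat.card M :=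
      ⟨_, (CfsgH1.card_sup_mul_card_inf hQM).symm⟩
    have h4 : Nat.card N ∣ Nat.card ↥(Q ⊔ M) * Nat.card K := by
      rw [hN, sup_comm]
      exact ⟨_, (CfsgH1.card_sup_mul_card_inf (CfsgH1.le_normalizer_of_normal (Q ⊔ M) K)).symm⟩
    have hCd : Nat.card C ∣ Nat.card H := Subgroup.card_dvd_of_le hCH
    refine Nat.Coprime.coprime_dvd_left (h4.trans (Nat.mul_dvd_mul_right h3 _)) ?_
    exact Nat.Coprime.mul_left (Nat.Coprime.mul_left (hQc.coprime_dvd_right hCd) hMCc) (hKc.coprime_dvd_right hCd)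
  refine ⟨N, hNn, ?_⟩
  haveI := hNn
  exact Subgroup.isComplement'_of_disjoint_and_mul_eq_univ (disjoint_iff.2 hNC) (by
    rw [← Subgroup.normal_mul, htop, Subgroup.coe_top])

end CfsgH2
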