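import Mathlib
import Cfsg.Agent.H3.PBasic
import Cfsg.Agent.H3.NPC2
import Cfsg.Agent.H3.PCentral
import Cfsg.Agent.H7.Core
import Cfsg.Agent.H1.ConjAct
import Cfsg.Agent.H1.CoprimeSylow
import Cfsg.Agent.H1.Syl
import Cfsg.Agent.H2.TIHall
import Cfsg.Agent.H2.LocalN
import Cfsg.Prelude.Def_Local
import Cfsg.Prelude.Def_Transfer

/-! # Cyclic Sylow subgroups (helper2 library) -/

set_option autoImplicit false

namespace CfsgH2

open Subgroup CfsgH1
open scoped commutatorElement Pointwise

universe u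
variable {G : Type u} [Group G] [Finite G] {p : ℕ} [Fact p.Prime]

/-- a `p'`-element acting on a cyclic `p`-group and fixing a nontrivial element acts trivially -/
theorem cyc_centralizes {V : Subgroup G} (hV : IsPGroup p V) (hc : IsCyclic V) {a : G} (ha : (orderOf a).Coprime p)
    (haV : a ∈ normalizer (V : Set G)) {u : G} (hu : u ∈ V) (hu1 : u ≠ 1) (hau : a * u = u * a) :
    ∀ v ∈ V, a * v = v * a := by
  have hab : ∀ x ∈ V, ∀ y ∈ V, x * y = y * x := by
    intro x hx y hy
    have := (IsCyclic.commGroup (α := V)).mul_comm ⟨x, hx⟩ ⟨y, hy⟩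
    exact congrArg Subtype.val this
  have hAV : zpowers a ≤ normalizer (V : Set G) := zpowers_le.2 haV
  obtain ⟨n, hn⟩ := IsPGroup.iff_card.1 hV
  have hcop : (Nat.card (zpowers a)).Coprime (Nat.card V) := by
    rw [Nat.card_zpowers, hn]
    exact Nat.Coprime.pow_right n ha
  -- an element of order p commuting with a
  obtain ⟨w, hw, hwo, haw⟩ : ∃ w ∈ V, orderOf w = p ∧ a * w = w * a := by
    obtain ⟨k, hk⟩ := (IsPGroup.iff_orderOf.1 hV) ⟨u, hu⟩
    rw [Subgroup.orderOf_mk] at hk
    have hk0 : k ≠ 0 := by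
      rintro rfl
      rw [pow_zero, orderOf_eq_one_iff] at hk
      exact hu1 hk
    refine ⟨u ^ p ^ (k - 1), pow_mem hu _, ?_, ?_⟩
    · rw [orderOf_pow' u (pow_ne_zero _ (Fact.out : p.Prime).ne_zero), hk,
        Nat.gcd_eq_right (pow_dvd_pow p (Nat.sub_le k 1)), Nat.pow_div (Nat.sub_le k 1) (Fact.out : p.Prime).pos]
      rw [Nat.sub_sub_self (Nat.one_le_iff_ne_zero.2 hk0), pow_one]
    · exact (Commute.pow_right (show Commute a u from hau) _)
  have h1 := coprime_abelian_trivial_of_prime hab hAV hcop (by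
    intro v hv hvp b hb
    obtain ⟨k, hk⟩ := (IsPGroup.iff_orderOf.1 hV) ⟨v, hv⟩
    rw [Subgroup.orderOf_mk] at hk
    have hvo : orderOf v = p := by
      rw [hk] at hvp ⊢
      rw [Nat.Prime.eq_one_of_pow hvp, pow_one]
    have h2 : zpowers (⟨v, hv⟩ : V) = zpowers (⟨w, hw⟩ : V) := by
      apply zpowers_eq_of_orderOf_eq
      rw [Subgroup.orderOf_mk, Subgroup.orderOf_mk, hvo, hwo]
    have h3 : (⟨v, hv⟩ : V) ∈ zpowers (⟨w, hw⟩ : V) := by rw [← h2]; exact mem_zpowers _
    obtain ⟨i, hi⟩ := h3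
    have h4 : w ^ i = v := by simpa using congrArg Subtype.val hi
    obtain ⟨j, hj⟩ := hb
    change a ^ j = b at hj
    rw [← hj, ← h4]
    have h5 : Commute a w := haw
    exact (h5.zpow_zpow j i))
  intro v hv
  have h2 : ⁅v, a⁆ ∈ ⁅V, zpowers a⁆ := commutator_mem_commutator hv (mem_zpowers a)
  rw [h1, Subgroup.mem_bot, commutatorElement_eq_one_iff_mul_comm] at h2
  exact h2.symm

theorem cyc_centralizes_of_commutator {V W : Subgroup G} (hV : IsPGroup p V) (hc : IsCyclic V) {a : G}
    (ha : (orderOf a).Coprime p) (haV : a ∈ normalizer (V : Set G)) (hW : ⁅V, zpowers a⁆ ≤ W) (hWV : ¬ V ≤ W) :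
    ∀ v ∈ V, a * v = v * a := by
  have hAV : zpowers a ≤ normalizer (V : Set G) := zpowers_le.2 haV
  obtain ⟨n, hn⟩ := IsPGroup.iff_card.1 hV
  have hcop : (Nat.card (zpowers a)).Coprime (Nat.card V) := by
    rw [Nat.card_zpowers, hn]
    exact Nat.Coprime.pow_right n ha
  have hsol : Group.IsSolvable V := by
    haveI := hV.isNilpotent
    infer_instance
  have h1 := coprime_commutator_sup hAV hcop (Or.inr hsol)
  by_cases hb : V ⊓ centralizer (zpowers a : Set G) = ⊥
  · exfalso
    rw [hb, sup_bot_eq] at h1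
    rw [h1] at hW
    exact hWV hW
  · obtain ⟨⟨u, hu⟩, hu1'⟩ := Subgroup.ne_bot_iff_exists_ne_one.1 hb
    have hu1 : u ≠ 1 := fun h => hu1' (Subtype.ext h)
    exact cyc_centralizes hV hc ha haV hu.1 hu1 ((mem_centralizer_iff.1 hu.2) a (mem_zpowers a))

/-- a cyclic Sylow subgroup and a nontrivial normal `p`-subgroup -/
theorem cyc_chain (P : Sylow p G) (hP : IsCyclic (P : Subgroup G)) {V : Subgroup G} [V.Normal] (hV : IsPGroup p V)
    (hVb : V ≠ ⊥) : ∃ D C : Subgroup G, D.Normal ∧ C.Normal ∧ D ≤ C ∧ (Nat.card D).Coprime p ∧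
      (∃ m, D.relIndex C = p ^ m) ∧ C.index.Coprime p := by
  have hVP : V ≤ P := IsPGroup.le_sylow_of_normal hV P
  have hab : ∀ x ∈ (P : Subgroup G), ∀ y ∈ (P : Subgroup G), x * y = y * x := by
    intro x hx y hy
    have := (IsCyclic.commGroup (α := (P : Subgroup G))).mul_comm ⟨x, hx⟩ ⟨y, hy⟩
    exact congrArg Subtype.val this
  obtain ⟨C, hC⟩ : ∃ C : Subgroup G, C = centralizer (V : Set G) := ⟨_, rfl⟩
  have hCn : C.Normal := by rw [hC]; infer_instance
  have hPC : (P : Subgroup G) ≤ C := by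
    rw [hC]
    intro x hx
    rw [mem_centralizer_iff]
    intro v hv
    exact hab v (hVP hv) x hx
  have hnpc : CfsgH3.HasNPC p C := by
    apply CfsgH3.hasNPC_burnside (P.subtype hPC)
    intro y hy
    obtain ⟨a, ha, b, hb, hyab, hcop, k, hk⟩ := CfsgH3.exists_pPart (p := p) y (orderOf_pos y).ne'
    have haN := (zpowers_le.2 hy) ha
    have hbN := (zpowers_le.2 hy) hb
    have hbP : (b : C) ∈ ((P.subtype hPC : Sylow p C) : Subgroup C) := CfsgH3.mem_sylow_of_normalizer _ hk hbN
    have hPs : ((P.subtype hPC : Sylow p C) : Subgroup C) = (P : Subgroup G).subgroupOf C := rfl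
    change a ∈ normalizer (((P.subtype hPC : Sylow p C) : Subgroup C) : Set C) at haN
    have haNG : (a : G) ∈ normalizer ((P : Subgroup G) : Set G) := by
      rw [Subgroup.mem_normalizer_iff] at haN ⊢
      intro h
      constructor
      · intro hh
        have := (haN ⟨h, hPC hh⟩).1 (by change _ ∈ ((P.subtype hPC : Sylow p C) : Subgroup C); rw [hPs]; exact hh)
        exact this
      · intro hh
        have hhC : h ∈ C := by
          have h1 := C.mul_mem (C.mul_mem (C.inv_mem a.2) (hPC hh)) a.2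
          have h2 : (a : G)⁻¹ * (a * h * (a : G)⁻¹) * a = h := by group
          rwa [h2] at h1
        exact (haN ⟨h, hhC⟩).2 hh
    obtain ⟨⟨u, hu⟩, hu1'⟩ := Subgroup.ne_bot_iff_exists_ne_one.1 hVb
    have hu1 : u ≠ 1 := fun h => hu1' (Subtype.ext h)
    have haC : (a : G) ∈ centralizer (V : Set G) := by rw [← hC]; exact a.2
    have h1 := cyc_centralizes P.2 hP (a := (a : G)) (by rw [Subgroup.orderOf_coe]; exact hcop) haNG (hVP hu) hu1
      ((mem_centralizer_iff.1 haC) u hu).symm
    rw [mem_centralizer_iff]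
    intro z hz
    have hzP : (z : G) ∈ (P : Subgroup G) := hz
    apply Subtype.ext
    change (z : G) * (y : G) = (y : G) * (z : G)
    have h2 : (y : G) = (a : G) * (b : G) := congrArg Subtype.val hyab
    have h3 : (a : G) * z = z * a := h1 z hzP
    have h4 : (z : G) * b = b * z := hab z hzP b hbP
    rw [h2]
    calc (z : G) * (a * b) = (z * a) * b := by group
      _ = a * (z * b) := by rw [← h3]; group
      _ = a * b * z := by rw [h4]; group
  obtain ⟨m, hm⟩ := CfsgH3.exists_index_pResidual (p := p) (G := C)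
  have hcard := CfsgH3.hasNPC_iff_card.1 hnpc
  haveI := CfsgH7.pResidual_characteristic' p C
  refine ⟨(Cfsg.pResidual p C).map C.subtype, C, ?_, hCn, Subgroup.map_subtype_le _, ?_, ⟨m, ?_⟩, ?_⟩
  · exact ConjAct.normal_of_characteristic_of_normal
  · rw [Subgroup.card_map_of_injective C.subtype_injective]; exact hcard
  · rw [Subgroup.relIndex, Subgroup.subgroupOf, Subgroup.comap_map_eq_self_of_injective C.subtype_injective]
    exact hm
  · refine Nat.Coprime.coprime_dvd_left (Subgroup.index_dvd_of_le hPC) ?_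
    exact ((Nat.Prime.coprime_iff_not_dvd Fact.out).2 P.not_dvd_index).symm

theorem cyc_normal_npc (P : Sylow p G) (hP : IsCyclic (P : Subgroup G)) (H : Subgroup G) [H.Normal]
    (h2 : p ∣ H.index) : CfsgH3.HasNPC p H := by
  have hab : ∀ x ∈ (P : Subgroup G), ∀ y ∈ (P : Subgroup G), x * y = y * x := by
    intro x hx y hy
    have := (IsCyclic.commGroup (α := (P : Subgroup G))).mul_comm ⟨x, hx⟩ ⟨y, hy⟩
    exact congrArg Subtype.val this
  have hnle : ¬ (P : Subgroup G) ≤ (P : Subgroup G) ⊓ H := by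
    intro h
    have h3 : H.index ∣ (P : Subgroup G).index := Subgroup.index_dvd_of_le (h.trans inf_le_right)
    exact P.not_dvd_index (h2.trans h3)
  -- elements of N_H(P) centralize P
  have hstep1 : ∀ y ∈ H, y ∈ normalizer ((P : Subgroup G) : Set G) → ∀ v ∈ (P : Subgroup G), y * v = v * y := by
    intro y hyH hyN
    obtain ⟨a, ha, b, hb, hyab, hcop, k, hk⟩ := CfsgH3.exists_pPart (p := p) y (orderOf_pos y).ne'
    have haN := (zpowers_le.2 hyN) ha
    have hbN := (zpowers_le.2 hyN) hb
    have haH := (zpowers_le.2 hyH) ha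
    have hbP : b ∈ (P : Subgroup G) := CfsgH3.mem_sylow_of_normalizer _ hk hbN
    have h1 := cyc_centralizes_of_commutator (W := (P : Subgroup G) ⊓ H) P.2 hP hcop haN (by
      refine le_inf ?_ ?_
      · rw [← Subgroup.le_normalizer_iff_commutator_le_left]; exact zpowers_le.2 haN
      · exact (commutator_mono le_top (zpowers_le.2 haH)).trans (commutator_le_right ⊤ H)) hnle
    intro v hv
    have h3 := h1 v hv
    have h4 := hab b hbP v hv
    rw [hyab]
    calc a * b * v = a * (b * v) := by group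
      _ = (a * v) * b := by rw [h4]; group
      _ = v * (a * b) := by rw [h3]; group
  -- elements of N_H(P ∩ H) centralize P ∩ H
  have hstep2 : ∀ y ∈ H, y ∈ normalizer (((P : Subgroup G) ⊓ H : Subgroup G) : Set G) →
      ∀ v ∈ (P : Subgroup G) ⊓ H, y * v = v * y := by
    intro y hyH hyN
    obtain ⟨K, hK⟩ : ∃ K : Subgroup G, K = ((P : Subgroup G) ⊔ H) ⊓ centralizer (((P : Subgroup G) ⊓ H : Subgroup G) : Set G) := ⟨_, rfl⟩
    have hPK : (P : Subgroup G) ≤ K := by
      rw [hK]
      refine le_inf le_sup_left ?_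
      intro x hx
      rw [mem_centralizer_iff]
      intro v hv
      exact hab v hv.1 x hx
    have hyK : y ∈ normalizer (K : Set G) := by
      rw [hK]
      have hyPH : y ∈ (P : Subgroup G) ⊔ H := Subgroup.mem_sup_right hyH
      have h1 : y ∈ normalizer (((P : Subgroup G) ⊔ H : Subgroup G) : Set G) := Subgroup.le_normalizer hyPH
      have h2 : y ∈ normalizer ((centralizer (((P : Subgroup G) ⊓ H : Subgroup G) : Set G) : Subgroup G) : Set G) :=
        normalizer_le_normalizer_centralizer _ hyN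
      rw [Subgroup.mem_normalizer_iff] at h1 h2 ⊢
      intro h
      rw [Subgroup.mem_inf, Subgroup.mem_inf, h1 h, h2 h]
    have hPs : IsSylowOf p (P : Subgroup G) K := isSylowOf_of_le (sylow_isSylowOf P) hPK le_top
    obtain ⟨k, hk, hky⟩ := frattini_arg hPs hyK
    rw [hK] at hk
    obtain ⟨w, hw, z, hz, hwz⟩ := Subgroup.mem_sup_of_normal_right.1 hk.1
    have hkc : ∀ v ∈ (P : Subgroup G) ⊓ H, k * v = v * k := fun v hv => ((mem_centralizer_iff.1 hk.2) v hv).symm
    -- z = w⁻¹ k centralizes P ⊓ H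
    have hzy : z * y ∈ normalizer ((P : Subgroup G) : Set G) := by
      have h1 : z * y = w⁻¹ * (k * y) := by rw [← hwz]; group
      rw [h1]
      exact mul_mem (inv_mem (Subgroup.le_normalizer hw)) hky
    have h1 := hstep1 (z * y) (H.mul_mem hz hyH) hzy
    intro v hv
    have h3 := h1 v hv.1
    have h4 : z * v = v * z := by
      have h5 : z = w⁻¹ * k := by rw [← hwz]; group
      rw [h5]
      have h6 := hab w hw v hv.1
      calc w⁻¹ * k * v = w⁻¹ * (k * v) := by group
        _ = w⁻¹ * (v * w) * (w⁻¹ * k) := by rw [hkc v hv]; group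
        _ = v * (w⁻¹ * k) := by rw [← h6]; group
    have h7 : z * (y * v) = z * (v * y) := by
      calc z * (y * v) = z * y * v := by group
        _ = v * (z * y) := h3
        _ = (v * z) * y := by group
        _ = z * (v * y) := by rw [← h4]; group
    exact mul_left_cancel h7
  obtain ⟨Q, hQ⟩ := CfsgH3.exists_sylow_inf_normal P H
  apply CfsgH3.hasNPC_burnside Q
  intro y hy
  change y ∈ normalizer ((Q : Subgroup H) : Set H) at hy
  rw [mem_centralizer_iff]
  intro z hz
  have hz' : (z : G) ∈ (P : Subgroup G) := by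
    have : z ∈ (P : Subgroup G).subgroupOf H := by rw [← hQ]; exact hz
    exact this
  apply Subtype.ext
  have := hstep2 y y.2 (by
    rw [Subgroup.mem_normalizer_iff] at hy ⊢
    intro h
    constructor
    · intro hh
      have h1 : (⟨h, hh.2⟩ : H) ∈ (Q : Subgroup H) := by rw [hQ]; exact hh.1
      have h3 := (hy _).1 h1
      have h4 : (y * ⟨h, hh.2⟩ * y⁻¹ : H) ∈ (P : Subgroup G).subgroupOf H := by rw [← hQ]; exact h3
      exact Subgroup.mem_inf.2 ⟨h4, (y * ⟨h, hh.2⟩ * y⁻¹ : H).2⟩
    · intro hh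
      have hhH : h ∈ H := by
        have h1 := H.mul_mem (H.mul_mem (H.inv_mem y.2) hh.2) y.2
        have h2 : (y : G)⁻¹ * (y * h * (y : G)⁻¹) * y = h := by group
        rwa [h2] at h1
      have h4 : (y * ⟨h, hhH⟩ * y⁻¹ : H) ∈ (Q : Subgroup H) := by rw [hQ]; exact hh.1
      have h3 := (hy ⟨h, hhH⟩).2 h4
      have h5 : (⟨h, hhH⟩ : H) ∈ (P : Subgroup G).subgroupOf H := by rw [← hQ]; exact h3
      exact Subgroup.mem_inf.2 ⟨h5, hhH⟩) z (Subgroup.mem_inf.2 ⟨hz', z.2⟩)
  exact this.symm

theorem cyc_psolvable (P : Sylow p G) (hP : IsCyclic (P : Subgroup G)) (H : Subgroup G) [H.Normal] 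
    (h1 : p ∣ Nat.card H) (hnpc : CfsgH3.HasNPC p H) : Cfsg.IsPSolvable p G := by
  have hcard := CfsgH3.hasNPC_iff_card.1 hnpc
  obtain ⟨m, hm⟩ := CfsgH3.exists_index_pResidual (p := p) (G := H)
  haveI := CfsgH7.pResidual_characteristic' p H
  obtain ⟨K, hK⟩ : ∃ K : Subgroup G, K = (Cfsg.pResidual p H).map H.subtype := ⟨_, rfl⟩
  have hKn : K.Normal := by rw [hK]; exact ConjAct.normal_of_characteristic_of_normal
  have hKcard : (Nat.card K).Coprime p := by
    rw [hK, Subgroup.card_map_of_injective H.subtype_injective]; exact hcard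
  have hKH : K ≤ H := by rw [hK]; exact Subgroup.map_subtype_le _
  have hrel : K.relIndex H = p ^ m := by
    rw [hK, Subgroup.relIndex, Subgroup.subgroupOf, Subgroup.comap_map_eq_self_of_injective H.subtype_injective]
    exact hm
  obtain ⟨f, hf⟩ : ∃ f : G →* G ⧸ K, f = QuotientGroup.mk' K := ⟨_, rfl⟩
  have hfs : Function.Surjective f := by rw [hf]; exact QuotientGroup.mk'_surjective K
  have hker : f.ker = K := by rw [hf]; exact QuotientGroup.ker_mk' K
  have hcardV : Nat.card (H.map f) = p ^ m := by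
    rw [← Subgroup.relIndex_ker, hker, hrel]
  haveI hVn : (H.map f).Normal := Subgroup.Normal.map inferInstance f hfs
  have hVb : H.map f ≠ ⊥ := by
    intro hb
    rw [hb, Subgroup.card_bot] at hcardV
    have h3 : K.relIndex H * Nat.card K = Nat.card H := by
      have h4 := Subgroup.relIndex_mul_relIndex ⊥ K H bot_le hKH
      rw [Subgroup.relIndex_bot_left, Subgroup.relIndex_bot_left] at h4
      rw [mul_comm]; exact h4
    rw [hrel, ← hcardV, one_mul] at h3
    rw [← h3] at h1
    exact (Nat.Prime.coprime_iff_not_dvd Fact.out).1 hKcard.symm h1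
  have hPc : IsCyclic ((P.mapSurjective hfs : Sylow p (G ⧸ K)) : Subgroup (G ⧸ K)) := by
    rw [Sylow.coe_mapSurjective]
    exact isCyclic_of_surjective (f.subgroupMap (P : Subgroup G)) (f.subgroupMap_surjective _)
  obtain ⟨D, C, hDn, hCn, hDC, hDcard, ⟨j, hj⟩, hCi⟩ := cyc_chain (P.mapSurjective hfs) hPc
    (IsPGroup.of_card hcardV) hVb
  refine ⟨3, ![⊥, D.comap f, C.comap f, ⊤], rfl, rfl, ?_, ?_, ?_⟩
  · rw [Fin.monotone_iff_le_succ]
    intro i
    fin_cases i
    · exact bot_le
    · exact Subgroup.comap_mono hDC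
    · exact le_top
  · intro i
    fin_cases i
    · exact Subgroup.normal_bot
    · exact hDn.comap f
    · exact hCn.comap f
    · exact Subgroup.normal_top
  · intro i
    fin_cases i
    · right
      change ((⊥ : Subgroup G).relIndex (D.comap f)).Coprime p
      rw [Subgroup.relIndex_bot_left]
      have h3 : Nat.card (D.comap f) = Nat.card K * Nat.card D := by
        subst hf
        exact QuotientGroup.card_preimage_mk K (D : Set (G ⧸ K))
      rw [h3]
      exact Nat.Coprime.mul_left hKcard hDcard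
    · left
      refine ⟨j, ?_⟩
      change (D.comap f).relIndex (C.comap f) = _
      rw [Subgroup.relIndex_comap, Subgroup.map_comap_eq_self_of_surjective hfs, hj]
    · right
      change ((C.comap f).relIndex ⊤).Coprime p
      rw [Subgroup.relIndex_top_right, Subgroup.index_comap_of_surjective C hfs]
      exact hCi

end CfsgH2
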