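import Cfsg.Agent.H2.Basic
import Cfsg.Agent.H2.ClassSize
import Mathlib.LinearAlgebra.Matrix.Charpoly.FiniteField
import Mathlib.GroupTheory.Perm.Cycle.Type

/-! # Friendship theorem (regular case) (helper2 library) -/

set_option autoImplicit false

namespace CfsgH2

open Matrix

theorem friendship_regular {V : Type*} [Fintype V] [Nonempty V] (adj : V → V → Prop) (hsymm : ∀ v w, adj v w → adj w v)
    (hirr : ∀ v, ¬ adj v v) (k : ℕ) (hk : ∀ v, Nat.card {w // adj v w} = k)
    (hf : ∀ v w, v ≠ w → ∃! z, adj v z ∧ adj w z) (hk3 : 3 ≤ k) : False := by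
  classical
  obtain ⟨p, hp, hpd⟩ := Nat.exists_prime_and_dvd (show k - 1 ≠ 1 by omega)
  haveI : Fact p.Prime := ⟨hp⟩
  have hk1 : (k : ZMod p) = 1 := by
    have h1 : ((k - 1 : ℕ) : ZMod p) = 0 := (ZMod.natCast_eq_zero_iff _ _).2 hpd
    rw [Nat.cast_sub (by omega)] at h1
    rw [← sub_eq_zero]
    simpa using h1
  obtain ⟨M, hM⟩ : ∃ M : Matrix V V (ZMod p), ∀ v w, M v w = if adj v w then 1 else 0 := ⟨fun v w => if adj v w then 1 else 0, fun _ _ => rfl⟩
  obtain ⟨J, hJ⟩ : ∃ J : Matrix V V (ZMod p), ∀ v w, J v w = 1 := ⟨fun _ _ => 1, fun _ _ => rfl⟩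
  have hcount : ∀ (q : V → Prop) [DecidablePred q], (∑ z, if q z then (1 : ZMod p) else 0) = (Nat.card {z // q z} : ZMod p) := by
    intro q _
    rw [Finset.sum_boole, Nat.card_eq_fintype_card, Fintype.card_subtype]
  have hMJ : M * J = J := by
    ext v w
    simp only [Matrix.mul_apply, hM, hJ, mul_one]
    rw [hcount, hk, hk1]
  have hMM : M * M = J := by
    ext v w
    simp only [Matrix.mul_apply, hM, hJ]
    have : ∀ z, ((if adj v z then (1 : ZMod p) else 0) * if adj z w then 1 else 0) = if (adj v z ∧ adj z w) then 1 else 0 := by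
      intro z
      split_ifs <;> simp_all
    rw [Finset.sum_congr rfl (fun z _ => this z), hcount]
    by_cases hvw : v = w
    · subst hvw
      have : Nat.card {z // adj v z ∧ adj z v} = k := by
        rw [← hk v]
        exact Nat.card_congr (Equiv.subtypeEquivRight fun z => ⟨fun h => h.1, fun h => ⟨h, hsymm _ _ h⟩⟩)
      rw [this, hk1]
    · obtain ⟨z, hz, hz'⟩ := hf v w hvw
      have : Nat.card {z // adj v z ∧ adj z w} = 1 := by
        rw [Nat.card_eq_one_iff_unique]
        refine ⟨⟨fun a b => Subtype.ext ?_⟩, ⟨⟨z, hz.1, hsymm _ _ hz.2⟩⟩⟩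
        rw [hz' a ⟨a.2.1, hsymm _ _ a.2.2⟩, hz' b ⟨b.2.1, hsymm _ _ b.2.2⟩]
      rw [this, Nat.cast_one]
  have hpow : ∀ n : ℕ, M ^ (n + 2) = J := by
    intro n
    induction n with
    | zero => rw [zero_add, pow_two, hMM]
    | succ n ih => rw [show n + 1 + 2 = (n + 2) + 1 by ring, pow_succ', ih, hMJ]
  have hJJ : J * J = J := by
    rw [← hMM, Matrix.mul_assoc, hMM, hMJ, hMJ]
  obtain ⟨v⟩ := (inferInstance : Nonempty V)
  have hcard : (Fintype.card V : ZMod p) = 1 := by
    have h1 := congrFun (congrFun hJJ v) v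
    simpa [Matrix.mul_apply, hJ] using h1
  have htr := ZMod.trace_pow_card M
  have hp2 : p = (p - 2) + 2 := by have := hp.two_le; omega
  have h2 : Matrix.trace (M ^ p) = (Fintype.card V : ZMod p) := by
    have h5 : M ^ p = J := by
      have h4 := hpow (p - 2)
      rwa [← hp2] at h4
    rw [h5]
    simp [Matrix.trace, hJ]
  have h3 : Matrix.trace M = 0 := by
    simp [Matrix.trace, hM, hirr]
  rw [h2, h3, hcard, zero_pow hp.ne_zero] at htr
  exact one_ne_zero htr

end CfsgH2
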