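import Cfsg.Agent.H2.Friend
import Cfsg.Prelude.Def_OddOrderLocal

/-! # S4018: a friendship graph argument (helper2 library) -/

set_option autoImplicit false

namespace CfsgH2

open Subgroup

theorem not_simple_of_friend {G : Type*} [Group G] [Finite G]
    (P : Sylow 3 G) (hab : IsMulCommutative P)
    (hN : Nat.card (Subgroup.normalizer ((P : Subgroup G) : Set G)) = 4 * Nat.card P)
    (hC : Nat.card (Subgroup.centralizer (P : Set G)) = 2 * Nat.card P)
    (hTI : Cfsg.IsTISubset (Subgroup.centralizer (P : Set G) : Set G))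
    (heven : ∀ H : Subgroup G, H ≠ ⊤ → 2 ∣ Nat.card H → Nat.card H ∣ 4 * Nat.card P) :
    ¬ IsSimpleGroup G := by
  intro hS
  classical
  haveI : Fact (Nat.Prime 2) := ⟨Nat.prime_two⟩
  set C : Subgroup G := centralizer (P : Set G) with hCdef
  set N : Subgroup G := normalizer ((P : Subgroup G) : Set G) with hNdef
  have hPC : (P : Subgroup G) ≤ C := by
    intro x hx
    rw [hCdef, mem_centralizer_iff]
    intro y hy
    exact congrArg Subtype.val (hab.is_comm.comm ⟨y, hy⟩ ⟨x, hx⟩)
  obtain ⟨n, hn⟩ := IsPGroup.iff_card.1 P.2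
  have hn' : Nat.card P = 3 ^ n := hn
  have hn0 : n ≠ 0 := by
    rintro rfl
    rw [pow_zero] at hn'
    have h1 : (P : Subgroup G) = ⊥ := Subgroup.eq_bot_of_card_eq _ hn'
    have h2 : C = ⊤ := by
      rw [eq_top_iff]
      intro x _
      rw [hCdef, mem_centralizer_iff]
      intro y hy
      have : y ∈ (P : Subgroup G) := hy
      rw [h1, mem_bot] at this
      rw [this, one_mul, mul_one]
    have h3 : Nat.card N ≤ Nat.card C := by
      rw [h2]
      exact Subgroup.card_le_of_le le_top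
    rw [hN, hC, hn'] at h3
    omega
  have hPodd : ∀ q ∈ (P : Subgroup G), q * q = 1 → q = 1 := by
    intro q hq hqq
    have h1 : orderOf q ∣ 2 := orderOf_dvd_of_pow_eq_one (by rw [pow_two]; exact hqq)
    have h2 : orderOf q ∣ 3 ^ n := by
      rw [← hn]; exact Subgroup.orderOf_dvd_natCard _ hq
    have h3 : Nat.Coprime 2 (3 ^ n) := Nat.Coprime.pow_right n (by norm_num)
    exact orderOf_eq_one_iff.1 (Nat.eq_one_of_dvd_coprimes h3 h1 h2)
  obtain ⟨⟨t, htC⟩, ht'⟩ := exists_prime_orderOf_dvd_card' (G := C) 2 (by rw [hC]; exact Dvd.intro _ rfl)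
  have ht2 : orderOf t = 2 := by rw [← ht', Subgroup.orderOf_mk]
  have htt : t * t = 1 := by rw [← pow_two, ← ht2, pow_orderOf_eq_one]
  have ht1 : t ≠ 1 := by rintro rfl; simp at ht2
  have hidx : ((P : Subgroup G).subgroupOf C).index = 2 := by
    have h1 := Subgroup.card_mul_index ((P : Subgroup G).subgroupOf C)
    have h2 : Nat.card ((P : Subgroup G).subgroupOf C) = Nat.card P :=
      Nat.card_congr (Subgroup.subgroupOfEquivOfLe hPC).toEquiv
    rw [h2, hC] at h1
    have h3 : 0 < Nat.card P := Nat.card_pos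
    exact Nat.eq_of_mul_eq_mul_left h3 (by rw [h1, mul_comm])
  have huniq : ∀ x ∈ C, x * x = 1 → x ≠ 1 → x = t := by
    intro x hx hxx hx1
    have h1 := Subgroup.mul_mem_iff_of_index_two hidx (a := ⟨x, hx⟩) (b := ⟨t, htC⟩)
    have hxP : x ∉ (P : Subgroup G) := fun h => hx1 (hPodd x h hxx)
    have htP : t ∉ (P : Subgroup G) := fun h => ht1 (hPodd t h htt)
    have h2 : x * t ∈ (P : Subgroup G) := by
      have := h1.2 (iff_of_false (by rwa [mem_subgroupOf]) (by rwa [mem_subgroupOf]))
      exact this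
    have h3 : (x * t) * x = x * (x * t) := (mem_centralizer_iff.1 hx) _ h2
    have h4 : x * t * x = t := by rw [h3, ← mul_assoc, hxx, one_mul]
    have h5 : (x * t) * (x * t) = 1 := by
      rw [← mul_assoc, h4, htt]
    have h6 := hPodd _ h2 h5
    have h7 : t⁻¹ = t := by rw [inv_eq_iff_mul_eq_one, htt]
    rw [mul_eq_one_iff_eq_inv] at h6
    rw [h6, h7]
  have hCN' : ∀ x ∈ N, ∀ c ∈ C, x * c * x⁻¹ ∈ C := by
    intro x hx c hc
    rw [hCdef, mem_centralizer_iff] at hc ⊢
    intro y hy
    have h1 : x⁻¹ * y * x ∈ (P : Subgroup G) := by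
      have := (mem_normalizer_iff.1 (inv_mem hx) y).1 hy
      rwa [inv_inv] at this
    have h2 := hc _ h1
    calc y * (x * c * x⁻¹) = x * ((x⁻¹ * y * x) * c) * x⁻¹ := by group
      _ = x * (c * (x⁻¹ * y * x)) * x⁻¹ := by rw [h2]
      _ = x * c * x⁻¹ * y := by group
  have hNM : N ≤ normalizer (C : Set G) := by
    intro x hx
    rw [mem_normalizer_iff]
    intro c
    refine ⟨hCN' x hx c, fun h => ?_⟩
    have := hCN' x⁻¹ (inv_mem hx) _ h
    simpa [mul_assoc] using this
  have hcardP : 0 < Nat.card P := Nat.card_pos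
  have hMN : normalizer (C : Set G) = N := by
    have hMtop : normalizer (C : Set G) ≠ ⊤ := by
      intro h
      haveI : C.Normal := normalizer_eq_top_iff.1 h
      rcases hS.eq_bot_or_eq_top_of_normal C inferInstance with h1 | h1
      · rw [h1, Subgroup.card_bot] at hC
        omega
      · have h3 : Nat.card N ≤ Nat.card C := by
          rw [h1]
          exact Subgroup.card_le_of_le le_top
        rw [hN, hC] at h3
        omega
    have h1 := heven _ hMtop (dvd_trans (by rw [hN]; exact ⟨2 * Nat.card P, by ring⟩) (Subgroup.card_dvd_of_le hNM))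
    rw [← hN] at h1
    exact (Subgroup.eq_of_le_of_card_ge hNM (Nat.le_of_dvd Nat.card_pos h1)).symm
  have hTI' : ∀ g x : G, x ∈ C → x ≠ 1 → g * x * g⁻¹ ∈ C → g ∈ N := by
    intro g x hx hx1 hgx
    rw [← hMN]
    by_contra h
    exact hx1 (hTI g h x hx hgx)
  have hNt : ∀ g : G, g ∈ N ↔ g * t * g⁻¹ = t := by
    intro g
    constructor
    · intro hg
      apply huniq _ (hCN' g hg t htC)
      · calc g * t * g⁻¹ * (g * t * g⁻¹) = g * (t * t) * g⁻¹ := by group
          _ = 1 := by rw [htt]; group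
      · intro h
        apply ht1
        have := conj_eq_one_iff.1 h
        exact this
    · intro hg
      exact hTI' g t htC ht1 (by rw [hg]; exact htC)
  -- the Sylow 2-subgroup
  obtain ⟨T, hT⟩ := (IsPGroup.of_card (p := 2) (n := 1) (G := zpowers t) (by rw [Nat.card_zpowers, ht2, pow_one])).exists_le_sylow
  have htT : t ∈ (T : Subgroup G) := hT (mem_zpowers t)
  obtain ⟨m, hm⟩ := IsPGroup.iff_card.1 T.2
  have h3G : 3 ∣ Nat.card G := by
    refine dvd_trans ?_ (Subgroup.card_subgroup_dvd_card (P : Subgroup G))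
    rw [hn]; exact dvd_pow_self 3 hn0
  have hTtop : (T : Subgroup G) ≠ ⊤ := by
    intro h
    rw [h, Subgroup.card_top] at hm
    rw [hm] at h3G
    have := (Nat.prime_dvd_prime_iff_eq Nat.prime_three Nat.prime_two).1 (Nat.prime_three.dvd_of_dvd_pow h3G)
    omega
  have hT4 : Nat.card T = 2 ^ 2 := by
    have h4G : 2 ^ 2 ∣ Nat.card G := by
      refine dvd_trans ?_ (Subgroup.card_subgroup_dvd_card N)
      rw [hN]; exact ⟨Nat.card P, by ring⟩
    have h1 := T.pow_dvd_card_of_pow_dvd_card h4G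
    have h2 := heven T hTtop (dvd_trans (by norm_num) h1)
    have h3 : Nat.card (T : Subgroup G) ∣ 4 := by
      refine (Nat.Coprime.dvd_of_dvd_mul_right ?_ h2)
      rw [hm, hn']
      exact Nat.Coprime.pow _ _ (by norm_num)
    exact Nat.dvd_antisymm h3 h1
  haveI hTab : IsMulCommutative (T : Subgroup G) := IsPGroup.isMulCommutative_of_card_eq_prime_sq hT4
  have hTcomm : ∀ x ∈ (T : Subgroup G), ∀ y ∈ (T : Subgroup G), x * y = y * x := by
    intro x hx y hy
    exact congrArg Subtype.val (hTab.is_comm.comm ⟨x, hx⟩ ⟨y, hy⟩)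
  have hburn : ¬ normalizer ((T : Subgroup G) : Set G) ≤ centralizer ((T : Subgroup G) : Set G) := by
    intro h
    have hcomp := MonoidHom.ker_transferSylow_isComplement' T h
    rcases hS.eq_bot_or_eq_top_of_normal (MonoidHom.transferSylow T h).ker inferInstance with h1 | h1
    · rw [h1, isComplement'_bot_left] at hcomp
      exact hTtop hcomp
    · rw [h1, isComplement'_top_left] at hcomp
      rw [hcomp, mem_bot] at htT
      exact ht1 htT
  obtain ⟨s, hsN, hsC⟩ := SetLike.not_le_iff_exists.1 hburn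
  obtain ⟨a, b, hsab, habc, ha, ⟨kb, hb⟩, hax, hbx⟩ := exists_pPart' 2 s
  have haN : a ∈ normalizer ((T : Subgroup G) : Set G) := (zpowers_le.2 hsN) hax
  have hbN : b ∈ normalizer ((T : Subgroup G) : Set G) := (zpowers_le.2 hsN) hbx
  have hbT : b ∈ (T : Subgroup G) := by
    have h1 : IsPGroup 2 (zpowers b) := IsPGroup.of_card (n := kb) (by rw [Nat.card_zpowers, hb])
    have h2 := h1.inf_normalizer_sylow T
    have h3 : b ∈ zpowers b ⊓ normalizer ((T : Subgroup G) : Set G) := ⟨mem_zpowers b, hbN⟩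
    have h4 : b ∈ zpowers b ⊓ (T : Subgroup G) := h2 ▸ h3
    exact h4.2
  have haC : a ∉ centralizer ((T : Subgroup G) : Set G) := by
    intro h
    apply hsC
    rw [hsab]
    refine mul_mem h ?_
    rw [mem_centralizer_iff]
    intro y hy
    exact hTcomm y hy b hbT
  obtain ⟨τ, hτT, hτ⟩ : ∃ τ ∈ (T : Subgroup G), a * τ * a⁻¹ ≠ τ := by
    by_contra hcon
    push Not at hcon
    apply haC
    rw [mem_centralizer_iff]
    intro y hy
    have := hcon y hy
    rw [mul_inv_eq_iff_eq_mul] at this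
    exact this.symm
  have hτ1 : τ ≠ 1 := by rintro rfl; apply hτ; group
  have hconjT : ∀ x ∈ (T : Subgroup G), a * x * a⁻¹ ∈ (T : Subgroup G) := fun x hx => (mem_normalizer_iff.1 haN x).1 hx
  have hττ : a * (a * τ * a⁻¹) * a⁻¹ ≠ τ := by
    intro h
    -- a^2 commutes with τ, a has odd order
    have h1 : Commute (a ^ 2) τ := by
      have : a ^ 2 * τ = τ * a ^ 2 := by
        rw [← mul_inv_eq_iff_eq_mul]
        calc a ^ 2 * τ * (a ^ 2)⁻¹ = a * (a * τ * a⁻¹) * a⁻¹ := by rw [pow_two]; group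
          _ = τ := h
      exact this
    have h2 : a ∈ zpowers (a ^ 2) := by
      have h3 : zpowers (a ^ 2) = zpowers a := by
        apply Subgroup.eq_of_le_of_card_ge
        · rw [zpowers_le]; exact pow_mem (mem_zpowers a) 2
        · rw [Nat.card_zpowers, Nat.card_zpowers, Nat.Coprime.orderOf_pow ha]
      rw [h3]; exact mem_zpowers a
    obtain ⟨j, hj⟩ := mem_zpowers_iff.1 h2
    have h4 : Commute a τ := by rw [← hj]; exact h1.zpow_left j
    exact hτ (by rw [mul_inv_eq_iff_eq_mul]; exact h4.eq)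
  have hTelts : ∀ x ∈ (T : Subgroup G), x = 1 ∨ x = τ ∨ x = a * τ * a⁻¹ ∨ x = a * (a * τ * a⁻¹) * a⁻¹ := by
    have hfin : Fintype (T : Subgroup G) := Fintype.ofFinite _
    have hcardT : Fintype.card (T : Subgroup G) = 4 := by
      rw [← Nat.card_eq_fintype_card]; exact hT4
    intro x hx
    by_contra hcon
    push Not at hcon
    obtain ⟨h1, h2, h3, h4⟩ := hcon
    let e1 : (T : Subgroup G) := ⟨1, one_mem _⟩
    let e2 : (T : Subgroup G) := ⟨τ, hτT⟩
    let e3 : (T : Subgroup G) := ⟨a * τ * a⁻¹, hconjT _ hτT⟩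
    let e4 : (T : Subgroup G) := ⟨a * (a * τ * a⁻¹) * a⁻¹, hconjT _ (hconjT _ hτT)⟩
    let e5 : (T : Subgroup G) := ⟨x, hx⟩
    have h5 : ({e1, e2, e3, e4, e5} : Finset (T : Subgroup G)).card = 5 := by
      have n12 : e1 ≠ e2 := fun h => hτ1 (congrArg Subtype.val h).symm
      have n13 : e1 ≠ e3 := fun h => hτ1 (conj_eq_one_iff.1 (congrArg Subtype.val h).symm)
      have n14 : e1 ≠ e4 := fun h => hτ1 (conj_eq_one_iff.1 (conj_eq_one_iff.1 (congrArg Subtype.val h).symm))
      have n15 : e1 ≠ e5 := fun h => h1 (congrArg Subtype.val h).symm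
      have n23 : e2 ≠ e3 := fun h => hτ (congrArg Subtype.val h).symm
      have n24 : e2 ≠ e4 := fun h => hττ (congrArg Subtype.val h).symm
      have n25 : e2 ≠ e5 := fun h => h2 (congrArg Subtype.val h).symm
      have n34 : e3 ≠ e4 := by
        intro h
        have h6 : a * τ * a⁻¹ = a * (a * τ * a⁻¹) * a⁻¹ := congrArg Subtype.val h
        exact hτ (mul_left_cancel (mul_right_cancel h6)).symm
      have n35 : e3 ≠ e5 := fun h => h3 (congrArg Subtype.val h).symm
      have n45 : e4 ≠ e5 := fun h => h4 (congrArg Subtype.val h).symm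
      rw [Finset.card_insert_of_notMem (by simp [n12, n13, n14, n15]),
        Finset.card_insert_of_notMem (by simp [n23, n24, n25]),
        Finset.card_insert_of_notMem (by simp [n34, n35]),
        Finset.card_insert_of_notMem (by simp [n45]), Finset.card_singleton]
    have h6 := Finset.card_le_univ ({e1, e2, e3, e4, e5} : Finset (T : Subgroup G))
    rw [h5, hcardT] at h6
    omega
  have hτconj : ∀ x ∈ (T : Subgroup G), x ≠ 1 → ∃ g, x = g * τ * g⁻¹ := by
    intro x hx hx1
    rcases hTelts x hx with h | h | h | h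
    · exact absurd h hx1
    · exact ⟨1, by rw [h]; group⟩
    · exact ⟨a, h⟩
    · exact ⟨a * a, by rw [h]; group⟩
  obtain ⟨g₀, hg₀⟩ := hτconj t htT ht1
  have hconj : ∀ x : G, orderOf x = 2 → ∃ g, x = g * t * g⁻¹ := by
    intro x hx
    obtain ⟨T', hT'⟩ := (IsPGroup.of_card (p := 2) (n := 1) (G := zpowers x) (by rw [Nat.card_zpowers, hx, pow_one])).exists_le_sylow
    obtain ⟨g, hg⟩ := MulAction.exists_smul_eq G T T'
    have hxT' : x ∈ (T' : Subgroup G) := hT' (mem_zpowers x)
    rw [← hg, Sylow.coe_subgroup_smul, Subgroup.mem_pointwise_smul_iff_inv_smul_mem, ← map_inv, MulAut.smul_def, MulAut.conj_apply,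
      inv_inv] at hxT'
    obtain ⟨h, hh⟩ := hτconj _ hxT' (by
      intro h
      have : x = 1 := by
        have h3 : g⁻¹ * x * g⁻¹⁻¹ = 1 := by rw [inv_inv]; exact h
        exact conj_eq_one_iff.1 h3
      rw [this] at hx
      simp at hx)
    refine ⟨g * h * g₀⁻¹, ?_⟩
    have h1 : x = g * (g⁻¹ * x * g) * g⁻¹ := by group
    rw [h1, hh, hg₀]
    group
  -- the relation
  have hRuniq : ∀ w g g' : G, w ≠ 1 → g⁻¹ * w * g ∈ C → g'⁻¹ * w * g' ∈ C → g * t * g⁻¹ = g' * t * g'⁻¹ := by
    intro w g g' hw h1 h2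
    have h3 : g'⁻¹ * g ∈ N := by
      apply hTI' (g'⁻¹ * g) (g⁻¹ * w * g) h1
      · intro h
        apply hw
        have h3 : g⁻¹ * w * g⁻¹⁻¹ = 1 := by rw [inv_inv]; exact h
        exact conj_eq_one_iff.1 h3
      · have : g'⁻¹ * g * (g⁻¹ * w * g) * (g'⁻¹ * g)⁻¹ = g'⁻¹ * w * g' := by group
        rw [this]; exact h2
    have h4 := (hNt _).1 h3
    calc g * t * g⁻¹ = g' * (g'⁻¹ * g * t * (g'⁻¹ * g)⁻¹) * g'⁻¹ := by group
      _ = g' * t * g'⁻¹ := by rw [h4]
  have hNC : (C.subgroupOf N).index = 2 := by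
    have hCN : C ≤ N := by rw [← hMN]; exact le_normalizer
    have h1 := Subgroup.card_mul_index (C.subgroupOf N)
    have h2 : Nat.card (C.subgroupOf N) = Nat.card C :=
      Nat.card_congr (Subgroup.subgroupOfEquivOfLe hCN).toEquiv
    rw [h2, hN, hC] at h1
    have h3 : 0 < 2 * Nat.card P := by omega
    exact Nat.eq_of_mul_eq_mul_left h3 (by rw [h1]; ring)
  have hprodC : ∀ x y : G, x ∈ N → y ∈ N → x ∉ C → y ∉ C → x * y ∈ C := by
    intro x y hx hy hx' hy'
    have h1 := Subgroup.mul_mem_iff_of_index_two hNC (a := ⟨x, hx⟩) (b := ⟨y, hy⟩)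
    exact h1.2 (iff_of_false (by rwa [mem_subgroupOf]) (by rwa [mem_subgroupOf]))
  have hord2 : ∀ x : G, orderOf x = 2 → x * x = 1 ∧ x ≠ 1 := by
    intro x hx
    refine ⟨by rw [← pow_two, ← hx, pow_orderOf_eq_one], ?_⟩
    rintro rfl
    simp at hx
  have hord2' : ∀ x : G, x * x = 1 → x ≠ 1 → orderOf x = 2 := by
    intro x hx hx1
    exact orderOf_eq_prime (by rw [pow_two, hx]) hx1
  -- common neighbour ⇒ product lies in the conjugate of C
  have hcn : ∀ x y z g : G, orderOf x = 2 → orderOf y = 2 → z = g * t * g⁻¹ → x ≠ z → y ≠ z → x * z = z * x →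
      y * z = z * y → g⁻¹ * (x * y) * g ∈ C := by
    intro x y z g hx hy hz hxz hyz hxz' hyz'
    have key : ∀ x : G, orderOf x = 2 → x ≠ z → x * z = z * x → g⁻¹ * x * g ∈ N ∧ g⁻¹ * x * g ∉ C := by
      intro x hx hxz hxz'
      constructor
      · rw [hNt]
        have h1 : x * (g * t * g⁻¹) = (g * t * g⁻¹) * x := by rw [← hz]; exact hxz'
        calc g⁻¹ * x * g * t * (g⁻¹ * x * g)⁻¹ = g⁻¹ * (x * (g * t * g⁻¹)) * x⁻¹ * g := by group
          _ = g⁻¹ * ((g * t * g⁻¹) * x) * x⁻¹ * g := by rw [h1]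
          _ = t := by group
      · intro hc
        apply hxz
        have h2 := huniq _ hc (by
          calc g⁻¹ * x * g * (g⁻¹ * x * g) = g⁻¹ * (x * x) * g := by group
            _ = 1 := by rw [(hord2 x hx).1]; group) (by
          intro h
          apply (hord2 x hx).2
          have h3 : g⁻¹ * x * g⁻¹⁻¹ = 1 := by rw [inv_inv]; exact h
          exact conj_eq_one_iff.1 h3)
        rw [hz, ← h2]; group
    obtain ⟨a1, a2⟩ := key x hx hxz hxz'
    obtain ⟨b1, b2⟩ := key y hy hyz hyz'
    have := hprodC _ _ a1 b1 a2 b2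
    have h3 : g⁻¹ * x * g * (g⁻¹ * y * g) = g⁻¹ * (x * y) * g := by group
    rwa [h3] at this
  -- existence of common neighbours
  have hex : ∀ x y : G, orderOf x = 2 → orderOf y = 2 → x ≠ y →
      ∃ z : G, orderOf z = 2 ∧ (x ≠ z ∧ x * z = z * x) ∧ (y ≠ z ∧ y * z = z * y) := by
    intro x y hx hy hxy
    obtain ⟨hxx, hx1⟩ := hord2 x hx
    obtain ⟨hyy, hy1⟩ := hord2 y hy
    have hxi : x⁻¹ = x := by rw [inv_eq_iff_mul_eq_one, hxx]
    have hyi : y⁻¹ = y := by rw [inv_eq_iff_mul_eq_one, hyy]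
    set w := x * y with hw
    have hw1 : w ≠ 1 := by
      intro h
      apply hxy
      rw [hw, mul_eq_one_iff_eq_inv, hyi] at h
      exact h
    have hwi : w⁻¹ = y * x := by rw [hw, mul_inv_rev, hxi, hyi]
    have hxw : x * w * x⁻¹ = w⁻¹ := by
      rw [hwi, hxi, hw]
      calc x * (x * y) * x = (x * x) * y * x := by group
        _ = y * x := by rw [hxx, one_mul]
    have hyw : y * w * y⁻¹ = w⁻¹ := by
      rw [hwi, hyi, hw]
      calc y * (x * y) * y = y * x * (y * y) := by group
        _ = y * x := by rw [hyy, mul_one]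
    have hxwk : ∀ j : ℕ, x * w ^ j * x⁻¹ = (w ^ j)⁻¹ := by
      intro j
      rw [← conj_pow, hxw, inv_pow]
    have hywk : ∀ j : ℕ, y * w ^ j * y⁻¹ = (w ^ j)⁻¹ := by
      intro j
      rw [← conj_pow, hyw, inv_pow]
    by_cases hodd : Odd (orderOf w)
    · -- odd order: a 3-element
      have hww : w * w ≠ 1 := by
        intro h
        have h1 : orderOf w ∣ 2 := orderOf_dvd_of_pow_eq_one (by rw [pow_two]; exact h)
        have h2 : orderOf w = 1 := by
          rcases (Nat.dvd_prime Nat.prime_two).1 h1 with h3 | h3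
          · exact h3
          · rw [h3] at hodd
            exact absurd hodd (by decide)
        exact hw1 (orderOf_eq_one_iff.1 h2)
      have hDdvd : orderOf w ∣ 4 * Nat.card P := by
        let D : Subgroup G := zpowers w ⊔ zpowers x
        have hxD : x ∈ D := (le_sup_right : zpowers x ≤ D) (mem_zpowers x)
        have hwD : w ∈ D := (le_sup_left : zpowers w ≤ D) (mem_zpowers w)
        have hDtop : D ≠ ⊤ := by
          intro hD
          have hnorm : (zpowers w).Normal := by
            rw [← normalizer_eq_top_iff, eq_top_iff, ← hD, sup_le_iff]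
            refine ⟨le_normalizer, ?_⟩
            rw [zpowers_le, mem_normalizer_iff]
            have key : ∀ c ∈ zpowers w, x * c * x⁻¹ ∈ zpowers w := by
              intro c hc
              obtain ⟨j, rfl⟩ := mem_zpowers_iff.1 hc
              rw [← conj_zpow, hxw, inv_zpow]
              exact inv_mem (zpow_mem (mem_zpowers w) j)
            intro c
            refine ⟨key c, fun h => ?_⟩
            have := key _ h
            have h2 : x * (x * c * x⁻¹) * x⁻¹ = (x * x) * c * (x * x)⁻¹ := by group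
            rw [h2, hxx] at this
            simpa using this
          rcases hS.eq_bot_or_eq_top_of_normal _ hnorm with h1 | h1
          · rw [zpowers_eq_bot] at h1
            exact hw1 h1
          · have hcommG : ∀ u v : G, u * v = v * u := by
              intro u v
              obtain ⟨i, rfl⟩ := mem_zpowers_iff.1 (show u ∈ zpowers w by rw [h1]; trivial)
              obtain ⟨j, rfl⟩ := mem_zpowers_iff.1 (show v ∈ zpowers w by rw [h1]; trivial)
              rw [← zpow_add, ← zpow_add, add_comm]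
            apply haC
            rw [mem_centralizer_iff]
            intro y _
            exact hcommG _ _
        refine dvd_trans ?_ (heven D hDtop ?_)
        · exact Subgroup.orderOf_dvd_natCard _ hwD
        · rw [← hx]; exact Subgroup.orderOf_dvd_natCard _ hxD
      have hdvd : orderOf w ∣ 3 ^ n := by
        rw [hn'] at hDdvd
        refine (Nat.Coprime.dvd_of_dvd_mul_left ?_ hDdvd)
        rw [show 4 = 2 ^ 2 by norm_num]
        exact Nat.Coprime.pow_right 2 hodd.coprime_two_right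
      obtain ⟨l, -, hl⟩ := (Nat.dvd_prime_pow Nat.prime_three).1 hdvd
      obtain ⟨P', hP'⟩ := (IsPGroup.of_card (p := 3) (n := l) (G := zpowers w) (by rw [Nat.card_zpowers, hl])).exists_le_sylow
      obtain ⟨g, hg⟩ := MulAction.exists_smul_eq G P P'
      have hwP' : w ∈ (P' : Subgroup G) := hP' (mem_zpowers w)
      rw [← hg, Sylow.coe_subgroup_smul, Subgroup.mem_pointwise_smul_iff_inv_smul_mem, ← map_inv, MulAut.smul_def, MulAut.conj_apply,
        inv_inv] at hwP'
      have hwC : g⁻¹ * w * g ∈ C := hPC hwP'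
      have hgwg1 : g⁻¹ * w * g ≠ 1 := by
        intro h
        apply hw1
        have h3 : g⁻¹ * w * g⁻¹⁻¹ = 1 := by rw [inv_inv]; exact h
        exact conj_eq_one_iff.1 h3
      have key : ∀ v : G, orderOf v = 2 → v * w * v⁻¹ = w⁻¹ → v ≠ g * t * g⁻¹ ∧ v * (g * t * g⁻¹) = (g * t * g⁻¹) * v := by
        intro v hv hvw
        constructor
        · rintro rfl
          -- g t g⁻¹ commutes with w
          have h1 : (g⁻¹ * w * g) * t = t * (g⁻¹ * w * g) := (mem_centralizer_iff.1 htC) _ hwP'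
          have h2 : g * t * g⁻¹ * w * (g * t * g⁻¹)⁻¹ = w := by
            calc g * t * g⁻¹ * w * (g * t * g⁻¹)⁻¹ = g * (t * (g⁻¹ * w * g)) * t⁻¹ * g⁻¹ := by group
              _ = g * ((g⁻¹ * w * g) * t) * t⁻¹ * g⁻¹ := by rw [h1]
              _ = w := by group
          rw [h2] at hvw
          apply hww
          nth_rewrite 2 [hvw]
          rw [mul_inv_cancel]
        · have h1 : g⁻¹ * v * g ∈ N := by
            apply hTI' _ _ hwC hgwg1
            have : g⁻¹ * v * g * (g⁻¹ * w * g) * (g⁻¹ * v * g)⁻¹ = (g⁻¹ * w * g)⁻¹ := by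
              calc g⁻¹ * v * g * (g⁻¹ * w * g) * (g⁻¹ * v * g)⁻¹ = g⁻¹ * (v * w * v⁻¹) * g := by group
                _ = g⁻¹ * w⁻¹ * g := by rw [hvw]
                _ = _ := by group
            rw [this]
            exact inv_mem hwC
          have h2 := (hNt _).1 h1
          calc v * (g * t * g⁻¹) = g * (g⁻¹ * v * g * t * (g⁻¹ * v * g)⁻¹) * g⁻¹ * v := by group
            _ = g * t * g⁻¹ * v := by rw [h2]
      refine ⟨g * t * g⁻¹, ?_, key x hx hxw, key y hy hyw⟩
      apply hord2'
      · calc g * t * g⁻¹ * (g * t * g⁻¹) = g * (t * t) * g⁻¹ := by group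
          _ = 1 := by rw [htt]; group
      · intro h
        exact ht1 (conj_eq_one_iff.1 h)
    · rw [Nat.not_odd_iff_even] at hodd
      obtain ⟨k, hk⟩ := hodd
      have hk0 : 0 < k := by
        have := orderOf_pos w
        omega
      have hzz : w ^ k * w ^ k = 1 := by
        rw [← pow_add, ← hk, pow_orderOf_eq_one]
      have hz1 : w ^ k ≠ 1 := by
        intro h
        have := orderOf_le_of_pow_eq_one hk0 h
        omega
      have hzi : (w ^ k)⁻¹ = w ^ k := by rw [inv_eq_iff_mul_eq_one, hzz]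
      have hcx : x * w ^ k = w ^ k * x := by
        rw [← mul_inv_eq_iff_eq_mul, hxwk, hzi]
      have hcy : y * w ^ k = w ^ k * y := by
        rw [← mul_inv_eq_iff_eq_mul, hywk, hzi]
      have key : ∀ v : G, v * v = 1 → v * w * v⁻¹ = w⁻¹ → v = w ^ k → w = v := by
        intro v hv hvw h
        have h1 : v * w = w * v := by rw [h, ← pow_succ, ← pow_succ']
        have h2 : w = w⁻¹ := by rw [← hvw, h1]; group
        have h3 : w * w = 1 := by nth_rewrite 2 [h2]; rw [mul_inv_cancel]
        have h4 : orderOf w = 2 := hord2' w h3 hw1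
        have h5 : k = 1 := by omega
        rw [h, h5, pow_one]
      refine ⟨w ^ k, hord2' _ hzz hz1, ⟨?_, hcx⟩, ⟨?_, hcy⟩⟩
      · intro h
        have h1 := key x hxx hxw h
        rw [hw] at h1
        exact hy1 (mul_eq_left.1 h1)
      · intro h
        have h1 := key y hyy hyw h
        rw [hw] at h1
        exact hx1 (mul_eq_right.1 h1)
  -- the graph
  haveI : Fintype {x : G // orderOf x = 2} := Fintype.ofFinite _
  haveI : Nonempty {x : G // orderOf x = 2} := ⟨⟨t, ht2⟩⟩
  let adj : {x : G // orderOf x = 2} → {x : G // orderOf x = 2} → Prop := fun x y => (x : G) ≠ y ∧ (x : G) * y = y * x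
  refine friendship_regular adj (fun v w h => ⟨h.1.symm, h.2.symm⟩) (fun v h => h.1 rfl)
    (Nat.card {w // adj ⟨t, ht2⟩ w}) ?_ ?_ ?_
  · intro v
    obtain ⟨g, hg⟩ := hconj v v.2
    have hoc : ∀ (h : G) (x : G), orderOf (h * x * h⁻¹) = orderOf x := by
      intro h x
      rw [← MulAut.conj_apply]
      exact orderOf_injective (MulAut.conj h).toMonoidHom (MulAut.conj h).injective x
    refine Nat.card_congr
      { toFun := fun w => ⟨⟨g⁻¹ * w * g⁻¹⁻¹, by rw [hoc]; exact w.1.2⟩, ?_⟩
        invFun := fun w => ⟨⟨g * w * g⁻¹, by rw [hoc]; exact w.1.2⟩, ?_⟩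
        left_inv := ?_
        right_inv := ?_ }
    · obtain ⟨w, h1, h2⟩ := w
      refine ⟨?_, ?_⟩
      · intro h
        apply h1
        have h' : t = g⁻¹ * (w : G) * g⁻¹⁻¹ := h
        rw [hg, h']
        group
      · have h2' : (g * t * g⁻¹) * (w : G) = w * (g * t * g⁻¹) := by rw [← hg]; exact h2
        show t * (g⁻¹ * (w : G) * g⁻¹⁻¹) = g⁻¹ * (w : G) * g⁻¹⁻¹ * t
        calc t * (g⁻¹ * (w : G) * g⁻¹⁻¹) = g⁻¹ * ((g * t * g⁻¹) * w) * g := by group
          _ = g⁻¹ * (w * (g * t * g⁻¹)) * g := by rw [h2']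
          _ = _ := by group
    · obtain ⟨w, h1, h2⟩ := w
      refine ⟨?_, ?_⟩
      · intro h
        apply h1
        have h' : (v : G) = g * (w : G) * g⁻¹ := h
        rw [hg] at h'
        exact mul_left_cancel (mul_right_cancel h')
      · have h2' : t * (w : G) = w * t := h2
        show (v : G) * (g * (w : G) * g⁻¹) = g * (w : G) * g⁻¹ * v
        rw [hg]
        calc g * t * g⁻¹ * (g * (w : G) * g⁻¹) = g * (t * w) * g⁻¹ := by group
          _ = g * (w * t) * g⁻¹ := by rw [h2']
          _ = _ := by group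
    · intro w
      apply Subtype.ext
      apply Subtype.ext
      show g * (g⁻¹ * ((w : {x : G // orderOf x = 2}) : G) * g⁻¹⁻¹) * g⁻¹ = _
      group
    · intro w
      apply Subtype.ext
      apply Subtype.ext
      show g⁻¹ * (g * ((w : {x : G // orderOf x = 2}) : G) * g⁻¹) * g⁻¹⁻¹ = _
      group
  · rintro ⟨x, hx⟩ ⟨y, hy⟩ hxy
    have hxy' : x ≠ y := fun h => hxy (Subtype.ext h)
    obtain ⟨z, hz, h1, h2⟩ := hex x y hx hy hxy'
    refine ⟨⟨z, hz⟩, ⟨h1, h2⟩, ?_⟩
    rintro ⟨z', hz'⟩ ⟨h3, h4⟩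
    apply Subtype.ext
    obtain ⟨g, hg⟩ := hconj z hz
    obtain ⟨g', hg'⟩ := hconj z' hz'
    have e1 := hcn x y z g hx hy hg h1.1 h2.1 h1.2 h2.2
    have e2 := hcn x y z' g' hx hy hg' h3.1 h4.1 h3.2 h4.2
    have hw1 : x * y ≠ 1 := by
      intro h
      apply hxy'
      rw [mul_eq_one_iff_eq_inv] at h
      rw [h, inv_eq_iff_mul_eq_one, (hord2 y hy).1]
    show z' = z
    rw [hg, hg']
    exact hRuniq (x * y) g' g hw1 e2 e1
  · -- at least three neighbours
    -- pick a ∈ T \ {1, t}
    obtain ⟨c, hcT, hc1, hct⟩ : ∃ c ∈ (T : Subgroup G), c ≠ 1 ∧ c ≠ t := by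
      by_contra hcon
      push Not at hcon
      by_cases h1 : τ = t
      · have h2 := hcon _ (hconjT _ hτT) (fun h => hτ1 (conj_eq_one_iff.1 h))
        exact hτ (h2.trans h1.symm)
      · exact h1 (hcon τ hτT hτ1)
    have hc2 : c * c = 1 := by
      obtain ⟨g, hg⟩ := hτconj c hcT hc1
      have hττ2 : τ * τ = 1 := by
        have h1 : τ = g₀⁻¹ * t * g₀ := by rw [hg₀]; group
        rw [h1]
        calc g₀⁻¹ * t * g₀ * (g₀⁻¹ * t * g₀) = g₀⁻¹ * (t * t) * g₀ := by group
          _ = 1 := by rw [htt]; group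
      rw [hg]
      calc g * τ * g⁻¹ * (g * τ * g⁻¹) = g * (τ * τ) * g⁻¹ := by group
        _ = 1 := by rw [hττ2]; group
    have htc : t * c = c * t := hTcomm t htT c hcT
    have hcN : c ∈ N := by rw [hNt, ← htc]; group
    have hcC : c ∉ C := fun h => hct (huniq c h hc2 hc1)
    obtain ⟨u, hu, huc⟩ : ∃ u ∈ (P : Subgroup G), u * c ≠ c * u := by
      by_contra hcon
      push Not at hcon
      exact hcC (mem_centralizer_iff.2 hcon)
    have huN : u ∈ N := le_normalizer hu
    have hut : u * t = t * u := (mem_centralizer_iff.1 htC) u hu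
    have htP : t ∉ (P : Subgroup G) := fun h => ht1 (hPodd t h htt)
    -- three involutions: c, t * c, u * c * u⁻¹
    have o1 : orderOf c = 2 := hord2' c hc2 hc1
    have o2 : orderOf (t * c) = 2 := by
      apply hord2'
      · calc t * c * (t * c) = t * (c * t) * c := by group
          _ = t * (t * c) * c := by rw [htc]
          _ = (t * t) * (c * c) := by group
          _ = 1 := by rw [htt, hc2, one_mul]
      · intro h
        apply hct
        rw [mul_eq_one_iff_inv_eq] at h
        rw [← h, inv_eq_iff_mul_eq_one, htt]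
    have o3 : orderOf (u * c * u⁻¹) = 2 := by
      apply hord2'
      · calc u * c * u⁻¹ * (u * c * u⁻¹) = u * (c * c) * u⁻¹ := by group
          _ = 1 := by rw [hc2]; group
      · intro h
        exact hc1 (conj_eq_one_iff.1 h)
    have a1 : adj ⟨t, ht2⟩ ⟨c, o1⟩ := ⟨fun h => hct h.symm, htc⟩
    have a2 : adj ⟨t, ht2⟩ ⟨t * c, o2⟩ := by
      refine ⟨fun h => hc1 ?_, ?_⟩
      · have h' : t = t * c := h
        exact mul_eq_left.1 h'.symm
      · show t * (t * c) = t * c * t
        rw [mul_assoc t c t, htc]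
    have a3 : adj ⟨t, ht2⟩ ⟨u * c * u⁻¹, o3⟩ := by
      have hui : t * u⁻¹ = u⁻¹ * t := by
        rw [mul_inv_eq_iff_eq_mul, mul_assoc, ← hut]
        group
      refine ⟨fun h => hct ?_, ?_⟩
      · have h' : t = u * c * u⁻¹ := h
        have h2 : c = u⁻¹ * t * u := by rw [h']; group
        rw [h2, mul_assoc, ← hut]; group
      · show t * (u * c * u⁻¹) = u * c * u⁻¹ * t
        calc t * (u * c * u⁻¹) = (t * u) * c * u⁻¹ := by group
          _ = (u * t) * c * u⁻¹ := by rw [hut]
          _ = u * (t * c) * u⁻¹ := by group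
          _ = u * (c * t) * u⁻¹ := by rw [htc]
          _ = u * c * (t * u⁻¹) := by group
          _ = u * c * (u⁻¹ * t) := by rw [hui]
          _ = _ := by group
    haveI : Fintype {w // adj ⟨t, ht2⟩ w} := Fintype.ofFinite _
    rw [Nat.card_eq_fintype_card]
    have hcard : ({⟨_, a1⟩, ⟨_, a2⟩, ⟨_, a3⟩} : Finset {w // adj ⟨t, ht2⟩ w}).card = 3 := by
      rw [Finset.card_eq_three]
      refine ⟨_, _, _, ?_, ?_, ?_, rfl⟩
      · intro h
        have h' : c = t * c := congrArg (fun z : {w // adj ⟨t, ht2⟩ w} => ((z : {x : G // orderOf x = 2}) : G)) h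
        exact ht1 (mul_eq_right.1 h'.symm)
      · intro h
        have h' : c = u * c * u⁻¹ := congrArg (fun z : {w // adj ⟨t, ht2⟩ w} => ((z : {x : G // orderOf x = 2}) : G)) h
        apply huc
        rw [← mul_inv_eq_iff_eq_mul]
        exact h'.symm
      · intro h
        have h' : t * c = u * c * u⁻¹ := congrArg (fun z : {w // adj ⟨t, ht2⟩ w} => ((z : {x : G // orderOf x = 2}) : G)) h
        apply htP
        have h2 : t = u * (c * u⁻¹ * c⁻¹) := by
          calc t = t * c * c⁻¹ := by group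
            _ = u * c * u⁻¹ * c⁻¹ := by rw [h']
            _ = _ := by group
        rw [h2]
        exact mul_mem hu ((mem_normalizer_iff.1 hcN _).1 (inv_mem hu))
    rw [← hcard]
    exact Finset.card_le_univ _

end CfsgH2
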