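import Cfsg.Agent.H2.SLStd
import Cfsg.Agent.S0836

/-! Components of centralizers of involutions in general linear groups. -/

set_option autoImplicit false

namespace CfsgH2

open Subgroup Cfsg Matrix
open scoped commutatorElement

variable {F : Type*} [Field F]

/-- reindexing -/
def slReindex {ι κ : Type*} [Fintype ι] [DecidableEq ι] [Fintype κ] [DecidableEq κ] (e : ι ≃ κ) : 
    SpecialLinearGroup ι F ≃* SpecialLinearGroup κ F where
  toFun A := ⟨Matrix.reindex e e A.1, by rw [det_reindex_self]; exact A.2⟩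
  invFun A := ⟨Matrix.reindex e.symm e.symm A.1, by rw [det_reindex_self]; exact A.2⟩
  left_inv A := by
    apply Subtype.ext
    ext i j
    simp [reindex_apply]
  right_inv A := by
    apply Subtype.ext
    ext i j
    simp [reindex_apply]
  map_mul' A B := by
    apply Subtype.ext
    change Matrix.reindex e e (A.1 * B.1) = Matrix.reindex e e A.1 * Matrix.reindex e e B.1
    rw [reindex_apply, reindex_apply, reindex_apply, submatrix_mul_equiv]

theorem quasisimple_SL2 [Fintype F] (hF : 4 ≤ Nat.card F) : IsQuasisimple (SpecialLinearGroup (Fin 2) F) := by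
  refine ⟨⟨?_⟩, Matrix.ProjectiveSpecialLinearGroup.rank_two_simple hF⟩
  apply CfsgH9.IwaSL.SL_gen
  intro i j hij c
  rw [commutator_eq_closure]
  apply Subgroup.subset_closure
  refine Cfsg.Agent.S0836.result 2 (Or.inr ⟨rfl, ?_⟩) i j hij c (Matrix.SpecialLinearGroup.transvection hij c) rfl
  classical
  by_contra hcon
  push Not at hcon
  have h1 : (Finset.univ : Finset F) ⊆ {0, 1, -1} := by
    intro x _
    rw [Finset.mem_insert, Finset.mem_insert, Finset.mem_singleton]
    by_cases hx : x = 0
    · left; exact hx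
    · right
      exact mul_self_eq_one_iff.mp (by rw [← pow_two]; exact hcon x hx)
  have h2 := Finset.card_le_card h1
  rw [Finset.card_univ, ← Nat.card_eq_fintype_card] at h2
  have h3 := Finset.card_le_three (a := (0 : F)) (b := 1) (c := -1)
  omega

theorem quasisimple_SL_sub [Fintype F] {n : ℕ} {l : Fin n} (hn : 3 ≤ n) (h33 : n = 3 → 4 ≤ Nat.card F) : 
    IsQuasisimple (SpecialLinearGroup {i : Fin n // i ≠ l} F) := by
  have hcard : Fintype.card {i : Fin n // i ≠ l} = n - 1 := by
    rw [Fintype.card_subtype_compl, Fintype.card_fin, Fintype.card_subtype_eq]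
  by_cases h3 : n = 3
  · have e : {i : Fin n // i ≠ l} ≃ Fin 2 := Fintype.equivFinOfCardEq (by rw [hcard]; omega)
    exact (isQuasisimple_congr (slReindex e)).mpr (quasisimple_SL2 (h33 h3))
  · haveI : Nontrivial {i : Fin n // i ≠ l} := Fintype.one_lt_card_iff_nontrivial.mp (by omega)
    apply quasisimple_SL
    intro i j _
    by_contra hc
    push Not at hc
    have h2 : (Finset.univ : Finset {i : Fin n // i ≠ l}) ⊆ {i, j} := by
      intro k _
      rw [Finset.mem_insert, Finset.mem_singleton]
      by_cases hk : i = k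
      · left; exact hk.symm
      · right; exact hc k hk
    have h3 := Finset.card_le_card h2
    rw [Finset.card_univ] at h3
    have h4 := Finset.card_le_two (a := i) (b := j)
    omega

theorem two_dvd_SL [Fintype F] [DecidableEq F] {ι : Type*} [Fintype ι] [DecidableEq ι] [Nontrivial ι] (h2 : (1 : F) ≠ -1) : 
    2 ∣ Nat.card (SpecialLinearGroup ι F) := by
  obtain ⟨a, b, hab⟩ := exists_pair_ne ι
  let f : ι → F := fun i => (if i = a then -1 else 1) * (if i = b then -1 else 1)
  have hf : (diagonal f).det = 1 := by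
    rw [det_diagonal, Finset.prod_mul_distrib, Finset.prod_ite_eq', Finset.prod_ite_eq']
    simp
  obtain ⟨u, hu⟩ : ∃ u : SpecialLinearGroup ι F, u.1 = diagonal f := ⟨⟨_, hf⟩, rfl⟩
  have huu : u ^ 2 = 1 := by
    rw [pow_two]
    apply Subtype.ext
    change u.1 * u.1 = 1
    rw [hu, diagonal_mul_diagonal, ← diagonal_one]
    congr 1
    ext i
    change f i * f i = 1
    simp only [f]
    split_ifs <;> simp
  have hu1 : u ≠ 1 := by
    intro h
    have h1 : u.1 a a = 1 := by rw [h]; exact one_apply_eq a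
    rw [hu, diagonal_apply_eq] at h1
    simp only [f, if_pos, if_neg hab, mul_one] at h1
    exact h2 h1.symm
  have := orderOf_dvd_natCard u
  rwa [orderOf_eq_prime huu hu1] at this


section glpart

variable {n : ℕ} {l : Fin n}

/-- block diagonal elements of GL -/
def IsBDG (l : Fin n) (g : GL (Fin n) F) : Prop := 
  ∀ i, i ≠ l → g.1 i l = 0 ∧ g.1 l i = 0

/-- the (l,l) entry -/
def entG {C : Subgroup (GL (Fin n) F)} (hC : ∀ g ∈ C, IsBDG l g) : C →* F × F where
  toFun g := (g.1.1 l l, g.1.1.det)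
  map_one' := by
    change ((1 : Matrix (Fin n) (Fin n) F) l l, (1 : Matrix (Fin n) (Fin n) F).det) = 1
    rw [one_apply_eq l, det_one]; rfl
  map_mul' := by
    intro g h
    change ((g.1.1 * h.1.1) l l, (g.1.1 * h.1.1).det) = (g.1.1 l l * h.1.1 l l, g.1.1.det * h.1.1.det)
    rw [det_mul, mul_apply, Finset.sum_eq_single l]
    · intro k _ hk
      rw [(hC g g.2 k hk).2, zero_mul]
    · intro h; exact absurd (Finset.mem_univ l) h

theorem mem_entG_ker {C : Subgroup (GL (Fin n) F)} {hC : ∀ g ∈ C, IsBDG l g} {g : C} : 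
    g ∈ (entG hC).ker ↔ g.1.1 l l = 1 ∧ g.1.1.det = 1 := by
  rw [MonoidHom.mem_ker]
  change (g.1.1 l l, g.1.1.det) = (1, 1) ↔ _
  rw [Prod.mk.injEq]

theorem entG_ker_equiv {C : Subgroup (GL (Fin n) F)} (hC : ∀ g ∈ C, IsBDG l g) (hC' : ∀ g, IsBDG l g → g ∈ C) : 
    Nonempty ((entG hC).ker ≃* SpecialLinearGroup {i : Fin n // i ≠ l} F) := by
  obtain ⟨CS, hCS⟩ : ∃ CS : Subgroup (SpecialLinearGroup (Fin n) F), 
      CS = C.comap (SpecialLinearGroup.toGL : SpecialLinearGroup (Fin n) F →* GL (Fin n) F) := ⟨_, rfl⟩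
  have hBD : ∀ g ∈ CS, IsBD l g := by
    intro g hg i hi
    rw [hCS] at hg
    exact hC _ hg i hi
  have hBD' : ∀ g, IsBD l g → g.1 l l = 1 → g ∈ CS := by
    intro g hg _
    rw [hCS]
    exact hC' _ (fun i hi => hg i hi)
  have e1 : (ent hBD).ker ≃* SpecialLinearGroup {i : Fin n // i ≠ l} F := 
    MulEquiv.ofBijective (resHom hBD) (resHom_bijective hBD hBD')
  have hmem : ∀ g : SpecialLinearGroup (Fin n) F, g ∈ CS → SpecialLinearGroup.toGL g ∈ C := by
    intro g hg; rw [hCS] at hg; exact hg
  let f : (ent hBD).ker →* (entG hC).ker := 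
    { toFun := fun g => ⟨⟨SpecialLinearGroup.toGL g.1.1, hmem _ g.1.2⟩, mem_entG_ker.mpr 
        ⟨(mem_ent_ker hBD).mp g.2, g.1.1.2⟩⟩
      map_one' := by
        apply Subtype.ext
        apply Subtype.ext
        exact map_one SpecialLinearGroup.toGL
      map_mul' := by
        intro g h
        apply Subtype.ext
        apply Subtype.ext
        exact map_mul SpecialLinearGroup.toGL g.1.1 h.1.1 }
  have hf : Function.Bijective f := by
    constructor
    · intro g h hgh
      have h1 : (g.1.1 : SpecialLinearGroup (Fin n) F).1 = h.1.1.1 := 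
        congrArg (fun w : (entG hC).ker => w.1.1.1) hgh
      exact Subtype.ext (Subtype.ext (Subtype.ext h1))
    · intro g
      have hg := mem_entG_ker.mp g.2
      have h1 : IsBD l (⟨g.1.1.1, hg.2⟩ : SpecialLinearGroup (Fin n) F) := fun i hi => hC _ g.1.2 i hi
      refine ⟨⟨⟨⟨g.1.1.1, hg.2⟩, hBD' _ h1 hg.1⟩, hg.1⟩, ?_⟩
      apply Subtype.ext
      apply Subtype.ext
      apply Units.ext
      rfl
  exact ⟨(MulEquiv.ofBijective f hf).symm.trans e1⟩

theorem GL_component [Fintype F] [DecidableEq F] (hF : Odd (Fintype.card F)) (hn : 3 ≤ n) (h33 : ¬ (n = 3 ∧ Fintype.card F = 3)) : 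
    ∃ t : GL (Fin n) F, orderOf t = 2 ∧ t ∉ center (GL (Fin n) F) ∧ 
      HasComponent (↥(centralizer ({t} : Set (GL (Fin n) F))) ⧸ oddCore ↥(centralizer ({t} : Set (GL (Fin n) F)))) := by
  have h2 : (1 : F) + 1 ≠ 0 := by
    intro h
    have h1 : (2 : ℕ) ∣ Fintype.card F := by
      have h3 : addOrderOf (1 : F) ∣ Fintype.card F := addOrderOf_dvd_card
      have h4 : addOrderOf (1 : F) = 2 := by
        apply addOrderOf_eq_prime
        · rw [two_nsmul]; exact h
        · exact one_ne_zero
      rwa [h4] at h3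
    rw [← Nat.not_even_iff_odd] at hF
    exact hF (even_iff_two_dvd.mpr h1)
  have hne1 : (1 : F) ≠ -1 := fun h => h2 (by nth_rewrite 2 [h]; rw [add_neg_cancel])
  have hx0 : ∀ x : F, x * 1 = -1 * x → x = 0 := by
    intro x hx
    have h3 : (1 + 1) * x = 0 := by
      rw [mul_one, neg_one_mul] at hx
      have : (1 + 1) * x = x + x := by ring
      rw [this]; nth_rewrite 1 [hx]; exact neg_add_cancel x
    rcases mul_eq_zero.mp h3 with h | h
    · exact absurd h h2
    · exact h
  obtain ⟨l, hl⟩ : ∃ l : Fin n, l = ⟨0, by omega⟩ := ⟨_, rfl⟩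
  obtain ⟨d, hd⟩ : ∃ d : Fin n → F, d = fun i => if i = l then -1 else 1 := ⟨_, rfl⟩
  have hdl : d l = -1 := by rw [hd]; exact if_pos rfl
  have hdne : ∀ i, i ≠ l → d i = 1 := fun i hi => by rw [hd]; exact if_neg hi
  have hdd : diagonal d * diagonal d = (1 : Matrix (Fin n) (Fin n) F) := by
    rw [diagonal_mul_diagonal, ← diagonal_one]
    congr 1
    ext i
    by_cases hi : i = l
    · rw [hi, hdl]; ring
    · rw [hdne i hi, mul_one]
  obtain ⟨t, ht⟩ : ∃ t : GL (Fin n) F, t.1 = diagonal d := ⟨⟨diagonal d, diagonal d, hdd, hdd⟩, rfl⟩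
  have htt : t * t = 1 := by
    apply Units.ext
    change t.1 * t.1 = 1
    rw [ht, hdd]
  have ht1 : t ≠ 1 := by
    intro h
    have h1 : t.1 l l = 1 := by rw [h]; exact one_apply_eq l
    rw [ht, diagonal_apply_eq, hdl] at h1
    exact hne1 h1.symm
  have ht2 : orderOf t = 2 := orderOf_eq_prime (by rw [pow_two]; exact htt) ht1
  have hC : ∀ g ∈ centralizer ({t} : Set (GL (Fin n) F)), IsBDG l g := by
    intro g hg i hi
    have h1 : t * g = g * t := mem_centralizer_singleton_iff'.mp hg
    have h3 : t.1 * g.1 = g.1 * t.1 := congrArg Units.val h1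
    rw [ht] at h3
    constructor
    · have h4 := congrFun (congrFun h3 i) l
      rw [diagonal_mul, mul_diagonal, hdne i hi, hdl] at h4
      apply hx0
      exact (mul_comm _ _).trans (h4.trans (mul_comm _ _))
    · have h4 := congrFun (congrFun h3 l) i
      rw [diagonal_mul, mul_diagonal, hdne i hi, hdl] at h4
      exact hx0 _ h4.symm
  have hC' : ∀ g, IsBDG l g → g ∈ centralizer ({t} : Set (GL (Fin n) F)) := by
    intro g hg
    rw [mem_centralizer_singleton_iff']
    apply Units.ext
    change t.1 * g.1 = g.1 * t.1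
    rw [ht]
    ext i j
    rw [diagonal_mul, mul_diagonal]
    by_cases hi : i = l
    · by_cases hj : j = l
      · rw [hi, hj, mul_comm]
      · rw [hi, (hg j hj).2, mul_zero, zero_mul]
    · by_cases hj : j = l
      · rw [hj, (hg i hi).1, mul_zero, zero_mul]
      · rw [hdne i hi, hdne j hj, mul_comm]
  obtain ⟨e⟩ := entG_ker_equiv hC hC'
  obtain ⟨m0, hm0⟩ : ∃ m0 : Fin n, m0 ≠ l := by
    have : Nontrivial (Fin n) := Fin.nontrivial_iff_two_le.2 (by omega)
    exact exists_ne l
  refine ⟨t, ht2, ?_, ?_⟩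
  · intro htc
    have h1 : (transvection l m0 (1 : F)) ∈ Set.range (fun g : GL (Fin n) F => g.1) := by
      exact ⟨SpecialLinearGroup.toGL (trv (Ne.symm hm0)), rfl⟩
    obtain ⟨g, hg⟩ := h1
    have h3 : g * t = t * g := mem_center_iff.mp htc g
    have h5 := (hC g (mem_centralizer_singleton_iff'.mpr h3.symm) m0 hm0).2
    have h6 : g.1 = transvection l m0 (1 : F) := hg
    rw [h6, transvection, Matrix.add_apply, one_apply_ne (Ne.symm hm0), single_apply_same, zero_add] at h5
    exact one_ne_zero h5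
  · have hcard4 : n = 3 → 4 ≤ Nat.card F := by
      intro h3
      rw [Nat.card_eq_fintype_card]
      have h1 : Fintype.card F ≠ 3 := fun h => h33 ⟨h3, h⟩
      have h4 : 1 < Fintype.card F := Fintype.one_lt_card
      obtain ⟨c, hc⟩ := hF
      omega
    have hq : IsQuasisimple (entG hC).ker := (isQuasisimple_congr e).mpr (quasisimple_SL_sub hn hcard4)
    have hcomp : IsComponent (entG hC).ker := ⟨Subgroup.Normal.isSubnormal inferInstance, hq⟩
    haveI : Finite (GL (Fin n) F) := inferInstance
    rcases IsComponent.map_mk'_isComponent_or hcomp 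
      (oddCore ↥(centralizer ({t} : Set (GL (Fin n) F)))) with h | h
    · exact ⟨_, h⟩
    · exfalso
      have h5 : (entG hC).ker ≤ oddCore ↥(centralizer ({t} : Set (GL (Fin n) F))) := by
        have h6 := (Subgroup.map_eq_bot_iff _).mp h
        rwa [QuotientGroup.ker_mk'] at h6
      have hcard : Fintype.card {i : Fin n // i ≠ l} = n - 1 := by
        rw [Fintype.card_subtype_compl, Fintype.card_fin, Fintype.card_subtype_eq]
      haveI : Nontrivial {i : Fin n // i ≠ l} := Fintype.one_lt_card_iff_nontrivial.mp (by omega)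
      have h7 := two_dvd_SL (F := F) (ι := {i : Fin n // i ≠ l}) hne1
      rw [← Nat.card_congr e.toEquiv] at h7
      have h8 := h7.trans (card_dvd_of_le h5)
      have h9 : (Nat.card (oddCore ↥(centralizer ({t} : Set (GL (Fin n) F))))).Coprime 2 := 
        coprime_card_pPrimeCore 2
      exact (Nat.Prime.coprime_iff_not_dvd Nat.prime_two).mp h9.symm h8

end glpart

end CfsgH2
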