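import Mathlib
import Cfsg.Agent.H2.BenderMax
import Cfsg.Agent.H2.PConstrained
import Cfsg.Agent.H2.PLayer
import Cfsg.Agent.H1.CopExtra
import Cfsg.Agent.H2.ClassSize

/-! Odd order subgroups of the core of the centralizer of an involution act on components. -/

set_option autoImplicit false

namespace CfsgH2

open Subgroup Cfsg
open scoped commutatorElement

variable {G : Type*} [Group G]

/-- `Ea` is (the image of) a component of `H` -/
def IsCompA (H Ea : Subgroup G) : Prop := ∃ E : Subgroup H, IsComponent E ∧ E.map H.subtype = Ea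

theorem mem_map_conj'' {K : Subgroup G} {g x : G} : 
    x ∈ K.map (MulAut.conj g).toMonoidHom ↔ g⁻¹ * x * g ∈ K := by
  constructor
  · rintro ⟨y, hy, rfl⟩
    have : g⁻¹ * (g * y * g⁻¹) * g = y := by group
    change g⁻¹ * (g * y * g⁻¹) * g ∈ K
    rw [this]; exact hy
  · intro h
    refine ⟨_, h, ?_⟩
    change g * (g⁻¹ * x * g) * g⁻¹ = x
    group

theorem conj_mem_map {K : Subgroup G} {g x : G} (hx : x ∈ K) : 
    g * x * g⁻¹ ∈ K.map (MulAut.conj g).toMonoidHom := ⟨x, hx, rfl⟩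

theorem IsCompA.conj {H Ea : Subgroup G} (h : IsCompA H Ea) {g : G} (hg : g ∈ normalizer (H : Set G)) :
    IsCompA H (Ea.map (MulAut.conj g).toMonoidHom) := by
  obtain ⟨E, hE, rfl⟩ := h
  refine ⟨E.map (CfsgH1.conjAut hg).toMonoidHom, IsComponent.map_equiv _ hE, ?_⟩
  rw [Subgroup.map_map, Subgroup.map_map]
  rfl

theorem IsCompA.le {H Ea : Subgroup G} (h : IsCompA H Ea) : Ea ≤ H := by
  obtain ⟨E, hE, rfl⟩ := h
  exact map_subtype_le _

theorem IsCompA.comm {H Ea Fa : Subgroup G} (h : IsCompA H Ea) (h' : IsCompA H Fa) (hne : Ea ≠ Fa) :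
    ∀ x ∈ Ea, ∀ y ∈ Fa, x * y = y * x := by
  obtain ⟨E, hE, rfl⟩ := h
  obtain ⟨F, hF, rfl⟩ := h'
  have h1 : ⁅E, F⁆ = ⊥ := IsComponent.commutator_eq_bot_of_ne hE hF (fun h => hne (by rw [h]))
  rintro _ ⟨x, hx, rfl⟩ _ ⟨y, hy, rfl⟩
  have h2 := commutator_eq_bot_iff_le_centralizer.mp h1
  have h3 := mem_centralizer_iff.mp (h2 hx) y hy
  exact congrArg Subtype.val h3.symm

theorem IsCompA.perfect {H Ea : Subgroup G} (h : IsCompA H Ea) : ⁅Ea, Ea⁆ = Ea := by
  obtain ⟨E, hE, rfl⟩ := h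
  rw [← map_commutator, IsComponent.commutator_self hE]

theorem IsCompA.normal_dichotomy {H Ea : Subgroup G} (h : IsCompA H Ea) {D : Subgroup G} (hD : D ≤ Ea)
    (hn : ∀ e ∈ Ea, ∀ d ∈ D, e * d * e⁻¹ ∈ D) : D = Ea ∨ ∀ d ∈ D, ∀ e ∈ Ea, d * e = e * d := by
  obtain ⟨E, hE, rfl⟩ := h
  have hq : IsQuasisimple (E.map H.subtype) := isQuasisimple_map_subtype.mpr hE.2
  haveI : (D.subgroupOf (E.map H.subtype)).Normal := by
    rw [normal_subgroupOf_iff_le_normalizer hD, CfsgH1.le_normalizer_iff_conj]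
    exact hn
  rcases IsQuasisimple.normal_eq_top_or_le_center hq (D.subgroupOf (E.map H.subtype)) with h1 | h1
  · left
    exact le_antisymm hD (subgroupOf_eq_top.mp h1)
  · right
    intro d hd e he
    have h2 : (⟨d, hD hd⟩ : E.map H.subtype) ∈ center (E.map H.subtype) := h1 (mem_subgroupOf.mpr hd)
    exact (congrArg Subtype.val (mem_center_iff.mp h2 ⟨e, he⟩)).symm

theorem IsCompA.two_dvd [Finite G] {H Ea : Subgroup G} (h : IsCompA H Ea) (hO : oddCore H = ⊥) : 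
    2 ∣ Nat.card Ea := by
  obtain ⟨E, hE, rfl⟩ := h
  by_contra h2
  have h3 : (Nat.card E).Coprime 2 := by
    have h4 : Nat.card (E.map H.subtype) = Nat.card E := card_map_of_injective H.subtype_injective
    rw [h4] at h2
    exact ((Nat.Prime.coprime_iff_not_dvd Nat.prime_two).mpr h2).symm
  have h4 := IsSubnormal.le_pPrimeCore hE.1 h3
  change E ≤ oddCore H at h4
  rw [hO] at h4
  exact IsComponent.ne_bot hE (le_bot_iff.mp h4)

theorem IsCompA.sylow_not_central [Finite G] {H Ea : Subgroup G} (h : IsCompA H Ea) (hO : oddCore H = ⊥)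
    (S : Sylow 2 Ea) : ¬ (S : Subgroup Ea) ≤ center Ea := by
  haveI : Fact (Nat.Prime 2) := ⟨Nat.prime_two⟩
  intro hS
  have h1 := h.two_dvd hO
  obtain ⟨E, hE, rfl⟩ := h
  have hq : IsQuasisimple (E.map H.subtype) := isQuasisimple_map_subtype.mpr hE.2
  have h2 := IsQuasisimple.dvd_index_center hq Nat.prime_two h1
  exact S.not_dvd_index (h2.trans (index_dvd_of_le hS))

theorem centralizes_of_comm_central {Ea : Subgroup G} (hp : ⁅Ea, Ea⁆ = Ea) {y : G}
    (h : ∀ k ∈ Ea, (k * (y * k⁻¹ * y⁻¹)) ∈ Ea ∧ ∀ e ∈ Ea, (k * (y * k⁻¹ * y⁻¹)) * e = e * (k * (y * k⁻¹ * y⁻¹))) :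
    ∀ k ∈ Ea, y * k = k * y := by
  have h1 : ⁅Ea, Ea⁆ ≤ centralizer {y} := by
    rw [commutator_le]
    intro k hk l hl
    rw [mem_centralizer_singleton_iff']
    obtain ⟨hck, hck'⟩ := h k⁻¹ (Ea.inv_mem hk)
    obtain ⟨hcl, hcl'⟩ := h l⁻¹ (Ea.inv_mem hl)
    rw [inv_inv] at hck hck' hcl hcl'
    set c := k⁻¹ * (y * k * y⁻¹) with hc
    set d := l⁻¹ * (y * l * y⁻¹) with hd
    have e1 : y * k * y⁻¹ = k * c := by rw [hc]; group
    have e2 : y * l * y⁻¹ = l * d := by rw [hd]; group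
    have e3 : y * ⁅k, l⁆ * y⁻¹ = ⁅k, l⁆ := by
      have e4 : y * ⁅k, l⁆ * y⁻¹ = ⁅y * k * y⁻¹, y * l * y⁻¹⁆ := by
        rw [commutatorElement_def, commutatorElement_def]; group
      rw [e4, e1, e2, commutatorElement_def, commutatorElement_def]
      have c1 : c * l = l * c := hck' l hl
      have c2 : c * d = d * c := hck' d hcl
      have d1 : d * k = k * d := hcl' k hk
      calc k * c * (l * d) * (k * c)⁻¹ * (l * d)⁻¹ 
          = k * (c * l) * d * c⁻¹ * k⁻¹ * d⁻¹ * l⁻¹ := by group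
        _ = k * l * (c * d) * c⁻¹ * k⁻¹ * d⁻¹ * l⁻¹ := by rw [c1]; group
        _ = k * l * (d * k⁻¹) * d⁻¹ * l⁻¹ := by rw [c2]; group
        _ = k * l * (k⁻¹ * d) * d⁻¹ * l⁻¹ := by
            congr 3
            rw [eq_inv_mul_iff_mul_eq, ← mul_assoc, ← d1]; group
        _ = k * l * k⁻¹ * l⁻¹ := by group
    exact mul_inv_eq_iff_eq_mul.mp e3
  intro k hk
  rw [← hp] at hk
  exact mem_centralizer_singleton_iff'.mp (h1 hk)

theorem comm_of_odd_pow_comm {x : G} {m : ℕ} (hx : x ^ (2 ^ m) = 1) {n : ℕ} (hn : Odd n) {e : G} 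
    (h : x ^ n * e = e * x ^ n) : x * e = e * x := by
  have h1 : n.Coprime (orderOf x) := by
    have h2 : orderOf x ∣ 2 ^ m := orderOf_dvd_of_pow_eq_one hx
    exact Nat.Coprime.coprime_dvd_right h2 (Nat.Coprime.pow_right m (Nat.coprime_two_right.mpr hn))
  obtain ⟨k, hk⟩ := exists_pow_eq_self_of_coprime h1
  have h2 : Commute (x ^ n) e := h
  have h3 := h2.pow_left k
  rw [hk] at h3
  exact h3

/-- a 2-element of the component outside its centre, on which `t` acts trivially modulo the centre -/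
theorem IsCompA.exists_elem [Finite G] {H Ea : Subgroup G} (h : IsCompA H Ea) (hO : oddCore H = ⊥) {t : G}
    (ht : t * t = 1) (htE : ∀ e ∈ Ea, t * e * t⁻¹ ∈ Ea) : 
    ∃ x ∈ Ea, (∃ m : ℕ, x ^ (2 ^ m) = 1) ∧ (∃ e ∈ Ea, x * e ≠ e * x) ∧ 
      (∀ e ∈ Ea, (x⁻¹ * (t * x * t⁻¹)) * e = e * (x⁻¹ * (t * x * t⁻¹))) ∧ 
      ∃ m : ℕ, (x⁻¹ * (t * x * t⁻¹)) ^ (2 ^ m) = 1 := by
  haveI : Fact (Nat.Prime 2) := ⟨Nat.prime_two⟩
  have ht2 : IsPGroup 2 (zpowers t) := by
    rintro ⟨y, hy⟩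
    obtain ⟨k, rfl⟩ := mem_zpowers_iff.mp hy
    refine ⟨1, Subtype.ext ?_⟩
    change (t ^ k) ^ (2 ^ 1) = 1
    rw [pow_one, ← zpow_natCast, ← zpow_mul, mul_comm, zpow_mul]
    have : t ^ ((2 : ℕ) : ℤ) = 1 := by rw [zpow_natCast, pow_two, ht]
    rw [this, one_zpow]
  have htn : zpowers t ≤ normalizer (Ea : Set G) := by
    rw [zpowers_le]
    have h1 : ∀ e, e ∈ Ea ↔ t * e * t⁻¹ ∈ Ea := by
      intro e
      refine ⟨htE e, fun he => ?_⟩
      have h2 := htE _ he
      have h3 : t * (t * e * t⁻¹) * t⁻¹ = e := by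
        calc t * (t * e * t⁻¹) * t⁻¹ = (t * t) * e * (t * t)⁻¹ := by group
          _ = e := by rw [ht]; group
      rwa [h3] at h2
    rw [mem_normalizer_iff]
    exact h1
  -- a Sylow 2-subgroup of ⟨Ea, t⟩ containing t
  let T : Subgroup G := Ea ⊔ zpowers t
  have hTn : T ≤ normalizer (Ea : Set G) := sup_le le_normalizer htn
  have hET : Ea ≤ T := le_sup_left
  have htT : t ∈ T := (le_sup_right : zpowers t ≤ T) (mem_zpowers t)
  obtain ⟨P, hP⟩ := (ht2.of_equiv (subgroupOfEquivOfLe (le_sup_right : zpowers t ≤ T)).symm).exists_le_sylow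
  have htP : (⟨t, htT⟩ : T) ∈ P := hP (mem_subgroupOf.mpr (mem_zpowers t))
  have hEn : (Ea.subgroupOf T).Normal := (normal_subgroupOf_iff_le_normalizer hET).mpr hTn
  -- its intersection with Ea is a Sylow subgroup of Ea
  have hex : ∃ x₀ ∈ Ea, (∃ hx : x₀ ∈ T, (⟨x₀, hx⟩ : T) ∈ P) ∧ ∃ e ∈ Ea, x₀ * e ≠ e * x₀ := by
    by_contra hcon
    push Not at hcon
    -- pick a Sylow 2-subgroup of Ea; it is conjugate into P
    obtain ⟨S⟩ : Nonempty (Sylow 2 Ea) := inferInstance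
    apply h.sylow_not_central hO S
    intro s hs
    -- S mapped into T is a 2-subgroup, contained in a Sylow conjugate of P
    have hSp : IsPGroup 2 ((S : Subgroup Ea).map (inclusion hET)) := S.isPGroup'.map _
    obtain ⟨Q, hQ⟩ := hSp.exists_le_sylow
    obtain ⟨g, hg⟩ := MulAction.exists_smul_eq T Q P
    have hsQ : inclusion hET s ∈ Q := hQ ⟨s, hs, rfl⟩
    have hgP : g * inclusion hET s * g⁻¹ ∈ P := by
      rw [← hg, Sylow.smul_def]
      exact ⟨inclusion hET s, hsQ, rfl⟩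
    have hgE : (g : G) * s * (g : G)⁻¹ ∈ Ea := CfsgH1.le_normalizer_iff_conj.mp hTn g g.2 s s.2
    have h1 := hcon _ hgE ⟨(g * inclusion hET s * g⁻¹).2, hgP⟩
    rw [mem_center_iff]
    intro e
    apply Subtype.ext
    have h2 := h1 ((g : G) * (e : G) * (g : G)⁻¹) (CfsgH1.le_normalizer_iff_conj.mp hTn g g.2 e e.2)
    have h3 : (g : G) * ((s : G) * (e : G)) * (g : G)⁻¹ = (g : G) * ((e : G) * (s : G)) * (g : G)⁻¹ := by
      calc (g : G) * ((s : G) * (e : G)) * (g : G)⁻¹ = ((g : G) * (s : G) * (g : G)⁻¹) * ((g : G) * (e : G) * (g : G)⁻¹) := by group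
        _ = ((g : G) * (e : G) * (g : G)⁻¹) * ((g : G) * (s : G) * (g : G)⁻¹) := h2
        _ = _ := by group
    exact (mul_left_cancel (mul_right_cancel h3)).symm
  obtain ⟨x₀, hx₀E, ⟨hx₀T, hx₀P⟩, hx₀⟩ := hex
  -- iterate commutation with t
  let τ : P := ⟨⟨t, htT⟩, htP⟩
  have hnil : Group.IsNilpotent P := P.isPGroup'.isNilpotent
  let f : ℕ → P := fun n => Nat.rec ⟨⟨x₀, hx₀T⟩, hx₀P⟩ (fun _ x => ⁅x⁻¹, τ⁆) n
  have hf0 : f 0 = ⟨⟨x₀, hx₀T⟩, hx₀P⟩ := rfl
  have hfs : ∀ n, f (n + 1) = ⁅(f n)⁻¹, τ⁆ := fun n => rfl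
  have hflcs : ∀ n, f n ∈ (⊤ : Subgroup P).lowerCentralSeries n := by
    intro n
    induction n with
    | zero => exact mem_top _
    | succ n ih =>
      rw [hfs, Subgroup.lowerCentralSeries_succ]
      exact commutator_mem_commutator (inv_mem ih) (mem_top _)
  obtain ⟨M, hM⟩ := Subgroup.nilpotent_iff_lowerCentralSeries.mp hnil
  have hfM : f M = 1 := by
    have := hflcs M
    rw [hM] at this
    exact mem_bot.mp this
  have hfE : ∀ n, (f n).1.1 ∈ Ea := by
    intro n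
    induction n with
    | zero => exact hx₀E
    | succ n ih =>
      have h1 : (f (n + 1)).1.1 = (f n).1.1⁻¹ * (t * (f n).1.1 * t⁻¹) := by
        rw [hfs, commutatorElement_def]
        change (f n).1.1⁻¹ * t * (f n).1.1⁻¹⁻¹ * t⁻¹ = _
        group
      rw [h1]
      exact Ea.mul_mem (Ea.inv_mem ih) (htE _ ih)
  -- the last non-central one
  have hex2 : ∃ n, ∀ e ∈ Ea, (f n).1.1 * e = e * (f n).1.1 := ⟨M, fun e _ => by
    rw [hfM]; change 1 * e = e * 1; group⟩
  classical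
  set n := Nat.find hex2 with hn
  have hn1 := Nat.find_spec hex2
  have hn0 : n ≠ 0 := by
    intro h0
    obtain ⟨e, he, hne⟩ := hx₀
    rw [← hn, h0] at hn1
    exact hne (hn1 e he)
  obtain ⟨k, hk⟩ := Nat.exists_eq_succ_of_ne_zero hn0
  have hk2 := Nat.find_min hex2 (show k < Nat.find hex2 by rw [← hn]; omega)
  push Not at hk2
  have h1 : (f (k + 1)).1.1 = (f k).1.1⁻¹ * (t * (f k).1.1 * t⁻¹) := by
    rw [hfs, commutatorElement_def]
    change (f k).1.1⁻¹ * t * (f k).1.1⁻¹⁻¹ * t⁻¹ = _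
    group
  have h2el : ∀ w : P, ∃ m : ℕ, w.1.1 ^ (2 ^ m) = 1 := by
    intro w
    obtain ⟨m, hm⟩ := P.isPGroup' w
    refine ⟨m, ?_⟩
    have := congrArg (fun w : P => w.1.1) hm
    exact this
  refine ⟨(f k).1.1, hfE k, h2el _, hk2, ?_, ?_⟩
  · rw [← h1]
    have : k + 1 = Nat.find hex2 := by rw [← hn, hk]
    rw [this]; exact hn1
  · rw [← h1]; exact h2el _

theorem IsCompA.exists_two_elem [Finite G] {H Ea : Subgroup G} (h : IsCompA H Ea) (hO : oddCore H = ⊥) :
    ∃ x ∈ Ea, (∃ m : ℕ, x ^ (2 ^ m) = 1) ∧ ∃ e ∈ Ea, x * e ≠ e * x := by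
  haveI : Fact (Nat.Prime 2) := ⟨Nat.prime_two⟩
  obtain ⟨S⟩ : Nonempty (Sylow 2 Ea) := inferInstance
  have h1 := h.sylow_not_central hO S
  rw [SetLike.not_le_iff_exists] at h1
  obtain ⟨x, hx, hxc⟩ := h1
  rw [mem_center_iff] at hxc
  push Not at hxc
  obtain ⟨e, he⟩ := hxc
  obtain ⟨m, hm⟩ := S.isPGroup' ⟨x, hx⟩
  refine ⟨x, x.2, ⟨m, ?_⟩, e, e.2, ?_⟩
  · have := congrArg (fun w : S => ((w : Ea) : G)) hm
    exact this
  · intro h2
    exact he (Subtype.ext h2.symm)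

theorem IsCompA.mem_Opm [Finite G] {H Ea : Subgroup G} (h : IsCompA H Ea) {z : G} (hz : z ∈ Ea)
    (hc : ∀ e ∈ Ea, z * e = e * z) {m : ℕ} (hm : z ^ (2 ^ m) = 1) : z ∈ Opm 2 H := by
  obtain ⟨E, hE, rfl⟩ := h
  obtain ⟨e, he, rfl⟩ := hz
  have hle : zpowers e ≤ E := by rwa [zpowers_le]
  have h1 : (zpowers e).IsSubnormal := by
    refine IsSubnormal.step _ E hle hE.1 ?_
    rw [normal_subgroupOf_iff_le_normalizer hle]
    intro g hg
    have hge : g * e = e * g := by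
      apply Subtype.ext
      exact (hc _ ⟨g, hg, rfl⟩).symm
    refine (CfsgH1.le_normalizer_iff_conj (H := zpowers g)).mpr ?_ (mem_zpowers g)
    intro a ha x hx
    obtain ⟨i, rfl⟩ := mem_zpowers_iff.mp ha
    obtain ⟨k, rfl⟩ := mem_zpowers_iff.mp hx
    have h2 : Commute (g ^ i) (e ^ k) := ((show Commute g e from hge).zpow_left i).zpow_right k
    rw [h2.eq, mul_inv_cancel_right]
    exact hx
  have h2 : IsPGroup 2 (zpowers e) := by
    rintro ⟨y, hy⟩
    obtain ⟨k, rfl⟩ := mem_zpowers_iff.mp hy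
    refine ⟨m, Subtype.ext ?_⟩
    change (e ^ k) ^ (2 ^ m) = 1
    have h3 : e ^ (2 ^ m) = 1 := Subtype.ext hm
    rw [← zpow_natCast, ← zpow_mul, mul_comm, zpow_mul, zpow_natCast, h3, one_zpow]
  exact ⟨e, IsSubnormal.le_pCore h1 h2 (mem_zpowers e), rfl⟩

/-- the odd core of `C_H(t)` -/
def OC (H : Subgroup G) (t : G) : Subgroup G := 
  (oddCore ↥(H ⊓ centralizer ({t} : Set G))).map (H ⊓ centralizer ({t} : Set G)).subtype

section main

variable [Finite G] {H : Subgroup G} {t : G} 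

theorem OC_le : OC H t ≤ H ⊓ centralizer ({t} : Set G) := map_subtype_le _

theorem OC_norm : H ⊓ centralizer ({t} : Set G) ≤ normalizer (OC H t : Set G) := 
  le_normalizer_map_of_normal _ inferInstance

theorem OC_coprime : (Nat.card (OC H t)).Coprime 2 := by
  have h1 : Nat.card (OC H t) = Nat.card (oddCore ↥(H ⊓ centralizer ({t} : Set G))) := 
    card_map_of_injective (subtype_injective _)
  rw [h1]
  exact coprime_card_pPrimeCore 2

theorem OC_pow {o : G} (ho : o ∈ OC H t) : o ^ Nat.card (OC H t) = 1 := by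
  have h1 : (⟨o, ho⟩ : OC H t) ^ Nat.card (OC H t) = 1 := pow_card_eq_one'
  exact congrArg Subtype.val h1

theorem OC_odd : Odd (Nat.card (OC H t)) := Nat.coprime_two_right.mp OC_coprime

theorem OC_comm_t {y : G} (hy : y ∈ OC H t) : t * y = y * t := 
  mem_centralizer_singleton_iff'.mp (OC_le hy).2

theorem OC_le_centralizer_Opm (htt : t * t = 1) (htH : t ∈ normalizer (H : Set G)) :
    OC H t ≤ centralizer (Opm 2 H : Set G) := by
  haveI : Fact (Nat.Prime 2) := ⟨Nat.prime_two⟩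
  have ht2 : IsPGroup 2 (zpowers t) := by
    rintro ⟨y, hy⟩
    obtain ⟨k, rfl⟩ := mem_zpowers_iff.mp hy
    refine ⟨1, Subtype.ext ?_⟩
    change (t ^ k) ^ (2 ^ 1) = 1
    rw [pow_one, ← zpow_natCast, ← zpow_mul, mul_comm, zpow_mul]
    have : t ^ ((2 : ℕ) : ℤ) = 1 := by rw [zpow_natCast, pow_two, htt]
    rw [this, one_zpow]
  refine CfsgH1.pq_lemma (p := 2) ht2 OC_coprime ?_ _ (Opm 2 H) rfl (isPGroup_Opm 2 H) ?_ ?_ ?_
  · rw [zpowers_le, mem_centralizer_iff]
    intro y hy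
    exact (OC_comm_t hy).symm
  · rw [zpowers_le]
    exact CfsgH1.normalizer_le_map_characteristic _ htH
  · exact (OC_le.trans inf_le_left).trans norm_Opm
  · intro u hu
    rw [mem_centralizer_iff]
    intro y hy
    have hut : t * u = u * t := by
      exact (mem_centralizer_iff.mp hu.2 t (mem_zpowers t))
    have hW : Opm 2 H ⊓ centralizer ({t} : Set G) ≤ normalizer (OC H t : Set G) := 
      le_trans (inf_le_inf_right _ (map_subtype_le _)) OC_norm
    have hY : OC H t ≤ normalizer ((Opm 2 H ⊓ centralizer ({t} : Set G) : Subgroup G) : Set G) := by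
      rw [CfsgH1.le_normalizer_iff_conj]
      intro y hy w hw
      refine ⟨CfsgH1.le_normalizer_iff_conj.mp norm_Opm y (OC_le hy).1 w hw.1, ?_⟩
      refine (centralizer ({t} : Set G)).mul_mem ((centralizer ({t} : Set G)).mul_mem (OC_le hy).2 hw.2) 
        ((centralizer ({t} : Set G)).inv_mem (OC_le hy).2)
    have h1 := comm_of_norm_coprime hW hY (coprime_p_p' ((isPGroup_Opm 2 H).to_le inf_le_left) OC_coprime)
    exact (h1 u ⟨hu.1, mem_centralizer_singleton_iff'.mpr hut⟩ y hy).symm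

/-- `y` of odd order: if `y * y` fixes `Ea`, so does `y` -/
theorem fix_of_sq_fix {Ea : Subgroup G} {y : G} (hy : Odd (orderOf y)) 
    (h : Ea.map (MulAut.conj (y * y)).toMonoidHom = Ea) : Ea.map (MulAut.conj y).toMonoidHom = Ea := by
  have hpow' : ∀ w : G, Ea.map (MulAut.conj w).toMonoidHom = Ea → 
      ∀ k : ℕ, Ea.map (MulAut.conj (w ^ k)).toMonoidHom = Ea := by
    intro w h k
    induction k with
    | zero => 
      ext x
      rw [mem_map_conj'']
      simp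
    | succ k ih =>
      ext x
      rw [mem_map_conj'']
      have h1 : (w ^ (k + 1))⁻¹ * x * w ^ (k + 1) = (w ^ k)⁻¹ * (w⁻¹ * x * w) * w ^ k := by
        rw [pow_succ']; group
      rw [h1, ← mem_map_conj'', ih]
      rw [← mem_map_conj'', h]
  have hpow := hpow' _ h
  obtain ⟨k, hk⟩ := hy
  have h2 : (y * y) ^ (k + 1) = y := by
    have h3 : y ^ (2 * k + 1) = 1 := by rw [← hk]; exact pow_orderOf_eq_one y
    have h4 : (y * y) ^ (k + 1) = y ^ (2 * k + 1) * y := by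
      rw [← pow_two, ← pow_mul, ← pow_succ]; congr 1
    rw [h4, h3, one_mul]
  have := hpow (k + 1)
  rwa [h2] at this

theorem OC_odd_order {y : G} (hy : y ∈ OC H t) : Odd (orderOf y) := by
  have h1 : orderOf y ∣ Nat.card (OC H t) := orderOf_dvd_of_pow_eq_one (OC_pow hy)
  obtain ⟨c, hc⟩ := h1
  have := OC_odd (H := H) (t := t)
  rw [hc] at this
  exact Nat.Odd.of_mul_left this

theorem map_conj_comm {K : Subgroup G} {a b : G} (hab : a * b = b * a) : 
    (K.map (MulAut.conj a).toMonoidHom).map (MulAut.conj b).toMonoidHom = 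
      (K.map (MulAut.conj b).toMonoidHom).map (MulAut.conj a).toMonoidHom := by
  ext x
  rw [mem_map_conj'', mem_map_conj'', mem_map_conj'', mem_map_conj'']
  have : a⁻¹ * (b⁻¹ * x * b) * a = b⁻¹ * (a⁻¹ * x * a) * b := by
    calc a⁻¹ * (b⁻¹ * x * b) * a = (b * a)⁻¹ * x * (b * a) := by group
      _ = (a * b)⁻¹ * x * (a * b) := by rw [hab]
      _ = _ := by group
  rw [this]

theorem map_conj_conj {K : Subgroup G} {a b : G} : 
    (K.map (MulAut.conj a).toMonoidHom).map (MulAut.conj b).toMonoidHom = 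
      K.map (MulAut.conj (b * a)).toMonoidHom := by
  ext x
  rw [mem_map_conj'', mem_map_conj'', mem_map_conj'']
  have : a⁻¹ * (b⁻¹ * x * b) * a = (b * a)⁻¹ * x * (b * a) := by group
  rw [this]

theorem map_conj_one_eq {K : Subgroup G} : K.map (MulAut.conj (1 : G)).toMonoidHom = K := by
  ext x; rw [mem_map_conj'']; simp

theorem map_conj_injective' (g : G) : 
    Function.Injective (fun K : Subgroup G => K.map (MulAut.conj g).toMonoidHom) :=
  map_injective (MulAut.conj g).injective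

/-- elements of the odd core centralise a component moved by `t` -/
theorem comp_moved (hO : oddCore H = ⊥) (htt : t * t = 1) (htH : t ∈ normalizer (H : Set G)) 
    {Ea : Subgroup G} (hE : IsCompA H Ea) (hne : Ea.map (MulAut.conj t).toMonoidHom ≠ Ea) {y : G} 
    (hy : y ∈ OC H t) : ∀ k ∈ Ea, y * k = k * y := by
  have htinv : t⁻¹ = t := inv_eq_of_mul_eq_one_left htt
  have hyH : y ∈ H := (OC_le hy).1
  have hyn : y ∈ normalizer (H : Set G) := le_normalizer hyH
  have hty := OC_comm_t hy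
  set Fa := Ea.map (MulAut.conj t).toMonoidHom with hFa
  have hF : IsCompA H Fa := hE.conj htH
  have hEF := hE.comm hF hne.symm
  set Ey := Ea.map (MulAut.conj y).toMonoidHom with hEy
  have hEyc : IsCompA H Ey := hE.conj hyn
  set Fy := Fa.map (MulAut.conj y).toMonoidHom with hFy
  have hFyc : IsCompA H Fy := hF.conj hyn
  have hFyt : Fy = Ey.map (MulAut.conj t).toMonoidHom := map_conj_comm hty
  have hFat : Fa.map (MulAut.conj t).toMonoidHom = Ea := by
    rw [hFa, map_conj_conj, htt, map_conj_one_eq]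
  have hconjC : ∀ k ∈ Ea, k * (t * k * t⁻¹) ∈ H ⊓ centralizer ({t} : Set G) := by
    intro k hk
    have hkt : t * k * t⁻¹ ∈ Fa := conj_mem_map hk
    refine ⟨H.mul_mem (hE.le hk) (hF.le hkt), mem_centralizer_singleton_iff'.mpr ?_⟩
    have h1 := hEF k hk _ hkt
    have e1 : t * (t * k * t⁻¹ * k) = k * t * k := by
      calc t * (t * k * t⁻¹ * k) = (t * t) * k * t⁻¹ * k := by group
        _ = k * t⁻¹ * k := by rw [htt, one_mul]
        _ = k * t * k := by rw [htinv]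
    have e2 : k * (t * k * t⁻¹) * t = k * t * k := by group
    rw [e2, h1]
    exact e1
  have hcomO : ∀ k ∈ Ea, (k * (t * k * t⁻¹)) * (y * (k * (t * k * t⁻¹))⁻¹ * y⁻¹) ∈ OC H t := by
    intro k hk
    have h1 := CfsgH1.le_normalizer_iff_conj.mp OC_norm _ (hconjC k hk) y hy
    have h2 := (OC H t).mul_mem h1 ((OC H t).inv_mem hy)
    have h3 : (k * (t * k * t⁻¹)) * (y * (k * (t * k * t⁻¹))⁻¹ * y⁻¹) = 
      k * (t * k * t⁻¹) * y * (k * (t * k * t⁻¹))⁻¹ * y⁻¹ := by group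
    rw [h3]; exact h2
  by_cases hEyE : Ey = Ea
  · -- y normalises Ea
    let D : Subgroup G := 
      { carrier := {k | k ∈ Ea ∧ k * (t * k * t⁻¹) ∈ OC H t}
        mul_mem' := by
          rintro a b ⟨ha, ha'⟩ ⟨hb, hb'⟩
          refine ⟨Ea.mul_mem ha hb, ?_⟩
          have h1 := hEF b hb _ (conj_mem_map ha)
          have h2 : a * b * (t * (a * b) * t⁻¹) = (a * (t * a * t⁻¹)) * (b * (t * b * t⁻¹)) := by
            calc a * b * (t * (a * b) * t⁻¹) = a * (b * (t * a * t⁻¹)) * (t * b * t⁻¹) := by group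
              _ = a * ((t * a * t⁻¹) * b) * (t * b * t⁻¹) := by rw [h1]
              _ = _ := by group
          rw [h2]
          exact (OC H t).mul_mem ha' hb'
        one_mem' := ⟨Ea.one_mem, by simp [one_mem]⟩
        inv_mem' := by
          rintro a ⟨ha, ha'⟩
          refine ⟨Ea.inv_mem ha, ?_⟩
          have h1 := hEF a ha _ (conj_mem_map ha)
          have h2 : a⁻¹ * (t * a⁻¹ * t⁻¹) = (a * (t * a * t⁻¹))⁻¹ := by
            rw [h1]; group
          rw [h2]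
          exact (OC H t).inv_mem ha' }
    have hDE : D ≤ Ea := fun k hk => hk.1
    have hDn : ∀ e ∈ Ea, ∀ d ∈ D, e * d * e⁻¹ ∈ D := by
      rintro e he d ⟨hd, hd'⟩
      refine ⟨Ea.mul_mem (Ea.mul_mem he hd) (Ea.inv_mem he), ?_⟩
      have h1 := CfsgH1.le_normalizer_iff_conj.mp OC_norm _ (hconjC e he) _ hd'
      have c1 : ∀ a ∈ Ea, ∀ b ∈ Ea, a * (t * b * t⁻¹) = (t * b * t⁻¹) * a := 
        fun a ha b hb => hEF a ha _ (conj_mem_map hb)
      have h2 : e * d * e⁻¹ * (t * (e * d * e⁻¹) * t⁻¹) = 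
          e * (t * e * t⁻¹) * (d * (t * d * t⁻¹)) * (e * (t * e * t⁻¹))⁻¹ := by
        have c2 := c1 (e⁻¹) (Ea.inv_mem he) (e * d * e⁻¹) (Ea.mul_mem (Ea.mul_mem he hd) (Ea.inv_mem he))
        have c3 := c1 d hd e he
        calc e * d * e⁻¹ * (t * (e * d * e⁻¹) * t⁻¹) 
            = e * d * (e⁻¹ * (t * (e * d * e⁻¹) * t⁻¹)) := by group
          _ = e * d * ((t * (e * d * e⁻¹) * t⁻¹) * e⁻¹) := by rw [c2]
          _ = e * (d * (t * e * t⁻¹)) * (t * d * t⁻¹) * (t * e * t⁻¹)⁻¹ * e⁻¹ := by group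
          _ = e * ((t * e * t⁻¹) * d) * (t * d * t⁻¹) * (t * e * t⁻¹)⁻¹ * e⁻¹ := by rw [c3]
          _ = _ := by group
      rw [h2]; exact h1
    rcases hE.normal_dichotomy hDE hDn with h | h
    · exfalso
      obtain ⟨x, hx, ⟨m, hm⟩, e, he, hxe⟩ := hE.exists_two_elem hO
      have hxD : x ∈ D := by rw [h]; exact hx
      have h1 := OC_pow hxD.2
      have c1 : Commute x (t * x * t⁻¹) := hEF x hx _ (conj_mem_map hx)
      rw [c1.mul_pow] at h1
      have h2 : x ^ Nat.card (OC H t) = ((t * x * t⁻¹) ^ Nat.card (OC H t))⁻¹ := eq_inv_of_mul_eq_one_left h1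
      apply hxe
      refine comm_of_odd_pow_comm hm (OC_odd (H := H) (t := t)) ?_
      rw [h2]
      have c2 : Commute (t * x * t⁻¹) e := (hEF e he _ (conj_mem_map hx)).symm
      exact (c2.pow_left _).inv_left.eq
    · refine centralizes_of_comm_central hE.perfect ?_
      intro k hk
      have hyk : y * k⁻¹ * y⁻¹ ∈ Ea := by
        have : y * k⁻¹ * y⁻¹ ∈ Ey := conj_mem_map (Ea.inv_mem hk)
        rwa [hEyE] at this
      have hwE : k * (y * k⁻¹ * y⁻¹) ∈ Ea := Ea.mul_mem hk hyk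
      refine ⟨hwE, h _ ⟨hwE, ?_⟩⟩
      have h1 := hcomO k hk
      have c1 := hEF _ hyk _ (conj_mem_map (g := t) hk)
      have c2 := hEF k hk _ (conj_mem_map (g := t) hk)
      have h2 : k * (y * k⁻¹ * y⁻¹) * (t * (k * (y * k⁻¹ * y⁻¹)) * t⁻¹) = 
          (k * (t * k * t⁻¹)) * (y * (k * (t * k * t⁻¹))⁻¹ * y⁻¹) := by
        have e1 : t * (y * k⁻¹ * y⁻¹) * t⁻¹ = y * (t * k⁻¹ * t⁻¹) * y⁻¹ := by
          calc t * (y * k⁻¹ * y⁻¹) * t⁻¹ = (t * y) * k⁻¹ * (t * y)⁻¹ := by group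
            _ = (y * t) * k⁻¹ * (y * t)⁻¹ := by rw [hty]
            _ = _ := by group
        calc k * (y * k⁻¹ * y⁻¹) * (t * (k * (y * k⁻¹ * y⁻¹)) * t⁻¹) 
            = k * ((y * k⁻¹ * y⁻¹) * (t * k * t⁻¹)) * (t * (y * k⁻¹ * y⁻¹) * t⁻¹) := by group
          _ = k * ((t * k * t⁻¹) * (y * k⁻¹ * y⁻¹)) * (y * (t * k⁻¹ * t⁻¹) * y⁻¹) := by rw [c1, e1]
          _ = (k * (t * k * t⁻¹)) * (y * ((t * k * t⁻¹) * k)⁻¹ * y⁻¹) := by group
          _ = _ := by rw [c2]
      rw [h2]; exact h1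
  · exfalso
    have hEyF : Ey ≠ Fa := by
      intro h
      apply hEyE
      apply fix_of_sq_fix (OC_odd_order hy)
      rw [← map_conj_conj, ← hEy, h, ← hFy, hFyt, h, hFat]
    have hFyE : Fy ≠ Ea := by
      intro h
      apply hEyF
      have h1 : Ey = Fy.map (MulAut.conj t).toMonoidHom := by
        rw [hFyt, map_conj_conj, htt, map_conj_one_eq]
      rw [h1, h]
    obtain ⟨x, hx, ⟨m, hm⟩, e, he, hxe⟩ := hE.exists_two_elem hO
    have h1 := OC_pow (hcomO x hx)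
    have hxt : t * x * t⁻¹ ∈ Fa := conj_mem_map hx
    set r := (t * x * t⁻¹) * (y * (x * (t * x * t⁻¹))⁻¹ * y⁻¹) with hr
    have hcr : ∀ e ∈ Ea, e * r = r * e := by
      intro e he
      have c1 : Commute e (t * x * t⁻¹) := hEF e he _ hxt
      have c2 : Commute e (y * (t * x * t⁻¹)⁻¹ * y⁻¹) := hE.comm hFyc hFyE.symm e he _ (conj_mem_map (Fa.inv_mem hxt))
      have c3 : Commute e (y * x⁻¹ * y⁻¹) := hE.comm hEyc (Ne.symm hEyE) e he _ (conj_mem_map (Ea.inv_mem hx))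
      have h2 : r = (t * x * t⁻¹) * ((y * (t * x * t⁻¹)⁻¹ * y⁻¹) * (y * x⁻¹ * y⁻¹)) := by rw [hr]; group
      rw [h2]
      exact (c1.mul_right (c2.mul_right c3)).eq
    have h2 : x * (t * x * t⁻¹) * (y * (x * (t * x * t⁻¹))⁻¹ * y⁻¹) = x * r := by rw [hr]; group
    rw [h2, (show Commute x r from hcr x hx).mul_pow] at h1
    apply hxe
    refine comm_of_odd_pow_comm hm (OC_odd (H := H) (t := t)) ?_
    rw [eq_inv_of_mul_eq_one_left h1]
    exact ((show Commute r e from (hcr e he).symm).pow_left _).inv_left.eq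

/-- elements of the odd core normalise a component fixed by `t` -/
theorem comp_fixed (hO : oddCore H = ⊥) (htt : t * t = 1) (htH : t ∈ normalizer (H : Set G)) 
    {Ea : Subgroup G} (hE : IsCompA H Ea) (hEt : Ea.map (MulAut.conj t).toMonoidHom = Ea) {y : G} 
    (hy : y ∈ OC H t) : Ea.map (MulAut.conj y).toMonoidHom = Ea := by
  by_contra hne
  have hyH : y ∈ H := (OC_le hy).1
  have hyn : y ∈ normalizer (H : Set G) := le_normalizer hyH
  have hty := OC_comm_t hy
  have hne2 : Ea.map (MulAut.conj (y * y)).toMonoidHom ≠ Ea := 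
    fun h => hne (fix_of_sq_fix (OC_odd_order hy) h)
  have hE1 : IsCompA H (Ea.map (MulAut.conj y).toMonoidHom) := hE.conj hyn
  have hE2 : IsCompA H (Ea.map (MulAut.conj (y * y)).toMonoidHom) := hE.conj (mul_mem hyn hyn)
  have htE : ∀ e ∈ Ea, t * e * t⁻¹ ∈ Ea := by
    intro e he
    have : t * e * t⁻¹ ∈ Ea.map (MulAut.conj t).toMonoidHom := conj_mem_map he
    rwa [hEt] at this
  obtain ⟨x, hx, ⟨m, hm⟩, ⟨e, he, hxe⟩, hzc, m', hzm⟩ := hE.exists_elem hO htt htE
  set z := x⁻¹ * (t * x * t⁻¹) with hz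
  have hzE : z ∈ Ea := Ea.mul_mem (Ea.inv_mem hx) (htE x hx)
  have hzO : z ∈ Opm 2 H := hE.mem_Opm hzE hzc hzm
  have hyz : z * y = y * z := mem_centralizer_iff.mp (OC_le_centralizer_Opm htt htH hy) z hzO
  have hxt : t * x * t⁻¹ = x * z := by rw [hz]; group
  set u := x * (y * x⁻¹ * y⁻¹) with hu
  have hut : t * u * t⁻¹ = u := by
    calc t * u * t⁻¹ = (t * x * t⁻¹) * ((t * y) * x⁻¹ * (t * y)⁻¹) := by rw [hu]; group
      _ = (t * x * t⁻¹) * (y * (t * x * t⁻¹)⁻¹ * y⁻¹) := by rw [hty]; group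
      _ = x * z * (y * z⁻¹) * x⁻¹ * y⁻¹ := by rw [hxt]; group
      _ = x * z * (z⁻¹ * y) * x⁻¹ * y⁻¹ := by
          congr 3
          rw [eq_inv_mul_iff_mul_eq, ← mul_assoc, hyz]; group
      _ = u := by rw [hu]; group
  have huH : u ∈ H := H.mul_mem (hE.le hx) (H.mul_mem (H.mul_mem hyH (H.inv_mem (hE.le hx))) (H.inv_mem hyH))
  have huC : u ∈ H ⊓ centralizer ({t} : Set G) := 
    ⟨huH, mem_centralizer_singleton_iff'.mpr (mul_inv_eq_iff_eq_mul.mp hut)⟩
  have huO : u⁻¹ * y * u * y⁻¹ ∈ OC H t := by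
    have h1 := CfsgH1.le_normalizer_iff_conj.mp OC_norm u⁻¹ (inv_mem huC) y hy
    rw [inv_inv] at h1
    exact (OC H t).mul_mem h1 ((OC H t).inv_mem hy)
  have hx1 : y * x * y⁻¹ ∈ Ea.map (MulAut.conj y).toMonoidHom := conj_mem_map hx
  have hx2 : (y * y) * x * (y * y)⁻¹ ∈ Ea.map (MulAut.conj (y * y)).toMonoidHom := conj_mem_map hx
  set x1 := y * x * y⁻¹ with hx1d
  set x2 := (y * y) * x * (y * y)⁻¹ with hx2d
  set r := x1 * x1 * x2⁻¹ with hr
  have hcr : ∀ e ∈ Ea, Commute e r := by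
    intro e he
    have c1 : Commute e x1 := hE.comm hE1 (Ne.symm hne) e he _ hx1
    have c2 : Commute e x2 := hE.comm hE2 (Ne.symm hne2) e he _ hx2
    exact (c1.mul_right c1).mul_right c2.inv_right
  have h1 : u⁻¹ * y * u * y⁻¹ = x⁻¹ * r := by
    have c1 : x * x1 = x1 * x := hE.comm hE1 (Ne.symm hne) x hx _ hx1
    have c2 : x1 * x⁻¹ = x⁻¹ * x1 := by
      rw [eq_inv_mul_iff_mul_eq, ← mul_assoc, c1]; group
    calc u⁻¹ * y * u * y⁻¹ = (x1 * x⁻¹) * (x1 * x2⁻¹) := by rw [hu, hx1d, hx2d]; group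
      _ = x⁻¹ * r := by rw [c2, hr]; group
  rw [h1] at huO
  have h2 := OC_pow huO
  rw [(hcr x hx).inv_left.mul_pow, inv_pow, inv_mul_eq_one] at h2
  apply hxe
  refine comm_of_odd_pow_comm hm (OC_odd (H := H) (t := t)) ?_
  rw [h2]
  exact ((hcr e he).symm.pow_left _).eq

/-- elements of the odd core centralise a component centralised by `t` -/
theorem comp_centralised (hO : oddCore H = ⊥) (htt : t * t = 1) (htH : t ∈ normalizer (H : Set G)) 
    {Ea : Subgroup G} (hE : IsCompA H Ea) (hEt : ∀ e ∈ Ea, t * e = e * t) {y : G} 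
    (hy : y ∈ OC H t) : ∀ k ∈ Ea, y * k = k * y := by
  have hEt' : Ea.map (MulAut.conj t).toMonoidHom = Ea := by
    ext x
    rw [mem_map_conj'']
    constructor
    · intro h
      have h1 := hEt _ h
      have h2 : t⁻¹ * x * t = x := by
        have h3 : x * t = t⁻¹ * x * t * t := by rw [← h1]; group
        exact (mul_right_cancel h3).symm
      rwa [h2] at h
    · intro h
      have h1 := hEt x h
      have h2 : t⁻¹ * x * t = x := by rw [mul_assoc, ← h1]; group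
      rw [h2]; exact h
  have hEC : Ea ≤ H ⊓ centralizer ({t} : Set G) := fun e he => 
    ⟨hE.le he, mem_centralizer_singleton_iff'.mpr (hEt e he)⟩
  have hyE := comp_fixed hO htt htH hE hEt' hy
  have hn := CfsgH1.le_normalizer_iff_conj.mp (OC_norm (H := H) (t := t))
  rcases hE.normal_dichotomy (D := Ea ⊓ OC H t) inf_le_left (by
    rintro e he d ⟨hd, hd'⟩
    exact ⟨Ea.mul_mem (Ea.mul_mem he hd) (Ea.inv_mem he), hn e (hEC he) d hd'⟩) with h | h
  · exfalso
    have h1 : Ea ≤ OC H t := inf_eq_left.mp h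
    have h2 := (hE.two_dvd hO).trans (card_dvd_of_le h1)
    have h3 := OC_odd (H := H) (t := t)
    rw [← Nat.not_even_iff_odd] at h3
    exact h3 (even_iff_two_dvd.mpr h2)
  · refine centralizes_of_comm_central hE.perfect ?_
    intro k hk
    have hyk : y * k⁻¹ * y⁻¹ ∈ Ea := by
      have : y * k⁻¹ * y⁻¹ ∈ Ea.map (MulAut.conj y).toMonoidHom := conj_mem_map (Ea.inv_mem hk)
      rwa [hyE] at this
    have hwE : k * (y * k⁻¹ * y⁻¹) ∈ Ea := Ea.mul_mem hk hyk
    refine ⟨hwE, h _ ⟨hwE, ?_⟩⟩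
    have h1 := (OC H t).mul_mem (hn k (hEC hk) y hy) ((OC H t).inv_mem hy)
    have h2 : k * (y * k⁻¹ * y⁻¹) = k * y * k⁻¹ * y⁻¹ := by group
    rw [h2]; exact h1

/-- S1328 -/
theorem exists_moved_comp (hO : oddCore H = ⊥) (htt : t * t = 1) (htH : t ∈ normalizer (H : Set G))
    {Y : Subgroup G} (hY1 : Y ≠ ⊥) (hY : Y ≤ OC H t) : 
    ∃ E : Subgroup H, IsComponent E ∧ (E.map H.subtype).map (MulAut.conj t).toMonoidHom = E.map H.subtype ∧
      Y ≤ normalizer ((E.map H.subtype : Subgroup G) : Set G) ∧ 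
      ¬ (t ∈ centralizer ((E.map H.subtype : Subgroup G) : Set G)) ∧ 
      ¬ (Y ≤ centralizer ((E.map H.subtype : Subgroup G) : Set G)) := by
  haveI : Fact (Nat.Prime 2) := ⟨Nat.prime_two⟩
  -- a component not centralised by Y
  obtain ⟨E, hE, hEY⟩ : ∃ E : Subgroup H, IsComponent E ∧ 
      ¬ (Y ≤ centralizer ((E.map H.subtype : Subgroup G) : Set G)) := by
    by_contra hcon
    push Not at hcon
    have hYH : Y ≤ H := hY.trans (OC_le.trans inf_le_left)
    have h1 : Y.subgroupOf H ≤ fittingSubgroup H := by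
      refine le_trans ?_ centralizer_generalizedFittingSubgroup_le_fittingSubgroup
      rw [le_centralizer_iff]
      refine sup_le (sSup_le fun E hE => ?_) ?_
      · intro x hx
        rw [mem_centralizer_iff]
        intro y hy
        apply Subtype.ext
        exact (mem_centralizer_iff.mp (hcon E hE (mem_subgroupOf.mp hy)) x ⟨x, hx, rfl⟩).symm
      · rw [fittingSubgroup_eq_pCore_of_pPrimeCore_eq_bot (p := 2) hO]
        intro x hx
        rw [mem_centralizer_iff]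
        intro y hy
        apply Subtype.ext
        exact (mem_centralizer_iff.mp (OC_le_centralizer_Opm htt htH (hY (mem_subgroupOf.mp hy))) x 
          ⟨x, hx, rfl⟩).symm
    rw [fittingSubgroup_eq_pCore_of_pPrimeCore_eq_bot (p := 2) hO] at h1
    apply hY1
    rw [eq_bot_iff]
    intro y hy
    rw [mem_bot]
    obtain ⟨m, hm⟩ := isPGroup_pCore (G := H) 2 ⟨⟨y, hYH hy⟩, h1 (mem_subgroupOf.mpr hy)⟩
    have h2 : y ^ (2 ^ m) = 1 := congrArg (fun w : pCore 2 H => ((w : H) : G)) hm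
    have h3 := OC_pow (hY hy)
    have h4 : orderOf y = 1 := Nat.eq_one_of_dvd_coprimes 
      (Nat.Coprime.pow_right m (Nat.coprime_two_right.mpr (OC_odd (H := H) (t := t)))) 
      (orderOf_dvd_of_pow_eq_one h3) (orderOf_dvd_of_pow_eq_one h2)
    exact orderOf_eq_one_iff.mp h4
  have hEc : IsCompA H (E.map H.subtype) := ⟨E, hE, rfl⟩
  have hEt : (E.map H.subtype).map (MulAut.conj t).toMonoidHom = E.map H.subtype := by
    by_contra h
    apply hEY
    intro y hy
    rw [mem_centralizer_iff]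
    intro k hk
    exact (comp_moved hO htt htH hEc h (hY hy) k hk).symm
  refine ⟨E, hE, hEt, ?_, ?_, hEY⟩
  · rw [CfsgH1.le_normalizer_iff_conj]
    intro y hy k hk
    have h1 := comp_fixed hO htt htH hEc hEt (hY hy)
    have h2 : y * k * y⁻¹ ∈ (E.map H.subtype).map (MulAut.conj y).toMonoidHom := conj_mem_map hk
    rwa [h1] at h2
  · intro htc
    apply hEY
    intro y hy
    rw [mem_centralizer_iff]
    intro k hk
    exact (comp_centralised hO htt htH hEc (fun e he => (mem_centralizer_iff.mp htc e he).symm) (hY hy) k hk).symm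

end main

end CfsgH2
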