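import Mathlib
import Cfsg.Prelude.Def_Balance
import Cfsg.Agent.H2.OddComp
import Cfsg.Agent.H2.BalanceAux

/-! Locally balanced components imply balance. -/

set_option autoImplicit false

namespace CfsgH2

open Subgroup Cfsg
open scoped commutatorElement

section rho

variable {X : Type*} [Group X]

/-- the action of the automorphism group on the central quotient -/
noncomputable def autQuot : MulAut X →* MulAut (X ⧸ center X) where
  toFun φ := QuotientGroup.congr (center X) (center X) φ 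
    (characteristic_iff_map_eq.mp inferInstance φ)
  map_one' := by
    ext x
    induction x using QuotientGroup.induction_on with
    | H x => rfl
  map_mul' := by
    intro φ ψ
    ext x
    induction x using QuotientGroup.induction_on with
    | H x => rfl

theorem autQuot_mk (φ : MulAut X) (x : X) : 
    autQuot φ (QuotientGroup.mk x : X ⧸ center X) = QuotientGroup.mk (φ x) := rfl

end rho

variable {Q : Type*} [Group Q]

/-- the action of the normalizer of `E` on `E / Z(E)` -/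
noncomputable def rho (E : Subgroup Q) : normalizer (E : Set Q) →* MulAut (E ⧸ center E) :=
  autQuot.comp 
    { toFun := fun g => (CfsgH1.conjAut g.2 : MulAut E)
      map_one' := by
        ext x
        change (1 : Q) * x * (1 : Q)⁻¹ = x
        group
      map_mul' := by
        intro g h
        ext x
        change ((g : Q) * h) * x * ((g : Q) * h)⁻¹ = g * (h * x * (h : Q)⁻¹) * (g : Q)⁻¹
        group }

theorem rho_mk {E : Subgroup Q} (g : normalizer (E : Set Q)) (x : E) :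
    rho E g (QuotientGroup.mk x : E ⧸ center E) = QuotientGroup.mk (CfsgH1.conjAut g.2 x) := rfl

theorem rho_eq_one_iff {E : Subgroup Q} (g : normalizer (E : Set Q)) : 
    rho E g = 1 ↔ ∀ k ∈ E, ∀ e ∈ E, (k * (g * k⁻¹ * (g : Q)⁻¹)) * e = e * (k * (g * k⁻¹ * (g : Q)⁻¹)) := by
  constructor
  · intro h k hk e he
    have h1 : rho E g (QuotientGroup.mk (⟨k⁻¹, E.inv_mem hk⟩ : E) : E ⧸ center E) = 
        QuotientGroup.mk (⟨k⁻¹, E.inv_mem hk⟩ : E) := by rw [h]; rfl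
    rw [rho_mk, eq_comm, QuotientGroup.eq] at h1
    have h2 := mem_center_iff.mp h1 ⟨e, he⟩
    have h3 := congrArg Subtype.val h2
    change e * (k⁻¹⁻¹ * (g * k⁻¹ * (g : Q)⁻¹)) = (k⁻¹⁻¹ * (g * k⁻¹ * (g : Q)⁻¹)) * e at h3
    rw [inv_inv] at h3
    exact h3.symm
  · intro h
    ext x
    induction x using QuotientGroup.induction_on with
    | H x =>
      rw [rho_mk]
      change _ = (QuotientGroup.mk x : E ⧸ center E)
      rw [eq_comm, QuotientGroup.eq, mem_center_iff]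
      intro e
      apply Subtype.ext
      have h1 := h (x : Q)⁻¹ (E.inv_mem x.2) e e.2
      rw [inv_inv] at h1
      exact h1.symm

theorem centralizes_of_rho_eq_one {E : Subgroup Q} (hp : ⁅E, E⁆ = E) {g : Q} 
    (hg : g ∈ normalizer (E : Set Q)) (h : rho E ⟨g, hg⟩ = 1) : ∀ k ∈ E, g * k = k * g := by
  refine centralizes_of_comm_central hp ?_
  intro k hk
  refine ⟨E.mul_mem hk ?_, (rho_eq_one_iff ⟨g, hg⟩).mp h k hk⟩
  exact (mem_normalizer_iff.mp hg k⁻¹).mp (E.inv_mem hk)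

theorem rho_of_mem {E : Subgroup Q} {e : Q} (he : e ∈ E) : 
    rho E ⟨e, le_normalizer he⟩ = MulAut.conj (QuotientGroup.mk (⟨e, he⟩ : E) : E ⧸ center E) := by
  ext x
  induction x using QuotientGroup.induction_on with
  | H x => rfl

theorem coprime_of_pow_eq_one' [Finite Q] {R : Subgroup Q} {n p : ℕ} (hp : p.Prime) (hn : n.Coprime p) 
    (h : ∀ r ∈ R, r ^ n = 1) : (Nat.card R).Coprime p := by
  haveI := Fact.mk hp
  rw [Nat.coprime_comm, Nat.Prime.coprime_iff_not_dvd hp]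
  intro hd
  obtain ⟨r, hr⟩ := exists_prime_orderOf_dvd_card' p hd
  have h1 : orderOf r ∣ n := orderOf_dvd_of_pow_eq_one (Subtype.ext (h r r.2))
  rw [hr] at h1
  have := Nat.Coprime.eq_one_of_dvd hn.symm h1
  exact hp.one_lt.ne' this

theorem loc_bal_step [Finite Q] {p : ℕ} [hp : Fact p.Prime] {H' : Type*} [Group H'] [Finite H']
    {A Y E Zc W : Subgroup Q} (σ : W →* H') (hσsurj : Function.Surjective σ) 
    (hEW : E ≤ W) (hYW : Y ≤ W) (hAYW : A ⊔ Y ≤ W)
    (hdec : ∀ g ∈ W, ∃ w ∈ A ⊔ Y, ∃ e ∈ E, w * e = g)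
    (hAcomm : ∀ a ∈ A, ∀ b ∈ A, a * b = b * a)
    (hσ1 : ∀ g : W, σ g = 1 → ∀ e ∈ E, (g : Q) * e = e * g)
    (hZcmem : ∀ z ∈ E, (∀ e ∈ E, z * e = e * z) → z ∈ Zc)
    (hZcn : W ≤ normalizer (Zc : Set Q)) (hWE : W ≤ normalizer (E : Set Q))
    (a : W) (ha : (a : Q) ∈ A) (hYca : Y ≤ centralizerPPrimeCore p (a : Q)) 
    (hYZ : Y ≤ centralizer (Zc : Set Q))
    {y : Q} (hy : y ∈ Y) : σ ⟨y, hYW hy⟩ ∈ centralizerPPrimeCore p (σ a) := by
  -- B and its p'-core
  obtain ⟨B, hBdef⟩ : ∃ B : Subgroup Q, B = (W ⊓ centralizer ({(a : Q)} : Set Q)) ⊓ centralizer (Zc : Set Q) := ⟨_, rfl⟩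
  have hBW : B ≤ W := by rw [hBdef]; exact inf_le_left.trans inf_le_left
  have hBa : ∀ b ∈ B, (a : Q) * b = b * a := by
    intro b hb
    rw [hBdef] at hb
    exact mem_centralizer_singleton_iff'.mp hb.1.2
  have hBZ : ∀ b ∈ B, ∀ z ∈ Zc, z * b = b * z := by
    intro b hb
    rw [hBdef] at hb
    exact mem_centralizer_iff.mp hb.2
  have hBmem : ∀ b ∈ W, (a : Q) * b = b * a → (∀ z ∈ Zc, z * b = b * z) → b ∈ B := by
    intro b hb h1 h2
    rw [hBdef]
    exact ⟨⟨hb, mem_centralizer_singleton_iff'.mpr h1⟩, mem_centralizer_iff.mpr h2⟩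
  obtain ⟨R0, hR0⟩ : ∃ R0 : Subgroup Q, R0 = (pPrimeCore p B).map B.subtype := ⟨_, rfl⟩
  have hR0B : R0 ≤ B := by rw [hR0]; exact map_subtype_le _
  have hYa : ∀ y ∈ Y, (a : Q) * y = y * a := fun y hy => 
    mem_centralizer_singleton_iff'.mp (centralizerPPrimeCore_le _ (hYca hy))
  have hYB : Y ≤ B := fun y hy => hBmem y (hYW hy) (hYa y hy) (mem_centralizer_iff.mp (hYZ hy))
  have hyR0 : y ∈ R0 := by
    have h1 : (centralizerPPrimeCore p (a : Q) ⊓ B).subgroupOf B ≤ pPrimeCore p B := by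
      refine le_pPrimeCore ?_ ?_
      · rw [normal_subgroupOf_iff_le_normalizer inf_le_right, CfsgH1.le_normalizer_iff_conj]
        intro g hg x hx
        refine ⟨?_, B.mul_mem (B.mul_mem hg hx.2) (B.inv_mem hg)⟩
        exact CfsgH1.le_normalizer_iff_conj.mp (centralizer_le_normalizer_centralizerPPrimeCore (a : Q)) g 
          (mem_centralizer_singleton_iff'.mpr (hBa g hg)) x hx.1
      · rw [Nat.card_congr (subgroupOfEquivOfLe (inf_le_right : centralizerPPrimeCore p (a : Q) ⊓ B ≤ B)).toEquiv]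
        exact Nat.Coprime.coprime_dvd_left (card_dvd_of_le inf_le_left) (coprime_card_centralizerPPrimeCore (a : Q))
    rw [hR0]
    exact ⟨⟨y, hYB hy⟩, h1 (mem_subgroupOf.mpr ⟨hYca hy, hYB hy⟩), rfl⟩
  have hR0cop : (Nat.card R0).Coprime p := by
    have : Nat.card R0 = Nat.card (pPrimeCore p B) := by rw [hR0]; exact card_map_of_injective B.subtype_injective
    rw [this]; exact coprime_card_pPrimeCore p
  -- elements of W commuting with a modulo Zc normalise R0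
  have hnorm : ∀ g ∈ W, g * a * g⁻¹ * (a : Q)⁻¹ ∈ Zc → g ∈ normalizer (R0 : Set Q) := by
    intro g hg hga
    rw [hR0]
    apply CfsgH1.normalizer_le_map_characteristic
    have hstep : ∀ g ∈ W, g * a * g⁻¹ * (a : Q)⁻¹ ∈ Zc → ∀ b ∈ B, g⁻¹ * b * g ∈ B := by
      intro g hg hga b hb
      refine hBmem _ (W.mul_mem (W.mul_mem (W.inv_mem hg) (hBW hb)) hg) ?_ ?_
      · obtain ⟨z, hz⟩ : ∃ z, z = g * a * g⁻¹ * (a : Q)⁻¹ := ⟨_, rfl⟩
        rw [← hz] at hga
        have h1 : g * a * g⁻¹ = z * a := by rw [hz]; group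
        have h2 : (a : Q) * b = b * a := hBa b hb
        have h3 : z * b = b * z := hBZ b hb z hga
        calc (a : Q) * (g⁻¹ * b * g) = g⁻¹ * ((g * a * g⁻¹) * b) * g := by group
          _ = g⁻¹ * (z * (a * b)) * g := by rw [h1]; group
          _ = g⁻¹ * ((z * b) * a) * g := by rw [h2]; group
          _ = g⁻¹ * (b * (z * a)) * g := by rw [h3]; group
          _ = (g⁻¹ * b * g) * a := by rw [← h1]; group
      · intro z hz
        have h1 : g * z * g⁻¹ ∈ Zc := (mem_normalizer_iff.mp (hZcn hg) z).mp hz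
        have h2 := hBZ b hb _ h1
        calc z * (g⁻¹ * b * g) = g⁻¹ * ((g * z * g⁻¹) * b) * g := by group
          _ = g⁻¹ * (b * (g * z * g⁻¹)) * g := by rw [h2]
          _ = _ := by group
    have hginv : g⁻¹ * a * g⁻¹⁻¹ * (a : Q)⁻¹ ∈ Zc := by
      have h1 := Zc.inv_mem hga
      have h2 := (mem_normalizer_iff.mp (hZcn (W.inv_mem hg)) _).mp h1
      have h3 : g⁻¹ * (g * a * g⁻¹ * (a : Q)⁻¹)⁻¹ * g⁻¹⁻¹ = g⁻¹ * a * g⁻¹⁻¹ * (a : Q)⁻¹ := by group
      rwa [h3] at h2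
    rw [mem_normalizer_iff]
    intro b
    constructor
    · intro hb
      have := hstep g⁻¹ (W.inv_mem hg) hginv b hb
      rwa [inv_inv] at this
    · intro hb
      have := hstep g hg hga _ hb
      have e : g⁻¹ * (g * b * g⁻¹) * g = b := by group
      rwa [e] at this
  have hR0W : R0 ≤ W := hR0B.trans hBW
  have hyR : σ ⟨y, hYW hy⟩ ∈ (R0.subgroupOf W).map σ := ⟨⟨y, hYW hy⟩, mem_subgroupOf.mpr hyR0, rfl⟩
  refine le_centralizerPPrimeCore (W := (R0.subgroupOf W).map σ) ?_ ?_ ?_ hyR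
  · rintro _ ⟨r, hr, rfl⟩
    rw [mem_centralizer_singleton_iff']
    have h1 : (a : Q) * r = r * a := hBa r (hR0B (mem_subgroupOf.mp hr))
    rw [← map_mul, ← map_mul]
    congr 1
    exact Subtype.ext h1
  · rw [CfsgH1.le_normalizer_iff_conj]
    rintro gh hgh _ ⟨r, hr, rfl⟩
    obtain ⟨g, rfl⟩ := hσsurj gh
    rw [mem_centralizer_singleton_iff'] at hgh
    -- decompose g = w * e
    obtain ⟨w, hw, e, he, hwe⟩ := hdec g g.2
    have hwa : (a : Q) * w = w * a := by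
      have h1 : A ⊔ Y ≤ centralizer ({(a : Q)} : Set Q) := by
        refine sup_le ?_ (hYca.trans (centralizerPPrimeCore_le _))
        intro b hb
        exact mem_centralizer_singleton_iff'.mpr (hAcomm a ha b hb)
      exact mem_centralizer_singleton_iff'.mp (h1 hw)
    have hwW : w ∈ W := hAYW hw
    have heW : e ∈ W := hEW he
    have hea : e * a * e⁻¹ * (a : Q)⁻¹ ∈ Zc := by
      have haE : (a : Q) * e⁻¹ * (a : Q)⁻¹ ∈ E := (mem_normalizer_iff.mp (hWE a.2) _).mp (E.inv_mem he)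
      have h1 : e * a * e⁻¹ * (a : Q)⁻¹ ∈ E := by
        have := E.mul_mem he haE
        have e2 : e * ((a : Q) * e⁻¹ * (a : Q)⁻¹) = e * a * e⁻¹ * (a : Q)⁻¹ := by group
        rwa [e2] at this
      refine hZcmem _ h1 ?_
      have h2 : σ (⟨e, heW⟩ * a * ⟨e, heW⟩⁻¹ * a⁻¹) = 1 := by
        have h3 : g = ⟨w, hwW⟩ * ⟨e, heW⟩ := Subtype.ext hwe.symm
        have h4 : a * ⟨w, hwW⟩ = ⟨w, hwW⟩ * a := Subtype.ext hwa
        have h5 : σ a * (σ ⟨w, hwW⟩ * σ ⟨e, heW⟩) = (σ ⟨w, hwW⟩ * σ ⟨e, heW⟩) * σ a := by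
          rw [← map_mul σ ⟨w, hwW⟩ ⟨e, heW⟩, ← h3]; exact hgh
        have h6 : σ a * σ ⟨w, hwW⟩ = σ ⟨w, hwW⟩ * σ a := by rw [← map_mul, ← map_mul, h4]
        rw [← mul_assoc, h6, mul_assoc, mul_assoc] at h5
        have h7 := mul_left_cancel h5
        rw [map_mul, map_mul, map_mul, map_inv, map_inv, ← h7]
        group
      have h3 := hσ1 _ h2
      exact h3
    have hga : (g : Q) * a * (g : Q)⁻¹ * (a : Q)⁻¹ ∈ Zc := by
      rw [← hwe]
      have h1 : w * (e * a * e⁻¹ * (a : Q)⁻¹) * w⁻¹ ∈ Zc := 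
        (mem_normalizer_iff.mp (hZcn hwW) _).mp hea
      have h2 : (w * e) * a * (w * e)⁻¹ * (a : Q)⁻¹ = w * (e * a * e⁻¹ * (a : Q)⁻¹) * w⁻¹ := by
        have h3 : w⁻¹ * (a : Q)⁻¹ = (a : Q)⁻¹ * w⁻¹ := by
          rw [← mul_inv_rev, ← mul_inv_rev, hwa]
        calc (w * e) * a * (w * e)⁻¹ * (a : Q)⁻¹ = w * e * a * e⁻¹ * (w⁻¹ * (a : Q)⁻¹) := by group
          _ = w * e * a * e⁻¹ * ((a : Q)⁻¹ * w⁻¹) := by rw [h3]
          _ = _ := by group
      rw [h2]; exact h1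
    have h1 := (mem_normalizer_iff.mp (hnorm g g.2 hga) _).mp (mem_subgroupOf.mp hr)
    refine ⟨g * r * g⁻¹, mem_subgroupOf.mpr h1, ?_⟩
    rw [map_mul, map_mul, map_inv]
  · refine coprime_of_pow_eq_one' hp.out hR0cop ?_
    rintro _ ⟨r, hr, rfl⟩
    rw [← map_pow]
    have h1 : (⟨r, mem_subgroupOf.mp hr⟩ : R0) ^ Nat.card R0 = 1 := pow_card_eq_one'
    have h2 : r ^ Nat.card R0 = 1 := Subtype.ext (congrArg (fun x : R0 => (x : Q)) h1)
    rw [h2, map_one]

/-- the image of an elementary abelian group acting faithfully -/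
theorem elab_image {p k : ℕ} {H' : Type*} [Group H'] {A E W : Subgroup Q} (σ : W →* H') (hAW : A ≤ W)
    (hA : IsElementaryAbelian p A) (hAk : Nat.card A = p ^ k)
    (hσ1 : ∀ g : W, σ g = 1 → ∀ e ∈ E, (g : Q) * e = e * g)
    (hfaith : ∀ a ∈ A, a ≠ 1 → ¬ (∀ e ∈ E, a * e = e * a)) :
    IsElementaryAbelian p ((A.subgroupOf W).map σ) ∧ Nat.card ((A.subgroupOf W).map σ) = p ^ k := by
  have hAcomm : ∀ a ∈ A, ∀ b ∈ A, a * b = b * a := fun a ha b hb => by
    have := hA.1.is_comm.comm ⟨a, ha⟩ ⟨b, hb⟩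
    simpa using congrArg Subtype.val this
  constructor
  · refine ⟨⟨⟨?_⟩⟩, ?_⟩
    · rintro ⟨x, a, ha, rfl⟩ ⟨y, b, hb, rfl⟩
      apply Subtype.ext
      change σ a * σ b = σ b * σ a
      rw [← map_mul, ← map_mul]
      congr 1
      exact Subtype.ext (hAcomm a (mem_subgroupOf.mp ha) b (mem_subgroupOf.mp hb))
    · rintro x ⟨a, ha, rfl⟩
      rw [← map_pow]
      have : a ^ p = 1 := Subtype.ext (hA.2 a (mem_subgroupOf.mp ha))
      rw [this, map_one]
  · rw [← hAk, ← Nat.card_congr (subgroupOfEquivOfLe hAW).toEquiv]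
    have hinj : Function.Injective (fun a : A.subgroupOf W => (⟨σ a, ⟨a, a.2, rfl⟩⟩ : (A.subgroupOf W).map σ)) := by
      intro a b hab
      have h1 : σ a = σ b := congrArg Subtype.val hab
      have h2 : σ ((a : W)⁻¹ * b) = 1 := by rw [map_mul, map_inv, h1, inv_mul_cancel]
      have h3 := hσ1 _ h2
      by_contra hne
      have h4 : ((a : W)⁻¹ * (b : W) : W).1 ∈ A := A.mul_mem (A.inv_mem (mem_subgroupOf.mp a.2)) (mem_subgroupOf.mp b.2)
      refine hfaith _ h4 ?_ h3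
      intro h5
      have h6 : (a : W)⁻¹ * (b : W) = 1 := Subtype.ext h5
      exact hne (Subtype.ext (inv_mul_eq_one.mp h6))
    have hsurj : Function.Surjective (fun a : A.subgroupOf W => (⟨σ a, ⟨a, a.2, rfl⟩⟩ : (A.subgroupOf W).map σ)) := by
      rintro ⟨_, a, ha, rfl⟩
      exact ⟨⟨a, ha⟩, rfl⟩
    exact (Nat.card_congr (Equiv.ofBijective _ ⟨hinj, hsurj⟩)).symm

/-- the action of a subgroup of the normalizer on the central quotient -/
theorem exists_sigma {E W : Subgroup Q} (hperf : ⁅E, E⁆ = E) (hEW : E ≤ W) (hWN : W ≤ normalizer (E : Set Q)) :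
    ∃ H' : Subgroup (MulAut (E ⧸ center E)), (MulAut.conj : (E ⧸ center E) →* MulAut (E ⧸ center E)).range ≤ H' ∧ 
      ∃ σ : W →* H', Function.Surjective σ ∧ ∀ g : W, σ g = 1 → ∀ e ∈ E, (g : Q) * e = e * g := by
  obtain ⟨τ, hτ⟩ : ∃ τ : W →* MulAut (E ⧸ center E), τ = (rho E).comp (inclusion hWN) := ⟨_, rfl⟩
  have hτ1 : ∀ g : W, τ g = rho E ⟨g, hWN g.2⟩ := by
    intro g; rw [hτ]; rfl
  refine ⟨τ.range, ?_, τ.rangeRestrict, τ.rangeRestrict_surjective, ?_⟩
  · rintro _ ⟨x, rfl⟩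
    induction x using QuotientGroup.induction_on with
    | H x =>
      refine ⟨⟨x, hEW x.2⟩, ?_⟩
      rw [hτ1]
      exact rho_of_mem x.2
  · intro g hg
    have h1 : rho E ⟨g, hWN g.2⟩ = 1 := by
      rw [← hτ1]
      have := congrArg Subtype.val hg
      rwa [MonoidHom.coe_rangeRestrict] at this
    exact centralizes_of_rho_eq_one hperf (hWN g.2) h1

theorem loc_bal_centralizes [Finite Q] {p k : ℕ} [hp : Fact p.Prime] (hO : pPrimeCore p Q = ⊥) 
    {A Y E : Subgroup Q} (hA : IsElementaryAbelian p A) (hAk : Nat.card A = p ^ k) (hk : 1 ≤ k)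
    (hY : Y ≤ signalizerDelta p A) (hE : IsComponent E) (hAE : A ≤ normalizer (E : Set Q)) 
    (hYE : Y ≤ normalizer (E : Set Q)) (hfaith : ∀ a ∈ A, a ≠ 1 → ¬ (∀ e ∈ E, a * e = e * a)) 
    (hloc : IsLocallyKBalanced p k (E ⧸ center E)) : ∀ y ∈ Y, ∀ e ∈ E, y * e = e * y := by
  have hperf := IsComponent.commutator_self hE
  have hYa : ∀ a ∈ A, a ≠ 1 → Y ≤ centralizerPPrimeCore p a := by
    intro a ha ha1
    refine hY.trans ?_
    exact iInf_le (fun a : {a : Q // a ∈ A ∧ a ≠ 1} => centralizerPPrimeCore p (a : Q)) ⟨a, ha, ha1⟩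
  have hAord : ∀ a ∈ A, a ≠ 1 → orderOf a = p := fun a ha ha1 => orderOf_eq_prime (hA.2 a ha) ha1
  have hAcomm : ∀ a ∈ A, ∀ b ∈ A, a * b = b * a := fun a ha b hb => by
    have := hA.1.is_comm.comm ⟨a, ha⟩ ⟨b, hb⟩
    simpa using congrArg Subtype.val this
  -- the centre of E
  obtain ⟨Zc, hZc⟩ : ∃ Zc : Subgroup Q, Zc = (center E).map E.subtype := ⟨_, rfl⟩
  have hZcE : Zc ≤ E := by rw [hZc]; exact map_subtype_le _
  have hZcc : ∀ z ∈ Zc, ∀ e ∈ E, z * e = e * z := by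
    rw [hZc]
    rintro _ ⟨z, hz, rfl⟩ e he
    exact (congrArg Subtype.val (mem_center_iff.mp hz ⟨e, he⟩)).symm
  have hZcmem : ∀ z ∈ E, (∀ e ∈ E, z * e = e * z) → z ∈ Zc := by
    intro z hz h
    rw [hZc]
    refine ⟨⟨z, hz⟩, mem_center_iff.mpr fun e => Subtype.ext (h e e.2).symm, rfl⟩
  have hZcn : normalizer (E : Set Q) ≤ normalizer (Zc : Set Q) := by
    rw [hZc]; exact CfsgH1.normalizer_le_map_characteristic _
  have hZcO : Zc ≤ pCore p Q := by
    have h1 : Zc.IsSubnormal := by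
      refine IsSubnormal.step _ E hZcE hE.1 ?_
      rw [normal_subgroupOf_iff_le_normalizer hZcE]
      exact le_normalizer.trans hZcn
    have h2 : Group.IsNilpotent Zc := by
      have : IsMulCommutative Zc := ⟨⟨fun a b => Subtype.ext (hZcc a a.2 b (hZcE b.2))⟩⟩
      exact isNilpotent_of_isMulCommutative this
    rw [← fittingSubgroup_eq_pCore_of_pPrimeCore_eq_bot hO]
    exact IsSubnormal.le_fittingSubgroup h1 h2
  obtain ⟨W, hW⟩ : ∃ W : Subgroup Q, W = E ⊔ (A ⊔ Y) := ⟨_, rfl⟩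
  have hAYN : A ⊔ Y ≤ normalizer (E : Set Q) := sup_le hAE hYE
  have hWN : W ≤ normalizer (E : Set Q) := by rw [hW]; exact sup_le le_normalizer hAYN
  have hEW : E ≤ W := by rw [hW]; exact le_sup_left
  have hAYW : A ⊔ Y ≤ W := by rw [hW]; exact le_sup_right
  have hAW : A ≤ W := le_sup_left.trans hAYW
  have hYW : Y ≤ W := le_sup_right.trans hAYW
  obtain ⟨H', hinn, σ, hσsurj, hσ1⟩ := exists_sigma hperf hEW hWN
  obtain ⟨hAhe, hAhk⟩ := elab_image σ hAW hA hAk hσ1 hfaith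
  have hΔ := hloc H' hinn _ hAhe hAhk
  -- the image of Y lies in Δ
  intro y hy
  apply hσ1 ⟨y, hYW hy⟩
  have hgoal : σ ⟨y, hYW hy⟩ ∈ signalizerDelta p ((A.subgroupOf W).map σ) := by
    rw [signalizerDelta, mem_iInf]
    rintro ⟨x, ⟨a, ha, rfl⟩, hx1⟩
    have ha1 : (a : Q) ≠ 1 := by
      intro h
      apply hx1
      have : a = 1 := Subtype.ext h
      rw [this, map_one]
    have haA : (a : Q) ∈ A := mem_subgroupOf.mp ha
    have hYca := hYa a haA ha1
    refine loc_bal_step σ hσsurj hEW hYW hAYW ?_ hAcomm hσ1 hZcmem (hWN.trans hZcn) hWN a haA hYca ?_ hy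
    · intro g hg
      exact exists_mul_of_mem_sup (A := A ⊔ Y) (B := E) hAYN (by rw [sup_comm, ← hW]; exact hg)
    · have h1 := centralizerPPrimeCore_le_centralizer_pCore (hAord a haA ha1)
      exact (hYca.trans h1).trans (centralizer_le hZcO)
  rw [hΔ] at hgoal
  exact mem_bot.mp hgoal

end CfsgH2
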