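import Cfsg.Agent.H2.LocBal

/-! Reduction of balance to centralizers modulo cores. -/

set_option autoImplicit false

namespace CfsgH2

open Subgroup Cfsg
open scoped commutatorElement

variable {G : Type*} [Group G]

theorem eq_one_or_self_of_mem_zpowers {x a : G} (hx : orderOf x = 2) (ha : a ∈ zpowers x) : a = 1 ∨ a = x := by
  obtain ⟨n, rfl⟩ := mem_zpowers_iff.mp ha
  rw [← zpow_mod_orderOf, hx]
  rcases Int.emod_two_eq_zero_or_one n with h | h
  · left
    have : n % ((2 : ℕ) : ℤ) = 0 := h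
    rw [this, zpow_zero]
  · right
    have : n % ((2 : ℕ) : ℤ) = 1 := h
    rw [this, zpow_one]

theorem kbal_step [Finite G] {p k : ℕ} [hp : Fact p.Prime] {C : Subgroup G} 
    {A : Subgroup G} (hA : IsElementaryAbelian p A) (hAk : Nat.card A = p ^ k) (hAC : A ≤ C)
    (h : ∀ B : Subgroup (C ⧸ pPrimeCore p C), IsElementaryAbelian p B → Nat.card B = p ^ k → 
      signalizerDelta p B = ⊥) {d : C} (hd : (d : G) ∈ signalizerDelta p A) : d ∈ pPrimeCore p C := by
  obtain ⟨π, hπ⟩ : ∃ π : C →* C ⧸ pPrimeCore p C, π = QuotientGroup.mk' (pPrimeCore p C) := ⟨_, rfl⟩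
  have hπs : Function.Surjective π := by rw [hπ]; exact QuotientGroup.mk'_surjective _
  have hπ1 : ∀ x : C, π x = 1 ↔ x ∈ pPrimeCore p C := by
    intro x; rw [hπ]; exact QuotientGroup.eq_one_iff x
  have hAcomm : ∀ a ∈ A, ∀ b ∈ A, a * b = b * a := fun a ha b hb => by
    have := hA.1.is_comm.comm ⟨a, ha⟩ ⟨b, hb⟩
    simpa using congrArg Subtype.val this
  have hAe : IsElementaryAbelian p ((A.subgroupOf C).map π) := by
    refine ⟨⟨⟨?_⟩⟩, ?_⟩
    · rintro ⟨x, a, ha, rfl⟩ ⟨y, b, hb, rfl⟩
      apply Subtype.ext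
      change π a * π b = π b * π a
      rw [← map_mul, ← map_mul]
      congr 1
      exact Subtype.ext (hAcomm a (mem_subgroupOf.mp ha) b (mem_subgroupOf.mp hb))
    · rintro x ⟨a, ha, rfl⟩
      rw [← map_pow]
      have : a ^ p = 1 := Subtype.ext (hA.2 a (mem_subgroupOf.mp ha))
      rw [this, map_one]
  have hAcard : Nat.card ((A.subgroupOf C).map π) = p ^ k := by
    rw [← hAk, ← Nat.card_congr (subgroupOfEquivOfLe hAC).toEquiv]
    have hinj : Function.Injective (fun a : A.subgroupOf C => (⟨π a, ⟨a, a.2, rfl⟩⟩ : (A.subgroupOf C).map π)) := by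
      intro a b hab
      have h1 : π a = π b := congrArg Subtype.val hab
      have h2 : π ((a : C)⁻¹ * b) = 1 := by rw [map_mul, map_inv, h1, inv_mul_cancel]
      rw [hπ1] at h2
      have h3 : ((a : C)⁻¹ * (b : C)) ^ p = 1 := by
        apply Subtype.ext
        exact hA.2 _ (A.mul_mem (A.inv_mem (mem_subgroupOf.mp a.2)) (mem_subgroupOf.mp b.2))
      have h4 : orderOf (⟨_, h2⟩ : pPrimeCore p C) ∣ p := orderOf_dvd_of_pow_eq_one (Subtype.ext h3)
      have h5 : orderOf (⟨_, h2⟩ : pPrimeCore p C) ∣ Nat.card (pPrimeCore p C) := orderOf_dvd_natCard _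
      have h6 : orderOf (⟨_, h2⟩ : pPrimeCore p C) = 1 := 
        Nat.Coprime.eq_one_of_dvd ((coprime_card_pPrimeCore p (G := C)).coprime_dvd_left h5) h4
      rw [orderOf_eq_one_iff] at h6
      have h7 : (a : C)⁻¹ * (b : C) = 1 := congrArg Subtype.val h6
      exact Subtype.ext (inv_mul_eq_one.mp h7)
    have hsurj : Function.Surjective (fun a : A.subgroupOf C => (⟨π a, ⟨a, a.2, rfl⟩⟩ : (A.subgroupOf C).map π)) := by
      rintro ⟨_, a, ha, rfl⟩
      exact ⟨⟨a, ha⟩, rfl⟩
    exact (Nat.card_congr (Equiv.ofBijective _ ⟨hinj, hsurj⟩)).symm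
  have hΔ := h _ hAe hAcard
  rw [← hπ1, ← mem_bot, ← hΔ, signalizerDelta, mem_iInf]
  rintro ⟨x, ⟨a, ha, rfl⟩, hx1⟩
  have haA : (a : G) ∈ A := mem_subgroupOf.mp ha
  have ha1 : (a : G) ≠ 1 := by
    intro h
    apply hx1
    have : a = 1 := Subtype.ext h
    rw [this, map_one]
  have hda : (d : G) ∈ centralizerPPrimeCore p (a : G) := 
    (iInf_le (fun a : {a : G // a ∈ A ∧ a ≠ 1} => centralizerPPrimeCore p (a : G)) ⟨a, haA, ha1⟩) hd
  refine le_centralizerPPrimeCore (W := ((centralizerPPrimeCore p (a : G)).subgroupOf C).map π) ?_ ?_ ?_ 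
    ⟨d, mem_subgroupOf.mpr hda, rfl⟩
  · rintro _ ⟨r, hr, rfl⟩
    rw [mem_centralizer_singleton_iff']
    have h1 : (a : G) * r = r * a := 
      mem_centralizer_singleton_iff'.mp (centralizerPPrimeCore_le _ (mem_subgroupOf.mp hr))
    rw [← map_mul, ← map_mul]
    congr 1
    exact Subtype.ext h1
  · rw [CfsgH1.le_normalizer_iff_conj]
    rintro gh hgh _ ⟨r, hr, rfl⟩
    obtain ⟨g, rfl⟩ := hπs gh
    rw [mem_centralizer_singleton_iff'] at hgh
    obtain ⟨c, hc, hgc⟩ := CfsgH1.exists_fixed_in_coset (A := zpowers a) (D := pPrimeCore p C) 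
      (by rw [normalizer_eq_top]; exact le_top)
      (by
        have h1 : Nat.card (zpowers a) ∣ p := by
          rw [Nat.card_zpowers]
          exact orderOf_dvd_of_pow_eq_one (Subtype.ext (hA.2 a haA))
        exact ((coprime_card_pPrimeCore p (G := C)).symm).coprime_dvd_left h1)
      (Or.inl inferInstance) g (by
        intro a' ha'
        obtain ⟨n, rfl⟩ := mem_zpowers_iff.mp ha'
        rw [← hπ1, map_mul, map_inv, map_mul, map_mul, map_inv, map_zpow]
        have h1 : Commute (π a) (π g) := hgh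
        have h2 : π a ^ n * π g = π g * π a ^ n := h1.zpow_left n
        rw [h2]; group)
    have hπc : π c = π g := by
      rw [← hπ1, map_mul, map_inv, inv_mul_eq_one] at hgc
      exact hgc.symm
    have hca : (a : G) * c = c * a := by
      have := mem_centralizer_iff.mp hc a (mem_zpowers a)
      exact congrArg Subtype.val this
    have h1 := CfsgH1.le_normalizer_iff_conj.mp (centralizer_le_normalizer_centralizerPPrimeCore (p := p) (a : G)) c 
          (mem_centralizer_singleton_iff'.mpr hca) r (mem_subgroupOf.mp hr)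
    rw [← hπc]
    refine ⟨c * r * c⁻¹, mem_subgroupOf.mpr h1, ?_⟩
    rw [map_mul, map_mul, map_inv]
  · refine Nat.Coprime.coprime_dvd_left (Subgroup.card_map_dvd _ _) ?_
    have h1 : Nat.card ((centralizerPPrimeCore p (a : G)).subgroupOf C) ∣ Nat.card (centralizerPPrimeCore p (a : G)) := 
      by
        rw [← card_map_of_injective (K := (centralizerPPrimeCore p (a : G)).subgroupOf C) C.subtype_injective]
        refine card_dvd_of_le ?_
        rintro _ ⟨x, hx, rfl⟩
        exact mem_subgroupOf.mp hx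
    exact Nat.Coprime.coprime_dvd_left h1 (coprime_card_centralizerPPrimeCore (a : G))

theorem kbal_reduction [Finite G] {p k : ℕ} [hp : Fact p.Prime] 
    (h : ∀ b : G, orderOf b = p → 
      ∀ B : Subgroup (centralizer ({b} : Set G) ⧸ pPrimeCore p (centralizer ({b} : Set G))), 
        IsElementaryAbelian p B → Nat.card B = p ^ k → signalizerDelta p B = ⊥) : IsKBalanced p k G := by
  intro A hA hAk b hb hcomm d hd
  have hdC : d ∈ centralizer ({b} : Set G) := hd.2
  have hAC : A ≤ centralizer ({b} : Set G) := fun a ha => mem_centralizer_singleton_iff'.mpr (hcomm a ha).symm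
  exact ⟨⟨d, hdC⟩, kbal_step hA hAk hAC (h b hb) hd.1, rfl⟩

theorem isBalanced_of_isKBalanced (h : IsKBalanced 2 1 G) : IsBalanced G := by
  have key : ∀ x y : G, orderOf x = 2 → orderOf y = 2 → x * y = y * x → 
      centralizerPPrimeCore 2 x ⊓ Subgroup.centralizer {y} ≤ 
      centralizerPPrimeCore 2 y ⊓ Subgroup.centralizer {x} := by
    intro x y hx hy hxy d hd
    refine ⟨?_, centralizerPPrimeCore_le _ hd.1⟩
    have hmem : ∀ a ∈ zpowers x, a ≠ 1 → a = x := by
      intro a ha ha1
      rcases eq_one_or_self_of_mem_zpowers hx ha with h1 | h1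
      · exact absurd h1 ha1
      · exact h1
    refine h (zpowers x) ?_ (by rw [Nat.card_zpowers, hx, pow_one]) y hy ?_ ⟨?_, hd.2⟩
    · refine ⟨inferInstance, ?_⟩
      intro a ha
      by_cases ha1 : a = 1
      · rw [ha1, one_pow]
      · rw [hmem a ha ha1, ← hx]; exact pow_orderOf_eq_one x
    · intro a ha
      obtain ⟨n, rfl⟩ := mem_zpowers_iff.mp ha
      have h1 : Commute x y := hxy
      exact h1.zpow_left n
    · change d ∈ signalizerDelta 2 (zpowers x)
      rw [signalizerDelta, mem_iInf]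
      rintro ⟨a, ha, ha1⟩
      have := hmem a ha ha1
      subst this
      exact hd.1
  intro x y hx hy hxy
  exact le_antisymm (key x y hx hy hxy) (key y x hy hx hxy.symm)

end CfsgH2
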