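import Cfsg.Agent.H2.LocBal2

/-! Balance from locally balanced components, involution case. -/

set_option autoImplicit false

namespace CfsgH2

open Subgroup Cfsg
open scoped commutatorElement

variable {Q : Type*} [Group Q]

theorem exists_mem_ne_one {A : Subgroup Q} (h : A ≠ ⊥) : ∃ x ∈ A, x ≠ 1 := by
  by_contra hc
  push Not at hc
  exact h ((eq_bot_iff_forall A).mpr hc)

theorem isLocallyKBalanced_of_isLocallyBalanced {K : Type*} [Group K] (h : IsLocallyBalanced K) : 
    IsLocallyKBalanced 2 1 K := by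
  intro H hH A hA hAk
  rw [pow_one] at hAk
  have hne : A ≠ ⊥ := by
    rintro rfl
    rw [card_bot] at hAk
    omega
  obtain ⟨x, hx, hx1⟩ := exists_mem_ne_one hne
  have hx2 : orderOf x = 2 := orderOf_eq_prime (hA.2 x hx) hx1
  rw [← le_bot_iff, ← h H hH x hx2]
  exact iInf_le (fun a : {a : H // a ∈ A ∧ a ≠ 1} => centralizerPPrimeCore 2 (a : H)) ⟨x, hx, hx1⟩

theorem OC_top (t : Q) : OC (⊤ : Subgroup Q) t = centralizerPPrimeCore 2 t := by
  have h1 : ∀ M : Subgroup Q, M = centralizer ({t} : Set Q) → 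
      (oddCore M).map M.subtype = centralizerPPrimeCore 2 t := by
    rintro _ rfl; rfl
  exact h1 _ (top_inf_eq _)

theorem delta_eq_bot_two [Finite Q] (hO : pPrimeCore 2 Q = ⊥) 
    (hloc : ∀ E : Subgroup Q, IsComponent E → IsLocallyBalanced (E ⧸ center E))
    (A : Subgroup Q) (hA : IsElementaryAbelian 2 A) (hAk : Nat.card A = 2 ^ 1) : signalizerDelta 2 A = ⊥ := by
  haveI : Fact (Nat.Prime 2) := ⟨Nat.prime_two⟩
  by_contra hne
  have hAk' := hAk
  rw [pow_one] at hAk'
  have hneA : A ≠ ⊥ := by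
    rintro rfl
    rw [card_bot] at hAk'
    omega
  obtain ⟨t, ht, ht1⟩ := exists_mem_ne_one hneA
  have ht2 : orderOf t = 2 := orderOf_eq_prime (hA.2 t ht) ht1
  have hAt : A = zpowers t := by
    symm
    refine eq_of_le_of_card_ge (by rwa [zpowers_le]) ?_
    rw [Nat.card_zpowers, ht2, hAk']
  have htt : t * t = 1 := by rw [← pow_two]; exact hA.2 t ht
  have hYle : signalizerDelta 2 A ≤ OC (⊤ : Subgroup Q) t := by
    rw [OC_top]
    exact iInf_le (fun a : {a : Q // a ∈ A ∧ a ≠ 1} => centralizerPPrimeCore 2 (a : Q)) ⟨t, ht, ht1⟩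
  have hOt : oddCore (⊤ : Subgroup Q) = ⊥ := by
    have h1 : (pPrimeCore 2 (⊤ : Subgroup Q)).map (topEquiv (G := Q)).toMonoidHom = pPrimeCore 2 Q := 
      pPrimeCore_map_equiv 2 topEquiv
    rw [hO] at h1
    exact (map_eq_bot_iff_of_injective _ (topEquiv (G := Q)).injective).mp h1
  obtain ⟨E, hE, hEt, hEY, hEt', hEY'⟩ := exists_moved_comp (t := t) (H := (⊤ : Subgroup Q)) hOt htt 
    (by rw [normalizer_eq_top]; exact mem_top _) hne hYle
  have hE' : IsComponent (E.map (⊤ : Subgroup Q).subtype) := IsComponent.map_equiv topEquiv hE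
  apply hEY'
  intro y hy
  refine mem_centralizer_iff.mpr ?_
  intro e he
  refine (loc_bal_centralizes (p := 2) (k := 1) hO hA hAk le_rfl le_rfl hE' ?_ hEY ?_ 
    (isLocallyKBalanced_of_isLocallyBalanced (hloc _ hE')) y hy e he).symm
  · rw [hAt, zpowers_le]
    rw [mem_normalizer_iff_map_conj]
    exact hEt
  · intro a ha ha1 hc
    rw [hAt] at ha
    rcases eq_one_or_self_of_mem_zpowers ht2 ha with h1 | h1
    · exact ha1 h1
    · rw [h1] at hc
      apply hEt'
      refine mem_centralizer_iff.mpr ?_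
      intro e he
      exact (hc e he).symm

end CfsgH2
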