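import Mathlib
import Cfsg.Agent.H1.MinNormal
import Cfsg.Agent.H2.Basic

/-! # Minimal normal subgroups are direct powers of simple groups (helper2 library) -/

set_option autoImplicit false

namespace CfsgH2

open Subgroup

universe u

def finSuccMulEquiv (M : Type u) [Group M] (m : ℕ) : (M × (Fin m → M)) ≃* (Fin (m + 1) → M) where
  toFun p := Fin.cons p.1 p.2
  invFun f := (f 0, fun i => f i.succ)
  left_inv p := by simp
  right_inv f := by ext i; refine Fin.cases ?_ (fun j => ?_) i <;> simp
  map_mul' p q := by ext i; refine Fin.cases ?_ (fun j => ?_) i <;> simp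

theorem sup_equiv_prod {G : Type u} [Group G] {K L : Subgroup G} (hcomm : ∀ x ∈ K, ∀ y ∈ L, x * y = y * x)
    (hd : K ⊓ L = ⊥) : Nonempty ((K × L) ≃* (K ⊔ L : Subgroup G)) := by
  have hc : ∀ (k : K) (l : L), Commute (K.subtype k) (L.subtype l) := fun k l => hcomm k k.2 l l.2
  have hinj : Function.Injective (MonoidHom.noncommCoprod K.subtype L.subtype hc) := by
    rw [MonoidHom.noncommCoprod_injective]
    refine ⟨K.subtype_injective, L.subtype_injective, ?_⟩
    rw [Subgroup.range_subtype, Subgroup.range_subtype, disjoint_iff, hd]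
  have hr := MonoidHom.noncommCoprod_range K.subtype L.subtype hc
  rw [Subgroup.range_subtype, Subgroup.range_subtype] at hr
  exact ⟨(MonoidHom.ofInjective hinj).trans (MulEquiv.subgroupCongr hr)⟩

theorem commute_of_normalized {G : Type u} [Group G] {N K L : Subgroup G} (hK : K ≤ N) (hL : L ≤ N)
    (hnK : N ≤ normalizer (K : Set G)) (hnL : N ≤ normalizer (L : Set G)) (hd : K ⊓ L = ⊥) :
    ∀ x ∈ K, ∀ y ∈ L, x * y = y * x := by
  intro x hx y hy
  have h1 : x * y * x⁻¹ * y⁻¹ ∈ L :=
    L.mul_mem ((mem_normalizer_iff.1 (hnL (hK hx)) y).1 hy) (L.inv_mem hy)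
  have h2 : x * y * x⁻¹ * y⁻¹ ∈ K := by
    have h3 := K.mul_mem hx ((mem_normalizer_iff.1 (hnK (hL hy)) x⁻¹).1 (K.inv_mem hx))
    simpa [mul_assoc] using h3
  have h3 : x * y * x⁻¹ * y⁻¹ ∈ K ⊓ L := ⟨h2, h1⟩
  rw [hd, mem_bot] at h3
  exact mul_inv_eq_iff_eq_mul.1 (mul_inv_eq_one.1 h3)

theorem min_normal_power {H : Type u} [Group H] [Finite H] (N : Subgroup H) [hNn : N.Normal] (hN : N ≠ ⊥)
    (hmin : ∀ M : Subgroup H, M.Normal → M ≤ N → M = ⊥ ∨ M = N) :
    ∃ (M : Subgroup H) (m : ℕ), IsSimpleGroup M ∧ M ≤ N ∧ N ≤ normalizer (M : Set H) ∧ 0 < m ∧ Nonempty (N ≃* (Fin m → M)) := by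
  obtain ⟨M, hMn, hMN, hM0, hMmin⟩ := CfsgH1.exists_min_invariant_le (B := N) (K := N) le_normalizer hN
  -- conjugates
  let C : H → Subgroup H := fun h => M.map (MulAut.conj h).toMonoidHom
  have hCmem : ∀ h z, z ∈ C h ↔ h⁻¹ * z * h ∈ M := fun h z => mem_map_conj
  have hCN : ∀ h, C h ≤ N := by
    intro h z hz
    have h1 := hMN ((hCmem h z).1 hz)
    have h2 := hNn.conj_mem _ h1 h
    simpa [mul_assoc] using h2
  have hCn : ∀ h, N ≤ normalizer (C h : Set H) := by
    intro h n hn
    rw [mem_normalizer_iff]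
    intro z
    have h1 : h⁻¹ * n * h ∈ N := by
      have := hNn.conj_mem n hn h⁻¹
      simpa using this
    have h2 := mem_normalizer_iff.1 (hMn h1) (h⁻¹ * z * h)
    rw [hCmem, hCmem, h2]
    have h3 : h⁻¹ * n * h * (h⁻¹ * z * h) * (h⁻¹ * n * h)⁻¹ = h⁻¹ * (n * z * n⁻¹) * h := by group
    rw [h3]
  have hCmin : ∀ h, ∀ L : Subgroup H, N ≤ normalizer (L : Set H) → L ≤ C h → L = ⊥ ∨ L = C h := by
    intro h L hL hLC
    have h1 : L.map (MulAut.conj h⁻¹).toMonoidHom ≤ M := by
      intro z hz
      rw [mem_map_conj, inv_inv] at hz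
      have h2 := (hCmem h _).1 (hLC hz)
      simpa [mul_assoc] using h2
    have h2 : N ≤ normalizer ((L.map (MulAut.conj h⁻¹).toMonoidHom : Subgroup H) : Set H) := by
      intro n hn
      rw [mem_normalizer_iff]
      intro z
      have h3 : h * n * h⁻¹ ∈ N := hNn.conj_mem n hn h
      have h4 := mem_normalizer_iff.1 (hL h3) (h * z * h⁻¹)
      rw [mem_map_conj, mem_map_conj, inv_inv, h4]
      have h5 : h * n * h⁻¹ * (h * z * h⁻¹) * (h * n * h⁻¹)⁻¹ = h * (n * z * n⁻¹) * h⁻¹ := by group
      rw [h5]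
    rcases hMmin _ h2 h1 with h3 | h3
    · left
      exact (Subgroup.map_eq_bot_iff_of_injective _ (MulAut.conj h⁻¹).injective).1 h3
    · right
      ext z
      rw [hCmem, ← h3, mem_map_conj]
      simp [mul_assoc]
  -- maximal K
  obtain ⟨K, ⟨hK1, hK2, m, ⟨e⟩⟩, hKmax⟩ := CfsgH1.exists_maximal_of_set
    {K : Subgroup H | K ≤ N ∧ N ≤ normalizer (K : Set H) ∧ ∃ m : ℕ, Nonempty (K ≃* (Fin m → M))}
    ⟨⊥, bot_le, by rw [normalizer_eq_top]; exact le_top, 0, ⟨{
      toFun := fun _ => 1
      invFun := fun _ => 1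
      left_inv := fun x => Subsingleton.elim _ _
      right_inv := fun x => Subsingleton.elim _ _
      map_mul' := fun _ _ => Subsingleton.elim _ _ }⟩⟩
  have hCK : ∀ h, C h ≤ K := by
    intro h
    have h1 : N ≤ normalizer ((C h ⊓ K : Subgroup H) : Set H) := fun n hn => by
      rw [mem_normalizer_iff]
      intro z
      rw [mem_inf, mem_inf, mem_normalizer_iff.1 (hCn h hn) z, mem_normalizer_iff.1 (hK2 hn) z]
    rcases hCmin h _ h1 inf_le_left with h2 | h2
    · -- extend
      exfalso
      obtain ⟨e1⟩ := sup_equiv_prod (K := C h) (L := K) (commute_of_normalized (hCN h) hK1 (hCn h) hK2 h2) h2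
      have e2 : M ≃* C h := M.equivMapOfInjective _ (MulAut.conj h).injective
      have e3 : (C h ⊔ K : Subgroup H) ≃* (Fin (m + 1) → M) :=
        e1.symm.trans ((MulEquiv.prodCongr e2.symm e).trans (finSuccMulEquiv M m))
      have h3 : C h ⊔ K = K := hKmax _ ⟨sup_le (hCN h) hK1, fun n hn => by
        rw [mem_normalizer_iff_map_conj, Subgroup.map_sup, mem_normalizer_iff_map_conj.1 (hCn h hn),
          mem_normalizer_iff_map_conj.1 (hK2 hn)], m + 1, ⟨e3⟩⟩ le_sup_right
      have h4 : C h ≤ K := sup_eq_right.1 h3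
      rw [inf_eq_left.2 h4] at h2
      exact hM0 ((Subgroup.map_eq_bot_iff_of_injective _ (MulAut.conj h).injective).1 h2)
    · rw [← h2]; exact inf_le_right
  have hNC : N ≤ ⨆ h, C h := by
    have h1 : (⨆ h, C h).Normal := by
      constructor
      intro z hz g
      have h2 : (⨆ h, C h).map (MulAut.conj g).toMonoidHom ≤ ⨆ h, C h := by
        rw [Subgroup.map_iSup]
        apply iSup_le
        intro h
        have h3 : (C h).map (MulAut.conj g).toMonoidHom = C (g * h) := (map_conj_mul M g h).symm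
        rw [h3]
        exact le_iSup C (g * h)
      exact h2 ⟨z, hz, rfl⟩
    rcases hmin _ h1 (iSup_le hCN) with h2 | h2
    · exfalso
      apply hM0
      rw [eq_bot_iff, ← h2]
      refine le_trans ?_ (le_iSup C 1)
      intro z hz
      rw [hCmem]; simpa using hz
    · exact h2.ge
  have hKN : K = N := le_antisymm hK1 (hNC.trans (iSup_le hCK))
  have hm : 0 < m := by
    rcases Nat.eq_zero_or_pos m with h | h
    · exfalso
      subst h
      apply hN
      rw [← hKN, Subgroup.eq_bot_iff_forall]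
      intro x hx
      have h1 : (⟨x, hx⟩ : K) = 1 := e.injective (Subsingleton.elim _ _)
      exact congrArg Subtype.val h1
    · exact h
  refine ⟨M, m, ?_, hMN, hMn, hm, ?_⟩
  · -- simplicity
    haveI : Nontrivial M := (Subgroup.nontrivial_iff_ne_bot M).2 hM0
    constructor
    intro L hL
    have hLn : N ≤ normalizer ((L.map M.subtype : Subgroup H) : Set H) := by
      refine hNC.trans (iSup_le fun h => ?_)
      have hLM : L.map M.subtype ≤ M := Subgroup.map_subtype_le L
      have h1 : N ≤ normalizer ((C h ⊓ M : Subgroup H) : Set H) := fun n hn => by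
        rw [mem_normalizer_iff]
        intro z
        rw [mem_inf, mem_inf, mem_normalizer_iff.1 (hCn h hn) z, mem_normalizer_iff.1 (hMn hn) z]
      rcases hMmin _ h1 inf_le_right with h2 | h2
      · -- commute
        intro c hc
        rw [mem_normalizer_iff]
        intro z
        have hcz : ∀ w ∈ M, c * w = w * c := commute_of_normalized (hCN h) hMN (hCn h) hMn h2 c hc
        constructor
        · intro hz
          rw [hcz z (hLM hz), mul_inv_cancel_right]; exact hz
        · intro hz
          have h3 := hcz _ (hLM hz)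
          have h4 : c * (c * z * c⁻¹) * c⁻¹ = c * z * c⁻¹ := by rw [h3, mul_inv_cancel_right]
          have h5 : z = c * z * c⁻¹ := by
            have h6 : c * (c * z * c⁻¹) = c * z * c⁻¹ * c := h3
            have h7 : c * z * c⁻¹ = z := by
              have : c * (c * z * c⁻¹) = c * z := by rw [h6]; group
              exact mul_left_cancel this
            exact h7.symm
          rw [h5]; exact hz
      · -- C h = M
        have h3 : C h ≤ M := by
          have h4 : M ≤ C h := by rw [← h2]; exact inf_le_left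
          have h5 : Nat.card (C h) = Nat.card M := card_map_conj M h
          rw [Subgroup.eq_of_le_of_card_ge h4 h5.le]
        intro c hc
        rw [mem_normalizer_iff]
        intro z
        have hcM : c ∈ M := h3 hc
        constructor
        · rintro ⟨w, hw, rfl⟩
          exact ⟨⟨c, hcM⟩ * w * ⟨c, hcM⟩⁻¹, hL.conj_mem w hw _, rfl⟩
        · rintro ⟨w, hw, hwz⟩
          refine ⟨⟨c, hcM⟩⁻¹ * w * ⟨c, hcM⟩, by have := hL.conj_mem w hw (⟨c, hcM⟩⁻¹); simpa using this, ?_⟩
          change c⁻¹ * (w : H) * c = z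
          change (w : H) = _ at hwz
          rw [hwz]; group
    rcases hMmin _ hLn (Subgroup.map_subtype_le L) with h1 | h1
    · left
      exact (Subgroup.map_eq_bot_iff_of_injective _ M.subtype_injective).1 h1
    · right
      rw [eq_top_iff]
      intro x _
      have h2 : (x : H) ∈ L.map M.subtype := by rw [h1]; exact x.2
      obtain ⟨w, hw, hwx⟩ := h2
      have h3 : w = x := Subtype.ext hwx
      rw [← h3]; exact hw
  · exact ⟨(MulEquiv.subgroupCongr hKN.symm).trans e⟩

end CfsgH2
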