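import Mathlib
import Cfsg.Agent.H2.Misc1
import Cfsg.Agent.H2.Misc7

/-! # Small statements, part 11: Schur multipliers of quaternion and dihedral groups (helper2 library) -/

set_option autoImplicit false

namespace CfsgH2

open Subgroup Cfsg
open scoped Pointwise commutatorElement

universe u v w

/-- central extension with cyclic subgroup of index ≤ 2: abelian preimage. -/
theorem comap_cyclic_comm {Γ : Type u} {G : Type v} [Group Γ] [Group G] (σ : Γ →* G) (hk : σ.ker ≤ center Γ)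
    (C : Subgroup G) [IsCyclic C] (x y : Γ) (hx : σ x ∈ C) (hy : σ y ∈ C) : x * y = y * x := by
  have h1 : (σ.subgroupComap C).ker ≤ center (C.comap σ) := by
    intro z hz
    have h2 : σ z = 1 := congrArg Subtype.val ((MonoidHom.mem_ker).1 hz)
    rw [mem_center_iff]
    intro w
    apply Subtype.ext
    exact mem_center_iff.1 (hk (MonoidHom.mem_ker.2 h2)) w
  have h3 := (MonoidHom.isMulCommutative_of_isCyclic_of_ker_le_center (σ.subgroupComap C) h1).is_comm.comm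
    ⟨x, hx⟩ ⟨y, hy⟩
  exact congrArg Subtype.val h3

theorem stem_comm {Γ : Type u} {G : Type v} [Group Γ] [Group G] (σ : Γ →* G) (hk : σ.ker ≤ center Γ)
    (C : Subgroup G) [hC : C.Normal] [IsCyclic C] (t : Γ) (ht : ∀ x : Γ, σ x ∈ C ∨ σ (x * t⁻¹) ∈ C)
    (g : Γ) (hg : g ∈ commutator Γ) : ∃ r : Γ, σ r ∈ C ∧ g = r * (t * r⁻¹ * t⁻¹) := by
  have hab : ∀ x y : Γ, σ x ∈ C → σ y ∈ C → x * y = y * x := fun x y => comap_cyclic_comm σ hk C x y
  have hn : ∀ x y : Γ, σ x ∈ C → σ (y * x * y⁻¹) ∈ C := by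
    intro x y hx
    rw [map_mul, map_mul, map_inv]
    exact hC.conj_mem _ hx _
  have hinv : ∀ x : Γ, σ x ∈ C → σ (x⁻¹) ∈ C := fun x hx => by rw [map_inv]; exact C.inv_mem hx
  have hmul : ∀ x y : Γ, σ x ∈ C → σ y ∈ C → σ (x * y) ∈ C := fun x y hx hy => by rw [map_mul]; exact C.mul_mem hx hy
  let K : Subgroup Γ :=
    { carrier := {g | ∃ r : Γ, σ r ∈ C ∧ g = r * (t * r⁻¹ * t⁻¹)}
      one_mem' := ⟨1, by rw [map_one]; exact C.one_mem, by group⟩
      mul_mem' := by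
        rintro _ _ ⟨r, hr, rfl⟩ ⟨s, hs, rfl⟩
        refine ⟨r * s, hmul r s hr hs, ?_⟩
        have h1 : (t * r⁻¹ * t⁻¹) * s = s * (t * r⁻¹ * t⁻¹) := hab _ _ (hn _ _ (hinv _ hr)) hs
        have h2 : (t * r⁻¹ * t⁻¹) * (t * s⁻¹ * t⁻¹) = (t * s⁻¹ * t⁻¹) * (t * r⁻¹ * t⁻¹) :=
          hab _ _ (hn _ _ (hinv _ hr)) (hn _ _ (hinv _ hs))
        calc r * (t * r⁻¹ * t⁻¹) * (s * (t * s⁻¹ * t⁻¹)) = r * ((t * r⁻¹ * t⁻¹) * s) * (t * s⁻¹ * t⁻¹) := by group
          _ = r * s * ((t * r⁻¹ * t⁻¹) * (t * s⁻¹ * t⁻¹)) := by rw [h1]; group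
          _ = r * s * (t * (r * s)⁻¹ * t⁻¹) := by rw [h2]; group
      inv_mem' := by
        rintro _ ⟨r, hr, rfl⟩
        refine ⟨r⁻¹, hinv r hr, ?_⟩
        have h1 : (t * r * t⁻¹) * r⁻¹ = r⁻¹ * (t * r * t⁻¹) := hab _ _ (hn _ _ hr) (hinv _ hr)
        calc (r * (t * r⁻¹ * t⁻¹))⁻¹ = (t * r * t⁻¹) * r⁻¹ := by group
          _ = r⁻¹ * (t * r⁻¹⁻¹ * t⁻¹) := by rw [h1, inv_inv] }
  have hKm : ∀ g, g ∈ K ↔ ∃ r : Γ, σ r ∈ C ∧ g = r * (t * r⁻¹ * t⁻¹) := fun g => Iff.rfl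
  rw [← hKm]
  have hle : commutator Γ ≤ K := by
    rw [commutator_eq_closure, closure_le]
    rintro _ ⟨x, y, rfl⟩
    have key : ∀ x s : Γ, σ x ∈ C → σ s ∈ C → ⁅x, s * t⁆ ∈ K := by
      intro x s hx hs
      refine ⟨x, hx, ?_⟩
      rw [commutatorElement_def]
      have h1 : (t * x⁻¹ * t⁻¹) * s⁻¹ = s⁻¹ * (t * x⁻¹ * t⁻¹) := hab _ _ (hn _ _ (hinv _ hx)) (hinv _ hs)
      have h2 : x * s = s * x := hab _ _ hx hs
      calc x * (s * t) * x⁻¹ * (s * t)⁻¹ = (x * s) * ((t * x⁻¹ * t⁻¹) * s⁻¹) := by group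
        _ = s * x * (s⁻¹ * (t * x⁻¹ * t⁻¹)) := by rw [h1, h2]
        _ = s * (x * s⁻¹) * (t * x⁻¹ * t⁻¹) := by group
        _ = s * (s⁻¹ * x) * (t * x⁻¹ * t⁻¹) := by rw [hab x s⁻¹ hx (hinv _ hs)]
        _ = x * (t * x⁻¹ * t⁻¹) := by group
    rcases ht x with hx | hx <;> rcases ht y with hy | hy
    · have : ⁅x, y⁆ = 1 := by
        rw [commutatorElement_def, hab x y hx hy]; group
      rw [this]; exact K.one_mem
    · have := key x (y * t⁻¹) hx hy
      rwa [inv_mul_cancel_right] at this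
    · have := key y (x * t⁻¹) hy hx
      rw [inv_mul_cancel_right] at this
      rw [← commutatorElement_inv]
      exact K.inv_mem this
    · obtain ⟨s, hs⟩ : ∃ s, s = x * t⁻¹ := ⟨_, rfl⟩
      obtain ⟨u, hu⟩ : ∃ u, u = y * t⁻¹ := ⟨_, rfl⟩
      rw [← hs] at hx
      rw [← hu] at hy
      have hx' : x = s * t := by rw [hs]; group
      have hy' : y = u * t := by rw [hu]; group
      refine ⟨s * u⁻¹, hmul _ _ hx (hinv _ hy), ?_⟩
      rw [hx', hy', commutatorElement_def]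
      have hsu : σ (u * s⁻¹) ∈ C := hmul _ _ hy (hinv _ hx)
      calc s * t * (u * t) * (s * t)⁻¹ * (u * t)⁻¹ = s * ((t * (u * (s⁻¹)) * t⁻¹) * u⁻¹) := by
            have h3 : t * s⁻¹ = t * s⁻¹ := rfl
            group
        _ = s * (u⁻¹ * (t * (u * (s⁻¹)) * t⁻¹)) := by rw [hab _ _ (hn _ t hsu) (hinv _ hy)]
        _ = s * u⁻¹ * (t * (s * u⁻¹)⁻¹ * t⁻¹) := by group
  exact hle hg

/-- the trivial multiplier criterion. -/
theorem schur_one_of_ker {G : Type u} [Group G] [Finite G]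
    (h : ∀ (Γ : Type u) [Group Γ] [Finite Γ] (σ : Γ →* G), IsStemExtension σ → σ.ker = ⊥) : HasCyclicSchurMultiplier G 1 := by
  constructor
  · refine ⟨G, inferInstance, inferInstance, MonoidHom.id G, ⟨fun x => ⟨x, rfl⟩, ?_, ?_⟩, ?_⟩
    · rw [MonoidHom.ker_id]; exact bot_le
    · rw [MonoidHom.ker_id]; exact bot_le
    · rw [MonoidHom.ker_id]
      exact ⟨{
        toFun := fun _ => 1
        invFun := fun _ => 1
        left_inv := fun x => Subsingleton.elim _ _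
        right_inv := fun x => Subsingleton.elim _ _
        map_mul' := fun _ _ => Subsingleton.elim _ _ }⟩
  · intro Γ _ _ σ hσ
    have h3 : σ.ker = ⊥ := h Γ σ hσ
    refine ⟨1, fun x => ⟨1, ?_⟩⟩
    apply Subtype.ext
    have h4 : (x : Γ) ∈ (⊥ : Subgroup Γ) := h3 ▸ x.2
    exact (mem_bot.1 h4).symm

/-- S3963 -/
theorem quaternion_schur (n : ℕ) [NeZero n] : HasCyclicSchurMultiplier (QuaternionGroup n) 1 := by
  haveI : NeZero (2 * n) := ⟨mul_ne_zero two_ne_zero (NeZero.ne n)⟩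
  apply schur_one_of_ker
  intro Γ _ _ σ hσ
  obtain ⟨t, ht⟩ := hσ.1 (QuaternionGroup.xa 0)
  have hmem : ∀ i : ZMod (2 * n), (QuaternionGroup.a i : QuaternionGroup n) ∈ zpowers (QuaternionGroup.a 1 : QuaternionGroup n) := by
    intro i
    refine mem_zpowers_iff.2 ⟨(i.val : ℤ), ?_⟩
    rw [zpow_natCast, QuaternionGroup.a_one_pow, ZMod.natCast_zmod_val]
  have hmem' : ∀ g : QuaternionGroup n, g ∈ zpowers (QuaternionGroup.a 1 : QuaternionGroup n) →
      ∃ i : ZMod (2 * n), g = QuaternionGroup.a i := by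
    intro g hg
    obtain ⟨k, rfl⟩ := mem_powers_iff_mem_zpowers.2 hg
    exact ⟨k, QuaternionGroup.a_one_pow k⟩
  haveI hN : (zpowers (QuaternionGroup.a 1 : QuaternionGroup n)).Normal := by
    constructor
    intro g hg y
    obtain ⟨i, rfl⟩ := hmem' g hg
    rcases y with (j | j)
    · change QuaternionGroup.a (j + i + -j) ∈ _
      exact hmem _
    · change (QuaternionGroup.a ((n : ZMod (2 * n)) + ((n : ZMod (2 * n)) + j) - (j + i)) : QuaternionGroup n) ∈ _
      exact hmem _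
  rw [eq_bot_iff]
  intro g hg
  rw [mem_bot]
  obtain ⟨r, hr, hgr⟩ := stem_comm σ hσ.2.1 (zpowers (QuaternionGroup.a 1 : QuaternionGroup n)) t (by
    intro x
    rcases hx : σ x with (i | i)
    · left; exact hmem _
    · right
      rw [map_mul, map_inv, hx, ht]
      change (QuaternionGroup.a ((n : ZMod (2 * n)) + ((n : ZMod (2 * n)) + 0) - i) : QuaternionGroup n) ∈ _
      exact hmem _) g (hσ.2.2 hg)
  obtain ⟨i, hi⟩ := hmem' _ hr
  have h1 : r * t = g * t * r := by rw [hgr]; group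
  have h2 : σ r * σ t = σ t * σ r := by
    rw [← map_mul, h1, map_mul, map_mul, MonoidHom.mem_ker.1 hg, one_mul]
  rw [hi, ht, QuaternionGroup.a_mul_xa, QuaternionGroup.xa_mul_a] at h2
  have h3 := QuaternionGroup.xa.inj h2
  have h4 : i + i = 0 := by linear_combination -h3
  have hnn : (n : ZMod (2 * n)) + n = 0 := by
    have : ((2 * n : ℕ) : ZMod (2 * n)) = 0 := ZMod.natCast_self _
    rw [← this]; push_cast; ring
  have h5 : i = 0 ∨ i = n := by
    have h6 : ((i.val + i.val : ℕ) : ZMod (2 * n)) = 0 := by push_cast; rw [ZMod.natCast_zmod_val]; exact h4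
    rw [ZMod.natCast_eq_zero_iff] at h6
    obtain ⟨m, hm⟩ := h6
    have hlt : i.val < 2 * n := ZMod.val_lt i
    have hnpos : 0 < n := Nat.pos_of_ne_zero (NeZero.ne n)
    have hm1 : i.val = n * m := by nlinarith
    have hm2 : m < 2 := by
      rw [hm1] at hlt
      nlinarith
    have h7 : i = ((n * m : ℕ) : ZMod (2 * n)) := by rw [← hm1, ZMod.natCast_zmod_val]
    interval_cases m
    · left; rw [h7]; simp
    · right; rw [h7]; simp
  have hcomm : r * t = t * r := by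
    rcases h5 with h5 | h5
    · have h6 : r ∈ σ.ker := by
        rw [MonoidHom.mem_ker, hi, h5]; rfl
      exact (mem_center_iff.1 (hσ.2.1 h6) t).symm
    · have h6 : r * (t * t)⁻¹ ∈ σ.ker := by
        rw [MonoidHom.mem_ker, map_mul, map_inv, map_mul, hi, h5, ht, QuaternionGroup.xa_mul_xa, sub_zero, add_zero, mul_inv_cancel]
      have h7 := mem_center_iff.1 (hσ.2.1 h6) t
      have h8 : r = r * (t * t)⁻¹ * (t * t) := by group
      calc r * t = (r * (t * t)⁻¹) * t * (t * t) := by group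
        _ = t * (r * (t * t)⁻¹) * (t * t) := by rw [h7]
        _ = t * r := by group
  rw [hgr]
  calc r * (t * r⁻¹ * t⁻¹) = (r * t) * r⁻¹ * t⁻¹ := by group
    _ = 1 := by rw [hcomm]; group

theorem dihedral_ker {n : ℕ} [NeZero n] {Γ : Type u} [Group Γ] (σ : Γ →* DihedralGroup n) (hσ : IsStemExtension σ) (t : Γ)
    (ht : σ t = DihedralGroup.sr 0) (g : Γ) (hg : g ∈ σ.ker) :
    ∃ r : Γ, ∃ i : ZMod n, σ r = DihedralGroup.r i ∧ i + i = 0 ∧ g = r * (t * r⁻¹ * t⁻¹) := by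
  have hmem : ∀ i : ZMod n, (DihedralGroup.r i : DihedralGroup n) ∈ zpowers (DihedralGroup.r 1 : DihedralGroup n) := by
    intro i
    refine mem_zpowers_iff.2 ⟨(i.val : ℤ), ?_⟩
    rw [zpow_natCast, DihedralGroup.r_one_pow, ZMod.natCast_zmod_val]
  have hmem' : ∀ g : DihedralGroup n, g ∈ zpowers (DihedralGroup.r 1 : DihedralGroup n) →
      ∃ i : ZMod n, g = DihedralGroup.r i := by
    intro g hg
    obtain ⟨k, rfl⟩ := mem_powers_iff_mem_zpowers.2 hg
    exact ⟨k, DihedralGroup.r_one_pow k⟩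
  haveI hN : (zpowers (DihedralGroup.r 1 : DihedralGroup n)).Normal := by
    constructor
    intro g hg y
    obtain ⟨i, rfl⟩ := hmem' g hg
    rcases y with (j | j)
    · change DihedralGroup.r (j + i + -j) ∈ _
      exact hmem _
    · change DihedralGroup.r (j - (j + i)) ∈ _
      exact hmem _
  obtain ⟨r, hr, hgr⟩ := stem_comm σ hσ.2.1 (zpowers (DihedralGroup.r 1 : DihedralGroup n)) t (by
    intro x
    rcases hx : σ x with (i | i)
    · left; exact hmem _
    · right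
      rw [map_mul, map_inv, hx, ht]
      change DihedralGroup.r (0 - i) ∈ _
      exact hmem _) g (hσ.2.2 hg)
  obtain ⟨i, hi⟩ := hmem' _ hr
  refine ⟨r, i, hi, ?_, hgr⟩
  have h1 : r * t = g * t * r := by rw [hgr]; group
  have h2 : σ r * σ t = σ t * σ r := by
    rw [← map_mul, h1, map_mul, map_mul, MonoidHom.mem_ker.1 hg, one_mul]
  rw [hi, ht, DihedralGroup.r_mul_sr, DihedralGroup.sr_mul_r] at h2
  have h3 := DihedralGroup.sr.inj h2
  linear_combination -h3

/-- S3964 -/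
theorem dihedral_schur_odd (n : ℕ) (hn : Odd n) : HasCyclicSchurMultiplier (DihedralGroup n) 1 := by
  haveI : NeZero n := ⟨by rintro rfl; simp at hn⟩
  apply schur_one_of_ker
  intro Γ _ _ σ hσ
  obtain ⟨t, ht⟩ := hσ.1 (DihedralGroup.sr 0)
  rw [eq_bot_iff]
  intro g hg
  rw [mem_bot]
  obtain ⟨r, i, hi, hii, hgr⟩ := dihedral_ker σ hσ t ht g hg
  have h5 : i = 0 := by
    have h6 : ((2 * i.val : ℕ) : ZMod n) = 0 := by push_cast; rw [ZMod.natCast_zmod_val, two_mul]; exact hii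
    rw [ZMod.natCast_eq_zero_iff] at h6
    have h7 : n ∣ i.val := (Nat.Coprime.dvd_mul_left (Nat.Coprime.symm (Nat.coprime_two_left.2 hn))).1 h6
    have h8 := Nat.eq_zero_of_dvd_of_lt h7 (ZMod.val_lt i)
    exact (ZMod.val_eq_zero i).1 h8
  have h6 : r ∈ σ.ker := by
    rw [MonoidHom.mem_ker, hi, h5]; rfl
  have hcomm : r * t = t * r := (mem_center_iff.1 (hσ.2.1 h6) t).symm
  rw [hgr]
  calc r * (t * r⁻¹ * t⁻¹) = (r * t) * r⁻¹ * t⁻¹ := by group
    _ = 1 := by rw [hcomm]; group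

/-- S3965 -/
theorem dihedral_schur_even (n : ℕ) [NeZero n] (hn : Even n) : HasCyclicSchurMultiplier (DihedralGroup n) 2 := by
  have hc2 : Nat.card (Multiplicative (ZMod 2)) = 2 := by
    rw [Nat.card_congr Multiplicative.toAdd, Nat.card_zmod]
  haveI : Fact (Nat.Prime 2) := ⟨Nat.prime_two⟩
  constructor
  · haveI : NeZero (2 * n) := ⟨mul_ne_zero two_ne_zero (NeZero.ne n)⟩
    obtain ⟨σ, hσ, hk⟩ := quaternion_stem n hn
    exact ⟨QuaternionGroup n, inferInstance, inferInstance, σ, hσ, ⟨mulEquivOfPrimeCardEq (p := 2) hk hc2⟩⟩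
  · intro Γ _ _ σ hσ
    obtain ⟨t, ht⟩ := hσ.1 (DihedralGroup.sr 0)
    obtain ⟨m, hm⟩ := hn
    obtain ⟨ρ, hρ⟩ := hσ.1 (DihedralGroup.r (m : ZMod n))
    have hel : ∀ g ∈ σ.ker, g = 1 ∨ g = ρ * (t * ρ⁻¹ * t⁻¹) := by
      intro g hg
      obtain ⟨r, i, hi, hii, hgr⟩ := dihedral_ker σ hσ t ht g hg
      have h5 : i = 0 ∨ i = m := by
        have h6 : ((i.val + i.val : ℕ) : ZMod n) = 0 := by push_cast; rw [ZMod.natCast_zmod_val]; exact hii
        rw [ZMod.natCast_eq_zero_iff] at h6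
        obtain ⟨k, hk⟩ := h6
        have hlt : i.val < n := ZMod.val_lt i
        have hnpos : 0 < n := Nat.pos_of_ne_zero (NeZero.ne n)
        have hm1 : i.val = m * k := by
          have : i.val + i.val = m * k + m * k := by rw [hk]; nth_rewrite 1 [hm]; ring
          omega
        have hm2 : k < 2 := by
          rw [hm1] at hlt
          by_contra hk2
          push Not at hk2
          have : m * 2 ≤ m * k := Nat.mul_le_mul_left m hk2
          omega
        have h7 : i = ((m * k : ℕ) : ZMod n) := by rw [← hm1, ZMod.natCast_zmod_val]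
        interval_cases k
        · left; rw [h7]; simp
        · right; rw [h7]; simp
      rcases h5 with h5 | h5
      · left
        have h6 : r ∈ σ.ker := by
          rw [MonoidHom.mem_ker, hi, h5]; rfl
        have hcomm : r * t = t * r := (mem_center_iff.1 (hσ.2.1 h6) t).symm
        rw [hgr]
        calc r * (t * r⁻¹ * t⁻¹) = (r * t) * r⁻¹ * t⁻¹ := by group
          _ = 1 := by rw [hcomm]; group
      · right
        have h6 : ρ⁻¹ * r ∈ σ.ker := by
          rw [MonoidHom.mem_ker, map_mul, map_inv, hρ, hi, h5, inv_mul_cancel]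
        have h7 : (ρ⁻¹ * r)⁻¹ ∈ σ.ker := inv_mem h6
        have h8 := mem_center_iff.1 (hσ.2.1 h7) (ρ * t)
        have h9 := mem_center_iff.1 (hσ.2.1 h6) ρ
        rw [hgr]
        have h10 := mem_center_iff.1 (hσ.2.1 h6) t
        have e1 : r = ρ * (ρ⁻¹ * r) := by group
        obtain ⟨z, hz⟩ : ∃ z, z = ρ⁻¹ * r := ⟨_, rfl⟩
        rw [← hz] at e1 h10 h9
        have h11 : t * z⁻¹ = z⁻¹ * t := by
          rw [eq_inv_mul_iff_mul_eq, ← mul_assoc, ← h10]; group
        calc r * (t * r⁻¹ * t⁻¹) = ρ * z * (t * z⁻¹ * ρ⁻¹ * t⁻¹) := by rw [e1]; group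
          _ = ρ * z * (z⁻¹ * t * ρ⁻¹ * t⁻¹) := by rw [h11]
          _ = ρ * (t * ρ⁻¹ * t⁻¹) := by group
    by_cases htr : ρ * (t * ρ⁻¹ * t⁻¹) ∈ σ.ker ∧ ρ * (t * ρ⁻¹ * t⁻¹) ≠ 1
    · have hk : Nat.card σ.ker = 2 := by
        rw [Nat.card_eq_two_iff]
        refine ⟨1, ⟨_, htr.1⟩, ?_, ?_⟩
        · intro h
          exact htr.2 (congrArg Subtype.val h).symm
        · rw [Set.eq_univ_iff_forall]
          intro x
          rcases hel x x.2 with h | h
          · left; exact Subtype.ext h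
          · right; exact Subtype.ext h
      exact ⟨(mulEquivOfPrimeCardEq (p := 2) hc2 hk).toMonoidHom, (mulEquivOfPrimeCardEq (p := 2) hc2 hk).surjective⟩
    · refine ⟨1, fun x => ⟨1, ?_⟩⟩
      rcases hel x x.2 with h | h
      · exact (Subtype.ext h).symm
      · by_cases h1 : ρ * (t * ρ⁻¹ * t⁻¹) = 1
        · exact (Subtype.ext (h.trans h1)).symm
        · exact absurd ⟨h ▸ x.2, h1⟩ htr

end CfsgH2
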