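import Mathlib
import Cfsg.Agent.H2.Misc11

/-! # Small statements, part 16 (helper2 library): universal covers -/

set_option autoImplicit false

namespace CfsgH2

open Subgroup Cfsg
open scoped Pointwise commutatorElement

universe u v w

theorem comm_hom_ker {P R : Type*} [Group P] [Group R] (c : P →* R) (hc : ∀ a b, c a * c b = c b * c a) :
    commutator P ≤ c.ker := by
  rw [_root_.commutator_def, commutator_le]
  intro x _ y _
  rw [MonoidHom.mem_ker, map_commutatorElement, commutatorElement_eq_one_iff_mul_comm]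
  exact hc x y

theorem comm_mul_center {Y : Type*} [Group Y] {d1 d2 z1 z2 : Y} (h1 : z1 ∈ center Y) (h2 : z2 ∈ center Y) :
    ⁅d1 * z1, d2 * z2⁆ = ⁅d1, d2⁆ := by
  have e1 : ∀ g, g * z1 = z1 * g := fun g => mem_center_iff.1 h1 g
  have e2 : ∀ g, g * z2 = z2 * g := fun g => mem_center_iff.1 h2 g
  rw [commutatorElement_def, commutatorElement_def, mul_inv_rev, mul_inv_rev]
  have e3 : z1 * (d2 * z2) * (z1⁻¹ * d1⁻¹) * (z2⁻¹ * d2⁻¹) = d2 * d1⁻¹ * d2⁻¹ := by
    calc z1 * (d2 * z2) * (z1⁻¹ * d1⁻¹) * (z2⁻¹ * d2⁻¹) = z1 * (d2 * z2) * z1⁻¹ * (d1⁻¹ * (z2⁻¹ * d2⁻¹)) := by group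
      _ = (d2 * z2 * z1) * z1⁻¹ * (d1⁻¹ * (z2⁻¹ * d2⁻¹)) := by rw [← e1]
      _ = d2 * (z2 * d1⁻¹) * (z2⁻¹ * d2⁻¹) := by group
      _ = d2 * d1⁻¹ * d2⁻¹ := by rw [← e2]; group
  calc d1 * z1 * (d2 * z2) * (z1⁻¹ * d1⁻¹) * (z2⁻¹ * d2⁻¹) = d1 * (z1 * (d2 * z2) * (z1⁻¹ * d1⁻¹) * (z2⁻¹ * d2⁻¹)) := by group
    _ = d1 * d2 * d1⁻¹ * d2⁻¹ := by rw [e3]; group

/-- S3961 -/
theorem universal_iff {G : Type u} {Q : Type v} [Group G] [Group Q] [Finite G] (hG : Group.IsPerfect G) (π : G →* Q)
    (hπ : Function.Surjective π) (hker : π.ker ≤ Subgroup.center G) :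
    (∀ (X : Type u) [Group X] (ξ : X →* Q), Function.Surjective ξ → ξ.ker ≤ Subgroup.center X → ∃ η : G →* X, ξ.comp η = π) ↔
      HasCyclicSchurMultiplier G 1 := by
  have hGt : commutator G = ⊤ := hG.commutator_eq_top
  constructor
  · intro huniv
    apply schur_one_of_ker
    intro Γ _ _ σ hσ
    have hΓ : commutator Γ = ⊤ := by
      rw [eq_top_iff]
      intro x _
      have h1 : (commutator Γ).map σ = ⊤ := by
        rw [_root_.commutator_def, map_commutator, Subgroup.map_top_of_surjective σ hσ.1, ← _root_.commutator_def, hGt]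
      have h2 : σ x ∈ (commutator Γ).map σ := h1 ▸ mem_top _
      obtain ⟨y, hy, hyx⟩ := h2
      have h3 : y⁻¹ * x ∈ σ.ker := by
        rw [MonoidHom.mem_ker, map_mul, map_inv, hyx, inv_mul_cancel]
      have h4 := mul_mem hy (hσ.2.2 h3)
      rwa [mul_inv_cancel_left] at h4
    have hcen : (π.comp σ).ker ≤ center Γ := by
      intro x hx
      have hx1 : σ x ∈ center G := hker hx
      have hcz : ∀ g : Γ, ⁅x, g⁆ ∈ center Γ := by
        intro g
        apply hσ.2.1
        rw [MonoidHom.mem_ker, map_commutatorElement, commutatorElement_eq_one_iff_mul_comm]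
        exact (mem_center_iff.1 hx1 (σ g)).symm
      let c : Γ →* Γ :=
        { toFun := fun g => ⁅x, g⁆
          map_one' := commutatorElement_one_right x
          map_mul' := by
            intro g h
            have h1 := mem_center_iff.1 (hcz h) g
            calc ⁅x, g * h⁆ = ⁅x, g⁆ * (g * ⁅x, h⁆ * g⁻¹) := by simp only [commutatorElement_def]; group
              _ = ⁅x, g⁆ * ⁅x, h⁆ := by rw [h1]; group }
      have h1 := comm_hom_ker c (fun a b => mem_center_iff.1 (hcz b) _)
      rw [hΓ] at h1
      rw [mem_center_iff]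
      intro g
      have h2 : ⁅x, g⁆ = 1 := h1 (mem_top g)
      rw [commutatorElement_eq_one_iff_mul_comm] at h2
      exact h2.symm
    obtain ⟨η, hη⟩ := huniv Γ (π.comp σ) (hπ.comp hσ.1) hcen
    have hz : ∀ g : G, g⁻¹ * σ (η g) ∈ center G := by
      intro g
      apply hker
      rw [MonoidHom.mem_ker, map_mul, map_inv]
      have : π (σ (η g)) = π g := DFunLike.congr_fun hη g
      rw [this, inv_mul_cancel]
    let z : G →* G :=
      { toFun := fun g => g⁻¹ * σ (η g)
        map_one' := by rw [map_one, map_one]; group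
        map_mul' := by
          intro g h
          have h1 := mem_center_iff.1 (hz g) h⁻¹
          calc (g * h)⁻¹ * σ (η (g * h)) = h⁻¹ * (g⁻¹ * σ (η g)) * σ (η h) := by rw [map_mul, map_mul]; group
            _ = g⁻¹ * σ (η g) * (h⁻¹ * σ (η h)) := by rw [h1]; group }
    have h1 := comm_hom_ker z (fun a b => mem_center_iff.1 (hz b) _)
    rw [hGt] at h1
    have hid : ∀ g, σ (η g) = g := by
      intro g
      have h2 : g⁻¹ * σ (η g) = 1 := h1 (mem_top g)
      exact (inv_mul_eq_one.1 h2).symm
    have h2 : commutator Γ ≤ η.range := by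
      rw [_root_.commutator_def, commutator_le]
      intro x _ y _
      have h3 : ∀ x : Γ, (η (σ x))⁻¹ * x ∈ center Γ := by
        intro x
        apply hσ.2.1
        rw [MonoidHom.mem_ker, map_mul, map_inv, hid, inv_mul_cancel]
      have h4 := comm_mul_center (d1 := η (σ x)) (d2 := η (σ y)) (h3 x) (h3 y)
      rw [mul_inv_cancel_left, mul_inv_cancel_left] at h4
      rw [h4]
      exact ⟨⁅σ x, σ y⁆, map_commutatorElement _ _ _⟩
    rw [eq_bot_iff]
    intro x hx
    rw [mem_bot]
    rw [hΓ] at h2
    obtain ⟨g, rfl⟩ := h2 (mem_top x)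
    rw [MonoidHom.mem_ker, hid] at hx
    rw [hx, map_one]
  · intro hS X _ ξ hξ hξc
    -- the pullback
    let Y : Subgroup (G × X) :=
      { carrier := {y | π y.1 = ξ y.2}
        one_mem' := by change π 1 = ξ 1; rw [map_one, map_one]
        mul_mem' := by
          intro a b ha hb
          change π (a.1 * b.1) = ξ (a.2 * b.2)
          rw [map_mul, map_mul, show π a.1 = ξ a.2 from ha, show π b.1 = ξ b.2 from hb]
        inv_mem' := by
          intro a ha
          change π (a.1⁻¹) = ξ (a.2⁻¹)
          rw [map_inv, map_inv, show π a.1 = ξ a.2 from ha] }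
    let pr : Y →* G := (MonoidHom.fst G X).comp Y.subtype
    have hpr : Function.Surjective pr := by
      intro g
      obtain ⟨x, hx⟩ := hξ (π g)
      exact ⟨⟨(g, x), hx.symm⟩, rfl⟩
    have hprc : pr.ker ≤ center Y := by
      rintro ⟨⟨g, x⟩, hgx⟩ hy
      have hg1 : g = 1 := hy
      subst hg1
      have hx : x ∈ center X := by
        apply hξc
        rw [MonoidHom.mem_ker]
        have : π 1 = ξ x := hgx
        rw [← this, map_one]
      rw [mem_center_iff]
      rintro ⟨⟨g', x'⟩, h'⟩
      apply Subtype.ext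
      apply Prod.ext
      · change g' * 1 = 1 * g'; rw [mul_one, one_mul]
      · exact mem_center_iff.1 hx x'
    choose lift hlift using hpr
    have hlz : ∀ y : Y, (lift (pr y))⁻¹ * y ∈ center Y := by
      intro y
      apply hprc
      rw [MonoidHom.mem_ker, map_mul, map_inv, hlift, inv_mul_cancel]
    haveI : Finite (commutatorSet Y) := by
      apply Set.Finite.to_subtype
      refine (Set.finite_range (fun p : G × G => ⁅lift p.1, lift p.2⁆)).subset ?_
      rintro _ ⟨a, b, rfl⟩
      refine ⟨(pr a, pr b), ?_⟩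
      have h4 := comm_mul_center (d1 := lift (pr a)) (d2 := lift (pr b)) (hlz a) (hlz b)
      rw [mul_inv_cancel_left, mul_inv_cancel_left] at h4
      exact h4.symm
    haveI : Finite (commutator Y) := inferInstance
    set D := commutator Y with hD
    let σ : D →* G := pr.comp D.subtype
    have hσs : Function.Surjective σ := by
      intro g
      have h1 : D.map pr = ⊤ := by
        rw [hD, _root_.commutator_def, map_commutator, Subgroup.map_top_of_surjective pr (fun g => ⟨lift g, hlift g⟩),
          ← _root_.commutator_def, hGt]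
      obtain ⟨y, hy, hyg⟩ := (h1 ▸ mem_top g : g ∈ D.map pr)
      exact ⟨⟨y, hy⟩, hyg⟩
    have hσc : σ.ker ≤ center D := by
      rintro ⟨y, hy⟩ h
      have h1 := hprc (show y ∈ pr.ker from h)
      rw [mem_center_iff]
      rintro ⟨d, hd⟩
      exact Subtype.ext (mem_center_iff.1 h1 d)
    have hDD : commutator D = ⊤ := by
      have h1 : D ≤ ⁅D, D⁆ := by
        have h0 : commutator Y = ⁅(⊤ : Subgroup Y), (⊤ : Subgroup Y)⁆ := _root_.commutator_def Y
        refine (hD.trans h0).le.trans ?_
        rw [commutator_le]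
        intro a _ b _
        obtain ⟨⟨a', ha'⟩, ha⟩ := hσs (pr a)
        obtain ⟨⟨b', hb'⟩, hb⟩ := hσs (pr b)
        have h2 : a'⁻¹ * a ∈ center Y := by
          apply hprc
          rw [MonoidHom.mem_ker, map_mul, map_inv]
          have : pr a' = pr a := ha
          rw [this, inv_mul_cancel]
        have h3 : b'⁻¹ * b ∈ center Y := by
          apply hprc
          rw [MonoidHom.mem_ker, map_mul, map_inv]
          have : pr b' = pr b := hb
          rw [this, inv_mul_cancel]
        have h4 := comm_mul_center (d1 := a') (d2 := b') h2 h3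
        rw [mul_inv_cancel_left, mul_inv_cancel_left] at h4
        rw [h4]
        exact commutator_mem_commutator ha' hb'
      have h2 : D ≤ (commutator D).map D.subtype := by
        rw [_root_.commutator_def, map_commutator, ← MonoidHom.range_eq_map, range_subtype]
        exact h1
      rw [eq_top_iff]
      intro d _
      obtain ⟨e, he, hed⟩ := (h2 d.2)
      have : e = d := Subtype.ext hed
      exact this ▸ he
    obtain ⟨f, hf⟩ := hS.2 D σ ⟨hσs, hσc, by rw [hDD]; exact le_top⟩
    have hker1 : ∀ x : σ.ker, x = 1 := by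
      intro x
      obtain ⟨a, rfl⟩ := hf x
      have : a = 1 := Subsingleton.elim _ _
      rw [this, map_one]
    have hinj : Function.Injective σ := by
      rw [injective_iff_map_eq_one]
      intro a ha
      exact congrArg Subtype.val (hker1 ⟨a, ha⟩)
    let e : D ≃* G := MulEquiv.ofBijective σ ⟨hinj, hσs⟩
    refine ⟨((MonoidHom.snd G X).comp (Y.subtype.comp D.subtype)).comp e.symm.toMonoidHom, ?_⟩
    ext g
    obtain ⟨d, rfl⟩ := e.surjective g
    change ξ ((((e.symm (e d)) : D) : Y) : G × X).2 = π (e d)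
    rw [MulEquiv.symm_apply_apply]
    exact ((d : Y).2).symm

end CfsgH2
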