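import Mathlib
import Cfsg.Agent.H2.Misc10
import Cfsg.Agent.H1.CopExtra
import Cfsg.Agent.H1.Frat
import Cfsg.Agent.H3.Dih
import Cfsg.Agent.H2.Misc16

/-! # Small statements, part 17 (helper2 library): 2-groups with |P:P'|=4 -/

set_option autoImplicit false

namespace CfsgH2

open Subgroup Cfsg
open scoped Pointwise commutatorElement

universe u v w

theorem fix_mod {α : Type*} [Finite α] (f : α → α) {q n : ℕ} [hq : Fact q.Prime] (hf : ∀ x, f^[q ^ n] x = x) :
    Nat.card α ≡ Nat.card {x // f x = x} [MOD q] := by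
  classical
  haveI := Fintype.ofFinite α
  let g : Function.End α := f
  have hg : ∀ (k : ℕ) (x : α), (g ^ k) x = f^[k] x := by
    intro k
    induction k with
    | zero => intro x; rfl
    | succ k ih =>
      intro x
      rw [pow_succ, Function.iterate_succ_apply]
      change (g ^ k) (f x) = _
      rw [ih]
  have h1 : g ^ q ^ n = 1 := by
    funext x
    rw [hg]
    exact hf x
  have h2 := Equiv.Perm.card_fixedPoints_modEq h1
  rw [← Nat.card_eq_fintype_card, ← Nat.card_eq_fintype_card] at h2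
  exact h2

theorem mulAut_iterate {P : Type*} [Group P] (ψ : MulAut P) (k : ℕ) (x : P) : (fun y => ψ y)^[k] x = (ψ ^ k) x := by
  induction k generalizing x with
  | zero => rfl
  | succ k ih =>
    rw [Function.iterate_succ_apply, ih, pow_succ]; rfl

/-- an automorphism of q-power order acting trivially modulo a subgroup D of order prime to q with D ≤ Φ(P) is trivial -/
theorem mulAut_trivial {P : Type*} [Group P] [Finite P] {q k : ℕ} [hq : Fact q.Prime] (ψ : MulAut P) (hψ : ψ ^ q ^ k = 1)
    (D : Subgroup P) (hD : D ≤ frattini P) (hDq : ¬ q ∣ Nat.card D) (h : ∀ x, x⁻¹ * ψ x ∈ D) : ψ = 1 := by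
  classical
  let F : Subgroup P :=
    { carrier := {x | ψ x = x}
      one_mem' := map_one ψ
      mul_mem' := by
        intro a b ha hb
        change ψ (a * b) = a * b
        rw [map_mul, show ψ a = a from ha, show ψ b = b from hb]
      inv_mem' := by
        intro a ha
        change ψ a⁻¹ = a⁻¹
        rw [map_inv, show ψ a = a from ha] }
  have h1 : F ⊔ D = ⊤ := by
    rw [eq_top_iff]
    intro x _
    -- the coset xD
    have hDψ : ∀ d ∈ D, ψ d ∈ D := by
      intro d hd
      have := D.mul_mem hd (h d)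
      rwa [mul_inv_cancel_left] at this
    let f : {y : P // x⁻¹ * y ∈ D} → {y : P // x⁻¹ * y ∈ D} := fun y => ⟨ψ y, by
      have e1 := D.mul_mem y.2 (h (y : P))
      have e2 : x⁻¹ * (y : P) * ((y : P)⁻¹ * ψ (y : P)) = x⁻¹ * ψ (y : P) := by group
      rwa [e2] at e1⟩
    have hf : ∀ (k : ℕ) (y : {y : P // x⁻¹ * y ∈ D}), ((f^[k] y : {y : P // x⁻¹ * y ∈ D}) : P) = (ψ ^ k) y := by
      intro k
      induction k with
      | zero => intro y; rfl
      | succ k ih =>
        intro y
        rw [Function.iterate_succ_apply, ih, pow_succ]; rfl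
    have h2 := fix_mod (q := q) (n := k) f (fun y => Subtype.ext (by rw [hf, hψ]; rfl))
    have h3 : Nat.card {y : P // x⁻¹ * y ∈ D} = Nat.card D := by
      refine Nat.card_congr
        { toFun := fun y => ⟨x⁻¹ * y, y.2⟩
          invFun := fun d => ⟨x * d, by rw [inv_mul_cancel_left]; exact d.2⟩
          left_inv := fun y => Subtype.ext (by change x * (x⁻¹ * (y : P)) = y; group)
          right_inv := fun d => Subtype.ext (by change x⁻¹ * (x * (d : P)) = d; group) }
    have h4 : Nat.card {y // f y = y} ≠ 0 := by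
      intro h0
      rw [h0, h3] at h2
      exact hDq ((Nat.modEq_zero_iff_dvd).1 h2)
    have h5 : Nonempty {y // f y = y} := by
      by_contra hne
      rw [not_nonempty_iff] at hne
      exact h4 (Nat.card_of_isEmpty)
    obtain ⟨⟨y, hy⟩, hfy⟩ := h5
    have h6 : ψ y = y := congrArg Subtype.val hfy
    have h7 : x = y * (x⁻¹ * y)⁻¹ := by group
    rw [h7]
    exact mul_mem (mem_sup_left h6) (mem_sup_right (D.inv_mem hy))
  have h2 : F = ⊤ := CfsgH1.eq_top_of_sup_frattini hD h1
  ext x
  have : x ∈ F := h2 ▸ mem_top x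
  exact this

theorem exists_odd_aut {M : Type*} [Group M] [Finite M] (h : ¬ IsPGroup 2 M) : ∃ q : ℕ, q.Prime ∧ q ≠ 2 ∧ ∃ ψ : M, orderOf ψ = q := by
  by_contra hno
  push Not at hno
  apply h
  refine IsPGroup.iff_card.2 ⟨(Nat.card M).primeFactorsList.length, ?_⟩
  apply Nat.eq_prime_pow_of_unique_prime_dvd Nat.card_pos.ne'
  intro d hd hdc
  by_contra hd2
  haveI : Fact d.Prime := ⟨hd⟩
  obtain ⟨x, hx⟩ := exists_prime_orderOf_dvd_card' (G := M) d hdc
  exact hno d hd hd2 x hx

/-- S4189 -/
theorem q8_of_aut {P : Type u} [Group P] [Finite P] (hP : IsPGroup 2 P) (hna : ¬ IsMulCommutative P)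
    (h4 : (commutator P).index = 4) (haut : ¬ IsPGroup 2 (MulAut P)) : Nonempty (P ≃* QuaternionGroup 2) := by
  classical
  haveI : Fact (Nat.Prime 2) := ⟨Nat.prime_two⟩
  haveI := hP.isNilpotent
  haveI : Finite (MulAut P) := by
    apply Finite.of_injective (fun ψ : MulAut P => (ψ : P → P))
    intro a b hab
    ext x; exact congrFun hab x
  obtain ⟨q, hq, hq2, ψ, hψ⟩ := exists_odd_aut haut
  haveI : Fact q.Prime := ⟨hq⟩
  have hψq : ψ ^ q ^ 1 = 1 := by rw [pow_one, ← hψ]; exact pow_orderOf_eq_one ψ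
  set D := commutator P with hD
  have hDψ : ∀ (χ : MulAut P) (d : P), d ∈ D → χ d ∈ D := by
    intro χ d hd
    have h1 : D.map χ.toMonoidHom = D := by
      rw [hD, _root_.commutator_def, map_commutator, Subgroup.map_top_of_surjective _ χ.surjective]
    rw [← h1]
    exact ⟨d, hd, rfl⟩
  have hDf : D ≤ frattini P := CfsgH1.commutator_le_frattini
  have hDq : ¬ q ∣ Nat.card D := by
    obtain ⟨k, hk⟩ := IsPGroup.iff_card.1 (hP.to_subgroup D)
    rw [hk]
    intro hdvd
    exact hq2 ((Nat.prime_dvd_prime_iff_eq hq Nat.prime_two).1 (hq.dvd_of_dvd_pow hdvd))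
  -- fixed cosets
  let f : P ⧸ D → P ⧸ D := QuotientGroup.map D D ψ.toMonoidHom (fun d hd => hDψ ψ d hd)
  have hfmk : ∀ x : P, f (x : P ⧸ D) = ((ψ x : P) : P ⧸ D) := fun x => rfl
  have hfit : ∀ (k : ℕ) (x : P), f^[k] (x : P ⧸ D) = (((ψ ^ k) x : P) : P ⧸ D) := by
    intro k
    induction k with
    | zero => intro x; rfl
    | succ k ih =>
      intro x
      rw [Function.iterate_succ_apply, hfmk, ih, pow_succ]; rfl
  have hcard : Nat.card (P ⧸ D) = 4 := h4
  have hfix : ∀ x : P, x⁻¹ * ψ x ∈ D → x ∈ D := by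
    by_contra hno
    push Not at hno
    obtain ⟨x, hx, hxD⟩ := hno
    have h1 := fix_mod (q := q) (n := 1) f (fun y => by
      obtain ⟨z, rfl⟩ := QuotientGroup.mk_surjective y
      rw [hfit, hψq]; rfl)
    rw [hcard] at h1
    have h2 : 2 ≤ Nat.card {y // f y = y} := by
      have hinj : Function.Injective (fun b : Bool => if b then (⟨(1 : P ⧸ D), map_one (QuotientGroup.map D D ψ.toMonoidHom (fun d hd => hDψ ψ d hd))⟩ : {y // f y = y})
          else ⟨(x : P ⧸ D), by rw [hfmk]; exact (QuotientGroup.eq.2 hx).symm⟩) := by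
        intro a b hab
        cases a <;> cases b <;> simp only [Bool.false_eq_true, if_true, if_false, Subtype.mk.injEq] at hab ⊢
        · exact absurd ((QuotientGroup.eq_one_iff x).1 hab) hxD
        · exact absurd ((QuotientGroup.eq_one_iff x).1 hab.symm) hxD
      have := Nat.card_le_card_of_injective _ hinj
      simpa using this
    have h3 : Nat.card {y // f y = y} ≤ 4 := by
      rw [← hcard]
      exact Nat.card_le_card_of_injective _ Subtype.val_injective
    have hq3 : 3 ≤ q := by
      have := hq.two_le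
      omega
    have h5 : Nat.card {y // f y = y} = 4 := by
      have h6 : q ∣ 4 - Nat.card {y // f y = y} := (Nat.modEq_iff_dvd' h3).1 h1.symm
      by_contra hne
      have h7 := Nat.le_of_dvd (by omega) h6
      omega
    have hall : ∀ y : P ⧸ D, f y = y := by
      have h6 : Function.Surjective (Subtype.val : {y // f y = y} → P ⧸ D) := by
        have h7 : Function.Bijective (Subtype.val : {y // f y = y} → P ⧸ D) :=
          (Nat.bijective_iff_injective_and_card _).2 ⟨Subtype.val_injective, by rw [h5, hcard]⟩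
        exact h7.2
      intro y
      obtain ⟨z, rfl⟩ := h6 y
      exact z.2
    have h6 := mulAut_trivial ψ hψq D hDf hDq (fun y => QuotientGroup.eq.1 ((hall (y : P ⧸ D)).symm))
    rw [h6, orderOf_one] at hψ
    exact hq.one_lt.ne hψ
  have hfix' : ∀ X : P ⧸ D, f X = X → X = 1 := by
    intro X hX
    obtain ⟨x, rfl⟩ := QuotientGroup.mk_surjective X
    exact (QuotientGroup.eq_one_iff x).2 (hfix x (QuotientGroup.eq.1 (hX.symm)))
  have hfix2 : ∀ X : P ⧸ D, f (f X) = X → X = 1 := by
    intro X hX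
    apply hfix'
    have h1 : Function.IsPeriodicPt f 2 X := hX
    have h2 : Function.IsPeriodicPt f q X := by
      obtain ⟨x, rfl⟩ := QuotientGroup.mk_surjective X
      change f^[q] _ = _
      rw [hfit, ← hψ, pow_orderOf_eq_one]; rfl
    have h3 := h1.gcd h2
    have h5 : Nat.gcd 2 q = 1 := by
      rw [← Nat.coprime_iff_gcd_eq_one, Nat.coprime_primes Nat.prime_two hq]
      exact hq2.symm
    rw [h5] at h3
    exact h3
  have hfmul : ∀ X Y : P ⧸ D, f (X * Y) = f X * f Y := fun X Y => map_mul (QuotientGroup.map D D ψ.toMonoidHom (fun d hd => hDψ ψ d hd)) X Y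
  have hf1 : f 1 = 1 := map_one (QuotientGroup.map D D ψ.toMonoidHom (fun d hd => hDψ ψ d hd))
  obtain ⟨x, hxD⟩ : ∃ x : P, x ∉ D := by
    by_contra hno
    push Not at hno
    have h1 : D = ⊤ := eq_top_iff.2 (fun x _ => hno x)
    rw [h1, index_top] at h4
    omega
  set y := ψ x with hy
  have hX1 : (x : P ⧸ D) ≠ 1 := fun h => hxD ((QuotientGroup.eq_one_iff x).1 h)
  have hfX : f (x : P ⧸ D) = (y : P ⧸ D) := rfl
  have hXY : (x : P ⧸ D) ≠ (y : P ⧸ D) := fun h => hX1 (hfix' _ (hfX.trans h.symm))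
  have hY1 : (y : P ⧸ D) ≠ 1 := by
    intro h
    apply hX1
    apply hfix2
    rw [hfX, h, hf1]
    have h1 := hDψ (ψ⁻¹) y ((QuotientGroup.eq_one_iff y).1 h)
    rw [hy] at h1
    have h2 : ψ⁻¹ (ψ x) = x := ψ.symm_apply_apply x
    rw [h2] at h1
    exact ((QuotientGroup.eq_one_iff x).2 h1).symm
  have hXY1 : (x : P ⧸ D) * (y : P ⧸ D) ≠ 1 := by
    intro h
    apply hX1
    apply hfix2
    have h1 : (y : P ⧸ D) = (x : P ⧸ D)⁻¹ := (inv_eq_of_mul_eq_one_right h).symm
    have h2 : f ((x : P ⧸ D)⁻¹) = (f (x : P ⧸ D))⁻¹ := map_inv (QuotientGroup.map D D ψ.toMonoidHom (fun d hd => hDψ ψ d hd)) _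
    rw [hfX, h1, h2, hfX, h1, inv_inv]
  have hcov : ∀ Z : P ⧸ D, Z = 1 ∨ Z = (x : P ⧸ D) ∨ Z = (y : P ⧸ D) ∨ Z = (x : P ⧸ D) * (y : P ⧸ D) := by
    haveI := Fintype.ofFinite (P ⧸ D)
    have h1 : ({1, (x : P ⧸ D), (y : P ⧸ D), (x : P ⧸ D) * (y : P ⧸ D)} : Finset (P ⧸ D)).card = 4 := by
      rw [Finset.card_insert_of_notMem, Finset.card_insert_of_notMem, Finset.card_insert_of_notMem, Finset.card_singleton]
      · rw [Finset.mem_singleton]
        intro h
        exact hX1 (mul_eq_right.1 h.symm)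
      · rw [Finset.mem_insert, Finset.mem_singleton]
        rintro (h | h)
        · exact hXY h
        · exact hY1 (mul_eq_left.1 h.symm)
      · rw [Finset.mem_insert, Finset.mem_insert, Finset.mem_singleton]
        rintro (h | h | h)
        · exact hX1 h.symm
        · exact hY1 h.symm
        · exact hXY1 h.symm
    have h2 : ({1, (x : P ⧸ D), (y : P ⧸ D), (x : P ⧸ D) * (y : P ⧸ D)} : Finset (P ⧸ D)) = Finset.univ := by
      rw [← Finset.card_eq_iff_eq_univ, h1, ← Nat.card_eq_fintype_card, hcard]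
    intro Z
    have h3 := Finset.mem_univ Z
    rw [← h2] at h3
    simpa using h3
  have hfY : f (y : P ⧸ D) = (x : P ⧸ D) * (y : P ⧸ D) := by
    rcases hcov (f (y : P ⧸ D)) with h | h | h | h
    · exfalso
      apply hY1
      apply hfix2
      rw [h, hf1]
      have h1 := hDψ (ψ⁻¹) (ψ y) ((QuotientGroup.eq_one_iff _).1 h)
      have h2 : ψ⁻¹ (ψ y) = y := ψ.symm_apply_apply y
      rw [h2] at h1
      exact ((QuotientGroup.eq_one_iff y).2 h1).symm
    · exact absurd (hfix2 _ (by rw [hfX]; exact h)) hX1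
    · exact absurd (hfix' _ h) hY1
    · exact h
  have hXsq : (x : P ⧸ D) * (x : P ⧸ D) = 1 := by
    rcases hcov ((x : P ⧸ D) * (x : P ⧸ D)) with h | h | h | h
    · exact h
    · exact absurd (mul_eq_left.1 h) hX1
    · exfalso
      have h1 := congrArg f h
      rw [hfmul, hfX, hfY] at h1
      exact hXY (mul_right_cancel h1).symm
    · exact absurd (mul_left_cancel h) hXY
  have hx2 : x ^ 2 ∈ D := by
    rw [← QuotientGroup.eq_one_iff, pow_two]; exact hXsq
  -- K = [D, P]
  set K := ⁅D, (⊤ : Subgroup P)⁆ with hK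
  haveI hKn : K.Normal := by rw [hK]; exact commutator_normal D ⊤
  have hKD : K ≤ D := by rw [hK]; exact commutator_le_left D ⊤
  set π := QuotientGroup.mk' K with hπ
  have hπs : Function.Surjective π := QuotientGroup.mk'_surjective K
  have hDc : ∀ d ∈ D, π d ∈ center (P ⧸ K) := by
    intro d hd
    rw [mem_center_iff]
    intro g
    obtain ⟨g, rfl⟩ := hπs g
    have h1 : ⁅d, g⁆ ∈ K := commutator_mem_commutator hd (mem_top g)
    have h2 : π ⁅d, g⁆ = 1 := (QuotientGroup.eq_one_iff _).2 h1
    rw [map_commutatorElement, commutatorElement_eq_one_iff_mul_comm] at h2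
    exact h2.symm
  set a := π x with ha
  set b := π y with hb
  set c := ⁅a, b⁆ with hc
  have hcD : ⁅x, y⁆ ∈ D := commutator_mem_commutator (mem_top _) (mem_top _)
  have hcπ : π ⁅x, y⁆ = c := map_commutatorElement _ _ _
  have hcz : ∀ g, g * c = c * g := fun g => by
    rw [← hcπ]; exact mem_center_iff.1 (hDc _ hcD) g
  have ha2 : ∀ g, g * (a * a) = (a * a) * g := fun g => by
    have := mem_center_iff.1 (hDc _ hx2) g
    rwa [map_pow, pow_two] at this
  have hc2 : c * c = 1 := by
    have h1 : ⁅a * a, b⁆ = 1 := by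
      rw [commutatorElement_eq_one_iff_mul_comm]; exact (ha2 b).symm
    have h2 : ⁅a * a, b⁆ = a * c * a⁻¹ * c := by
      rw [hc]; simp only [commutatorElement_def]; group
    rw [h2, hcz a] at h1
    rw [← h1]; group
  -- all elements of D map to 1 or c
  have hcosets : ∀ g : P, ∃ g0 : P, (g0 = 1 ∨ g0 = x ∨ g0 = y ∨ g0 = x * y) ∧ g0⁻¹ * g ∈ D := by
    intro g
    rcases hcov (g : P ⧸ D) with h | h | h | h
    · exact ⟨1, Or.inl rfl, by rw [inv_one, one_mul]; exact (QuotientGroup.eq_one_iff g).1 h⟩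
    · exact ⟨x, Or.inr (Or.inl rfl), QuotientGroup.eq.1 h.symm⟩
    · exact ⟨y, Or.inr (Or.inr (Or.inl rfl)), QuotientGroup.eq.1 h.symm⟩
    · exact ⟨x * y, Or.inr (Or.inr (Or.inr rfl)), QuotientGroup.eq.1 h.symm⟩
  have hcm : ∀ g h : P ⧸ K, ⁅g, h⁆ ∈ zpowers c := by
    intro g h
    obtain ⟨g, rfl⟩ := hπs g
    obtain ⟨h, rfl⟩ := hπs h
    obtain ⟨g0, hg0, hg⟩ := hcosets g
    obtain ⟨h0, hh0, hh⟩ := hcosets h
    have e1 := comm_mul_center (d1 := π g0) (d2 := π h0) (hDc _ hg) (hDc _ hh)
    rw [← map_mul, ← map_mul, mul_inv_cancel_left, mul_inv_cancel_left] at e1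
    rw [e1]
    have k1 : ⁅a, b⁆ ∈ zpowers c := mem_zpowers c
    have k2 : ⁅b, a⁆ ∈ zpowers c := by rw [← commutatorElement_inv]; exact inv_mem (mem_zpowers c)
    have k3 : ⁅a, a * b⁆ ∈ zpowers c := by
      have : ⁅a, a * b⁆ = a * c * a⁻¹ := by rw [hc]; simp only [commutatorElement_def]; group
      rw [this, hcz a, mul_inv_cancel_right]; exact mem_zpowers c
    have k4 : ⁅b, a * b⁆ ∈ zpowers c := by
      have : ⁅b, a * b⁆ = ⁅b, a⁆ := by simp only [commutatorElement_def]; group
      rw [this]; exact k2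
    have k5 : ⁅a * b, a⁆ ∈ zpowers c := by rw [← commutatorElement_inv]; exact inv_mem k3
    have k6 : ⁅a * b, b⁆ ∈ zpowers c := by rw [← commutatorElement_inv]; exact inv_mem k4
    rcases hg0 with rfl | rfl | rfl | rfl <;> rcases hh0 with rfl | rfl | rfl | rfl <;>
      (try simp only [map_one, map_mul, commutatorElement_one_left, commutatorElement_one_right, commutatorElement_self]) <;>
      first | exact one_mem _ | assumption
  have hDmap : ∀ d ∈ D, π d = 1 ∨ π d = c := by
    intro d hd
    have h1 : D.map π ≤ zpowers c := by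
      rw [hD, _root_.commutator_def, map_commutator, commutator_le]
      intro g _ h _
      exact hcm g h
    obtain ⟨k, hk⟩ := mem_zpowers_iff.1 (h1 ⟨d, hd, rfl⟩)
    rcases Int.even_or_odd k with ⟨j, hj⟩ | ⟨j, hj⟩
    · left
      rw [← hk, hj, ← two_mul, zpow_mul, zpow_two, hc2, one_zpow]
    · right
      rw [← hk, hj, zpow_add, zpow_mul, zpow_two, hc2, one_zpow, zpow_one, one_mul]
  have hDne : D ≠ ⊥ := by
    intro h
    apply hna
    have h1 : (⊤ : Subgroup P) ≤ centralizer ((⊤ : Subgroup P) : Set P) := by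
      rw [← commutator_eq_bot_iff_le_centralizer, ← _root_.commutator_def]; exact h
    exact ⟨⟨fun g h => (mem_centralizer_iff.1 (h1 (mem_top g)) h (mem_top h)).symm⟩⟩
  have hnilt : Group.IsNilpotent (⊤ : Subgroup P) := inferInstance
  have hc1 : c ≠ 1 := by
    intro h
    apply hDne
    apply CfsgH1.eq_bot_of_le_commutator hnilt le_top
    intro d hd
    have h1 : π d = 1 := by
      rcases hDmap d hd with h1 | h1
      · exact h1
      · exact h1.trans h
    exact (QuotientGroup.eq_one_iff d).1 h1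
  -- the automorphism on P/K
  have hKψ : ∀ k ∈ K, ψ k ∈ K := by
    intro k hk
    have h1 : K.map ψ.toMonoidHom ≤ K := by
      rw [hK, map_commutator, Subgroup.map_top_of_surjective _ ψ.surjective]
      apply commutator_mono _ le_rfl
      rintro _ ⟨d, hd, rfl⟩
      exact hDψ ψ d hd
    exact h1 ⟨k, hk, rfl⟩
  let F : P ⧸ K →* P ⧸ K := QuotientGroup.map K K ψ.toMonoidHom (fun d hd => hKψ d hd)
  have hFmk : ∀ g : P, F (π g) = π (ψ g) := fun g => rfl
  have hFit : ∀ (k : ℕ) (g : P), F^[k] (π g) = π ((ψ ^ k) g) := by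
    intro k
    induction k with
    | zero => intro x; rfl
    | succ k ih =>
      intro x
      rw [Function.iterate_succ_apply, hFmk, ih, pow_succ]; rfl
  have hFc : F c = c := by
    have h1 : F c = 1 ∨ F c = c := by
      have h2 : F c = π (ψ ⁅x, y⁆) := by rw [← hcπ, hFmk]
      rw [h2]
      exact hDmap _ (hDψ ψ _ hcD)
    rcases h1 with h1 | h1
    · exfalso
      apply hc1
      have h2 : F^[q] c = c := by
        rw [← hcπ, hFit, ← hψ, pow_orderOf_eq_one]; rfl
      have h3 : ∀ k : ℕ, F^[k] (1 : P ⧸ K) = 1 := by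
        intro k
        induction k with
        | zero => rfl
        | succ k ih => rw [Function.iterate_succ_apply, map_one, ih]
      obtain ⟨m, hm⟩ : ∃ m, q = m + 1 := ⟨q - 1, by have := hq.one_lt; omega⟩
      rw [hm, Function.iterate_succ_apply, h1, h3] at h2
      exact h2.symm
    · exact h1
  have hFa : F a = b := rfl
  obtain ⟨d, hd, hFb⟩ : ∃ d ∈ D, F b = a * b * π d := by
    refine ⟨(x * y)⁻¹ * ψ y, QuotientGroup.eq.1 hfY.symm, ?_⟩
    rw [hFmk, ha, hb, ← map_mul, ← map_mul]
    congr 1; group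
  have haa : a * a = c := by
    have h1 : a * a = 1 ∨ a * a = c := by
      have := hDmap _ hx2
      rwa [map_pow, pow_two] at this
    rcases h1 with h1 | h1
    · exfalso
      apply hc1
      have hbb : b * b = 1 := by
        have := congrArg F h1
        rwa [map_mul, hFa, map_one] at this
      have hab : (a * b * π d) * (a * b * π d) = 1 := by
        have := congrArg F hbb
        rwa [map_mul, hFb, map_one] at this
      have hdz := mem_center_iff.1 (hDc d hd)
      have hd2 : π d * π d = 1 := by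
        rcases hDmap d hd with h | h
        · rw [h, one_mul]
        · rw [h, hc2]
      have h2 : (a * b) * (a * b) = 1 := by
        calc (a * b) * (a * b) = (a * b) * (a * b) * (π d * π d) := by rw [hd2, mul_one]
          _ = a * b * ((a * b) * π d) * π d := by group
          _ = a * b * (π d * (a * b)) * π d := by rw [hdz (a * b)]
          _ = (a * b * π d) * (a * b * π d) := by group
          _ = 1 := hab
      rw [hc, commutatorElement_def]
      have h3 : a⁻¹ = a := inv_eq_of_mul_eq_one_right h1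
      have h5 : b⁻¹ = b := inv_eq_of_mul_eq_one_right hbb
      rw [h3, h5, mul_assoc (a * b) a b]; exact h2
    · exact h1
  have hbb : b * b = c := by
    have := congrArg F haa
    rwa [map_mul, hFa, hFc] at this
  -- K = 1
  have hKbot : K = ⊥ := by
    apply CfsgH1.eq_bot_of_le_commutator hnilt le_top
    set K4 := ⁅K, (⊤ : Subgroup P)⁆ with hK4
    haveI hK4n : K4.Normal := by rw [hK4]; exact commutator_normal K ⊤
    set ρ := QuotientGroup.mk' K4 with hρ
    have hρs : Function.Surjective ρ := QuotientGroup.mk'_surjective K4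
    have hKc : ∀ k ∈ K, ∀ g, ρ g * ρ k = ρ k * ρ g := by
      intro k hk g
      have h1 : ⁅k, g⁆ ∈ K4 := commutator_mem_commutator hk (mem_top g)
      have h2 : ρ ⁅k, g⁆ = 1 := (QuotientGroup.eq_one_iff _).2 h1
      rw [map_commutatorElement, commutatorElement_eq_one_iff_mul_comm] at h2
      exact h2.symm
    have hDK : ∀ d ∈ D, d ∈ K ∨ (x * x)⁻¹ * d ∈ K := by
      intro d hd
      rcases hDmap d hd with h | h
      · left; exact (QuotientGroup.eq_one_iff _).1 h
      · right
        rw [← haa, ha, ← map_mul] at h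
        exact QuotientGroup.eq.1 h.symm
    let C : Subgroup P := (centralizer {ρ (x * x)}).comap ρ
    have hCm : ∀ g, g ∈ C ↔ ρ (x * x) * ρ g = ρ g * ρ (x * x) := by
      intro g
      exact mem_centralizer_singleton_iff'
    have hKC : K ≤ C := fun k hk => (hCm k).2 (hKc k hk (x * x))
    have hxC : x ∈ C := by rw [hCm, ← map_mul, ← map_mul, mul_assoc]
    have hyC : y ∈ C := by
      have h1 : (x * x)⁻¹ * (y * y) ∈ K := by
        apply QuotientGroup.eq.1
        change π (x * x) = π (y * y)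
        rw [map_mul, map_mul]
        exact haa.trans hbb.symm
      rw [hCm]
      have h2 : ρ (x * x) = ρ (y * y) * ρ ((x * x)⁻¹ * (y * y))⁻¹ := by
        rw [← map_mul ρ, mul_inv_rev, mul_inv_cancel_left, inv_inv]
      have h3 := hKc _ (K.inv_mem h1) y
      have h5 : ρ (y * y) * ρ y = ρ y * ρ (y * y) := by rw [← map_mul ρ, ← map_mul ρ, mul_assoc]
      calc ρ (x * x) * ρ y = ρ (y * y) * (ρ ((x * x)⁻¹ * (y * y))⁻¹ * ρ y) := by rw [h2, mul_assoc]
        _ = (ρ (y * y) * ρ y) * ρ ((x * x)⁻¹ * (y * y))⁻¹ := by rw [← h3, mul_assoc]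
        _ = ρ y * (ρ (y * y) * ρ ((x * x)⁻¹ * (y * y))⁻¹) := by rw [h5, mul_assoc]
        _ = ρ y * ρ (x * x) := by rw [h2]
    have hDC : D ≤ C := by
      intro d hd
      rcases hDK d hd with h | h
      · exact hKC h
      · have := C.mul_mem (C.mul_mem hxC hxC) (hKC h)
        rwa [mul_inv_cancel_left] at this
    have hCt : ∀ g, g ∈ C := by
      intro g
      obtain ⟨g0, hg0, hg⟩ := hcosets g
      have h1 : g0 ∈ C := by
        rcases hg0 with h | h | h | h
        · rw [h]; exact C.one_mem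
        · rw [h]; exact hxC
        · rw [h]; exact hyC
        · rw [h]; exact C.mul_mem hxC hyC
      have := C.mul_mem h1 (hDC hg)
      rwa [mul_inv_cancel_left] at this
    rw [hK, commutator_le]
    intro d hd g _
    have h1 : ρ d * ρ g = ρ g * ρ d := by
      rcases hDK d hd with h | h
      · exact (hKc d h g).symm
      · have h2 : ρ d = ρ (x * x) * ρ ((x * x)⁻¹ * d) := by rw [← map_mul, mul_inv_cancel_left]
        have h3 := (hCm g).1 (hCt g)
        have h5 := hKc _ h g
        rw [h2, mul_assoc, ← h5, ← mul_assoc, h3, mul_assoc]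
    have h2 : ρ ⁅d, g⁆ = 1 := by
      rw [map_commutatorElement, commutatorElement_eq_one_iff_mul_comm]; exact h1
    exact (QuotientGroup.eq_one_iff _).1 h2
  have hπinj : Function.Injective π := by
    rw [injective_iff_map_eq_one]
    intro g hg
    have := (QuotientGroup.eq_one_iff g).1 hg
    rw [hKbot] at this
    exact mem_bot.1 this
  have exy : x * x = y * y := hπinj (by rw [map_mul, map_mul]; exact haa.trans hbb.symm)
  have exc : ⁅x, y⁆ = x * x := hπinj (by rw [map_mul, hcπ]; exact haa.symm)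
  have ex4 : (x * x) * (x * x) = 1 := hπinj (by rw [map_mul, map_mul, map_one]; change (a * a) * (a * a) = 1; rw [haa, hc2])
  have exx1 : x * x ≠ 1 := by
    intro h
    apply hc1
    rw [← haa, ha, ← map_mul, h, map_one]
  have hord : orderOf x = 2 * 2 := by
    change orderOf x = 2 ^ 2
    apply orderOf_eq_prime_pow
    · rw [pow_one, pow_two]; exact exx1
    · rw [show 2 ^ (1 + 1) = 2 + 2 from rfl, pow_add, pow_two]; exact ex4
  have hinv : y * x * y⁻¹ = x⁻¹ := by
    rw [commutatorElement_def] at exc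
    have h1 : y * x⁻¹ * y⁻¹ = x := by
      calc y * x⁻¹ * y⁻¹ = x⁻¹ * (x * y * x⁻¹ * y⁻¹) := by group
        _ = x := by rw [exc]; group
    calc y * x * y⁻¹ = (y * x⁻¹ * y⁻¹)⁻¹ := by group
      _ = x⁻¹ := by rw [h1]
  have hyx : y ∉ zpowers x := by
    intro h
    obtain ⟨k, hk⟩ := mem_zpowers_iff.1 h
    have h1 : (y : P ⧸ D) = (x : P ⧸ D) ^ k := by rw [← hk]; rfl
    rcases Int.even_or_odd k with ⟨j, hj⟩ | ⟨j, hj⟩
    · apply hY1
      rw [h1, hj, ← two_mul, zpow_mul, zpow_two, hXsq, one_zpow]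
    · apply hXY
      rw [h1, hj, zpow_add, zpow_mul, zpow_two, hXsq, one_zpow, zpow_one, one_mul]
  obtain ⟨e⟩ := CfsgH3.nonempty_quaternion_equiv 2 x y hord (by rw [pow_two]; exact exy.symm) hinv hyx
  have hcl : closure {x, y} = ⊤ := by
    have hxc : x ∈ closure {x, y} := subset_closure (by simp)
    have hyc : y ∈ closure {x, y} := subset_closure (by simp)
    rw [eq_top_iff]
    intro g _
    obtain ⟨g0, hg0, hg⟩ := hcosets g
    have h1 : g0 ∈ closure {x, y} := by
      rcases hg0 with h | h | h | h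
      · rw [h]; exact one_mem _
      · rw [h]; exact hxc
      · rw [h]; exact hyc
      · rw [h]; exact mul_mem hxc hyc
    have h2 : g0⁻¹ * g ∈ closure {x, y} := by
      rcases hDmap _ hg with h | h
      · have : g0⁻¹ * g = 1 := hπinj (by rw [h, map_one])
        rw [this]; exact one_mem _
      · have : g0⁻¹ * g = x * x := hπinj (by rw [h, map_mul]; exact haa.symm)
        rw [this]; exact mul_mem hxc hxc
    have := mul_mem h1 h2
    rwa [mul_inv_cancel_left] at this
  rw [hcl] at e
  exact ⟨Subgroup.topEquiv.symm.trans e⟩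

end CfsgH2
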