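import Cfsg.Agent.H2.NpcComp
import Cfsg.Agent.H3.Baer
import Cfsg.Agent.H3.Inv

/-! # Groups in which no element of odd order is inverted (helper2 library) -/

set_option autoImplicit false

open scoped Pointwise commutatorElement

namespace CfsgH2

open Subgroup CfsgH3

universe u

theorem isPGroup_closure_pair {G : Type*} [Group G] [Finite G] {x y : G} (hx : x * x = 1) (hy : y * y = 1)
    (h : ∃ k, orderOf (x * y) = 2 ^ k) : IsPGroup 2 (closure ({x, y} : Set G)) := by
  obtain ⟨k, hk⟩ := h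
  rintro ⟨d, hd⟩
  rcases mem_closure_invols hx hy hd with h | ⟨e, he, rfl⟩
  · refine ⟨k, Subtype.ext ?_⟩
    obtain ⟨i, rfl⟩ := h
    change ((x * y) ^ i) ^ (2 ^ k) = 1
    rw [← zpow_natCast, ← zpow_mul, mul_comm, zpow_mul, zpow_natCast, ← hk, pow_orderOf_eq_one, one_zpow]
  · refine ⟨1, Subtype.ext ?_⟩
    change (x * e) ^ (2 ^ 1) = 1
    rw [pow_one, pow_two]
    exact mul_self_of_inverts (c := x * y) hx (conj_mul_eq_inv hx hy) he

theorem sylow_two_normal_aux : ∀ (n : ℕ) (G : Type u) [Group G] [Finite G], Nat.card G = n →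
    (∀ x : G, (orderOf x).Coprime 2 → ∀ t : G, (∃ k, orderOf t = 2 ^ k) → t ∈ normalizer (zpowers x : Set G) → x * t = t * x) →
    ∀ P : Sylow 2 G, (P : Subgroup G).Normal := by
  intro n
  induction n using Nat.strong_induction_on with
  | _ n ih =>
  intro G _ _ hn h P
  haveI : Fact (Nat.Prime 2) := ⟨Nat.prime_two⟩
  by_cases hPb : (P : Subgroup G) = ⊥
  · rw [hPb]; infer_instance
  obtain ⟨t, ht2⟩ : ∃ t : G, orderOf t = 2 := by
    apply exists_prime_orderOf_dvd_card' 2
    by_contra hd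
    apply hPb
    have h1 := P.card_eq_multiplicity
    rw [Nat.factorization_eq_zero_of_not_dvd hd, pow_zero] at h1
    exact Subgroup.eq_bot_of_card_eq _ h1
  have htt : t * t = 1 := mul_self_of_orderOf_two ht2
  obtain ⟨N, hNn, hNp, htN⟩ := baer_suzuki_elt (p := 2) t (by
    intro g
    have hgg : (g * t * g⁻¹) * (g * t * g⁻¹) = 1 := by
      have : (g * t * g⁻¹) * (g * t * g⁻¹) = g * (t * t) * g⁻¹ := by group
      rw [this, htt]; group
    apply isPGroup_closure_pair htt hgg
    set w := t * (g * t * g⁻¹) with hw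
    obtain ⟨a, b, hab, hcm, ha, hb, haz, -⟩ := exists_pPart' 2 w
    have hinv := conj_of_mem_zpowers (conj_mul_eq_inv htt hgg) haz
    have h1 : t ∈ normalizer (zpowers a : Set G) := by
      rw [mem_normalizer_iff]
      intro z
      constructor
      · rintro ⟨i, rfl⟩
        refine ⟨-i, ?_⟩
        change a ^ (-i) = t * a ^ i * t⁻¹
        rw [← conj_zpow, hinv, inv_zpow, zpow_neg]
      · rintro ⟨i, hi⟩
        refine ⟨-i, ?_⟩
        change a ^ i = t * z * t⁻¹ at hi
        change a ^ (-i) = z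
        have e : z = t⁻¹ * (a ^ i) * t := by rw [hi]; group
        have e2 : t⁻¹ = t := inv_of_orderOf_two ht2
        rw [e, e2]
        have e3 : t * a ^ i * t = t * a ^ i * t⁻¹ := by rw [e2]
        rw [e3, ← conj_zpow, hinv, inv_zpow, zpow_neg]
    have h2 := h a ha t ⟨1, by rw [ht2]; rfl⟩ h1
    have h3 : a = a⁻¹ := by
      rw [← hinv, ← h2, mul_inv_cancel_right]
    have h4 : a ^ 2 = 1 := by rw [pow_two]; nth_rewrite 2 [h3]; exact mul_inv_cancel a
    have h5 : a = 1 := by
      rw [← orderOf_eq_one_iff]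
      exact Nat.eq_one_of_dvd_coprimes ha dvd_rfl (orderOf_dvd_of_pow_eq_one h4)
    rw [hab, h5, one_mul]
    exact hb)
  haveI := hNn
  have hNb : N ≠ ⊥ := by
    intro e
    rw [e, mem_bot] at htN
    rw [htN, orderOf_one] at ht2
    omega
  have hNs : Group.IsSolvable N := CfsgH1.isSolvable_of_isPGroup hNp
  have hNP : N ≤ (P : Subgroup G) := hNp.le_sylow_of_normal P
  set π := QuotientGroup.mk' N with hπ
  have hsur : Function.Surjective π := QuotientGroup.mk'_surjective N
  have h1 := ih (Nat.card (G ⧸ N)) (hn ▸ CfsgH1.card_quotient_lt hNb) (G ⧸ N) rfl (by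
    intro xb hxb tb htb htbn
    obtain ⟨x0, rfl⟩ := hsur xb
    obtain ⟨x, hx, hxx, hxo⟩ := exists_pRegular_lift 2 π x0 hxb
    obtain ⟨t0, rfl⟩ := hsur tb
    obtain ⟨k, hk⟩ := htb
    obtain ⟨t, htt0, htx, hto⟩ := exists_pElement_lift 2 π t0 hk
    rw [← hxx, ← htx] at htbn ⊢
    -- `t` normalizes `N ⊔ ⟨x⟩`
    have h2 : MulAut.conj t • (N ⊔ zpowers x) = N ⊔ zpowers x := by
      rw [CfsgH1.conj_smul_eq_self_iff]
      have h3 : N ⊔ zpowers x = (zpowers (π x)).comap π := by
        rw [← MonoidHom.map_zpowers, Subgroup.comap_map_eq, QuotientGroup.ker_mk', sup_comm]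
      rw [h3, mem_normalizer_iff]
      intro y
      rw [mem_comap, mem_comap, map_mul, map_mul, map_inv]
      exact mem_normalizer_iff.1 htbn (π y)
    have h3 : N ⊔ (MulAut.conj t • zpowers x) = N ⊔ zpowers x := by
      rw [CfsgH1.conj_smul_sup, CfsgH1.conj_smul_of_normal] at h2
      exact h2
    have hcop : (Nat.card N).Coprime (Nat.card (MulAut.conj t • zpowers x : Subgroup G)) := by
      obtain ⟨j, hj⟩ := IsPGroup.iff_card.1 hNp
      rw [hj, CfsgH1.card_conj_smul, Nat.card_zpowers]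
      exact (hxo.symm.pow_left j)
    obtain ⟨m, hm, hmx⟩ := CfsgH1.sz_conj_internal (N := N) (H := MulAut.conj t • zpowers x) (K := zpowers x)
      (CfsgH1.le_normalizer_of_normal _ _) (CfsgH1.le_normalizer_of_normal _ _) hcop (Or.inl hNs) h3 (by
        apply CfsgH1.inf_eq_bot_of_coprime
        rwa [CfsgH1.card_conj_smul] at hcop)
    rw [← mul_smul, ← map_mul, CfsgH1.conj_smul_eq_self_iff] at hmx
    have hmt : ∃ k, orderOf (m * t) = 2 ^ k := by
      have h5 : IsPGroup 2 (N ⊔ zpowers t : Subgroup G) := by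
        apply IsPGroup.to_sup_of_normal_left hNp
        obtain ⟨j, hj⟩ := hto
        exact IsPGroup.of_card (n := j) (by rw [Nat.card_zpowers, hj])
      have h6 : m * t ∈ N ⊔ zpowers t := Subgroup.mul_mem _ (le_sup_left (b := zpowers t) hm) (le_sup_right (a := N) (mem_zpowers t))
      obtain ⟨k, hk⟩ := (IsPGroup.iff_orderOf.1 h5) ⟨m * t, h6⟩
      exact ⟨k, by rw [← hk, Subgroup.orderOf_mk]⟩
    have h6 := h x hxo (m * t) hmt hmx
    have h7 : π m = 1 := (QuotientGroup.eq_one_iff m).2 hm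
    have h8 := congrArg π h6
    rw [map_mul, map_mul π m t, map_mul, map_mul π m t, h7, one_mul] at h8
    exact h8) (P.mapSurjective hsur)
  have h2 : (P : Subgroup G) = ((P.mapSurjective hsur : Sylow 2 (G ⧸ N)) : Subgroup (G ⧸ N)).comap π := by
    rw [Sylow.coe_mapSurjective, Subgroup.comap_map_eq, QuotientGroup.ker_mk', sup_eq_left.2 hNP]
  rw [h2]
  exact h1.comap π

end CfsgH2
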