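import Mathlib
import Cfsg.Agent.H2.FrobDiv

/-! # Counting classes of `π`-elements by commuting pairs (helper2 library) -/

set_option autoImplicit false

namespace CfsgH2

open Subgroup

universe u v

theorem exists_pi_split (M : ℕ) (hM : M ≠ 0) (π : Set ℕ) : ∃ A B : ℕ, M = A * B ∧ A.Coprime B ∧
    (∀ q : ℕ, q.Prime → q ∣ A → q ∈ π) ∧ (∀ q : ℕ, q.Prime → q ∣ B → q ∉ π) := by
  classical
  refine ⟨∏ q ∈ M.primeFactors.filter (· ∈ π), q ^ M.factorization q, ∏ q ∈ M.primeFactors.filter (· ∉ π), q ^ M.factorization q, ?_, ?_, ?_, ?_⟩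
  · rw [Finset.prod_filter_mul_prod_filter_not]
    conv_lhs => rw [← Nat.factorization_prod_pow_eq_self hM]
    rfl
  · apply Nat.Coprime.prod_left
    intro q hq
    apply Nat.Coprime.prod_right
    intro r hr
    apply Nat.Coprime.pow
    rw [Finset.mem_filter] at hq hr
    rw [Nat.coprime_primes (Nat.prime_of_mem_primeFactors hq.1) (Nat.prime_of_mem_primeFactors hr.1)]
    rintro rfl
    exact hr.2 hq.2
  · intro q hq hqd
    obtain ⟨r, hr, hrd⟩ := (hq.prime.dvd_finset_prod_iff _).1 hqd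
    rw [Finset.mem_filter] at hr
    have h1 := (Nat.prime_dvd_prime_iff_eq hq (Nat.prime_of_mem_primeFactors hr.1)).1 (hq.dvd_of_dvd_pow hrd)
    rw [h1]; exact hr.2
  · intro q hq hqd
    obtain ⟨r, hr, hrd⟩ := (hq.prime.dvd_finset_prod_iff _).1 hqd
    rw [Finset.mem_filter] at hr
    have h1 := (Nat.prime_dvd_prime_iff_eq hq (Nat.prime_of_mem_primeFactors hr.1)).1 (hq.dvd_of_dvd_pow hrd)
    rw [h1]; exact hr.2

theorem exists_pi_exp (M : ℕ) (hM : M ≠ 0) (π : Set ℕ) : ∃ e f : ℕ,
    (∀ {X : Type u} [Group X] (g : X), g ^ M = 1 → (∀ q : ℕ, q.Prime → q ∣ orderOf g → q ∈ π) → g ^ e = g ∧ g ^ f = 1) ∧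
    (∀ {X : Type u} [Group X] (g : X), g ^ M = 1 → g ^ e = g → ∀ q : ℕ, q.Prime → q ∣ orderOf g → q ∈ π) ∧
    (∀ {X : Type u} [Group X] (g : X), g ^ M = 1 → g ^ e * g ^ f = g ∧ g ^ (e * e) = g ^ e ∧ g ^ (e * f) = 1 ∧ g ^ (f * f) = g ^ f) := by
  obtain ⟨A, B, hAB, hcop, hA, hB⟩ := exists_pi_split M hM π
  obtain ⟨e, he1, he2⟩ := Nat.chineseRemainder hcop 1 0
  obtain ⟨f, hf1, hf2⟩ := Nat.chineseRemainder hcop 0 1
  have hB0 : B ≠ 0 := by rintro rfl; rw [mul_zero] at hAB; exact hM hAB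
  have hA0 : A ≠ 0 := by rintro rfl; rw [zero_mul] at hAB; exact hM hAB
  have key : ∀ a b : ℕ, a ≡ b [MOD A] → a ≡ b [MOD B] → a ≡ b [MOD M] := by
    intro a b h1 h2
    rw [hAB]
    exact (Nat.modEq_and_modEq_iff_modEq_mul hcop).1 ⟨h1, h2⟩
  refine ⟨e, f, ?_, ?_, ?_⟩
  · intro X _ g hg hgπ
    have h1 : orderOf g ∣ A := by
      have h2 : orderOf g ∣ A * B := by rw [← hAB]; exact orderOf_dvd_of_pow_eq_one hg
      refine Nat.Coprime.dvd_of_dvd_mul_right ?_ h2
      rw [Nat.coprime_iff_gcd_eq_one]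
      by_contra hne
      obtain ⟨q, hq, hqd⟩ := Nat.exists_prime_and_dvd hne
      exact hB q hq (hqd.trans (Nat.gcd_dvd_right _ _)) (hgπ q hq (hqd.trans (Nat.gcd_dvd_left _ _)))
    have h3 : g ^ A = 1 := orderOf_dvd_iff_pow_eq_one.1 h1
    refine ⟨?_, ?_⟩
    · conv_rhs => rw [← pow_one g]
      exact pow_eq_of_modEq h3 he1
    · rw [pow_eq_of_modEq h3 hf1, pow_zero]
  · intro X _ g hg hge q hq hqd
    have h2 : orderOf g ∣ A * B := by rw [← hAB]; exact orderOf_dvd_of_pow_eq_one hg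
    rcases hq.dvd_mul.1 (hqd.trans h2) with h3 | h3
    · exact hA q hq h3
    · exfalso
      have h4 : g ^ e = g ^ 1 := by rw [pow_one]; exact hge
      have h5 := (pow_eq_pow_iff_modEq.1 h4).of_dvd hqd
      have h6 := he2.of_dvd h3
      have h7 : q ∣ 1 := (Nat.modEq_zero_iff_dvd).1 (h5.symm.trans h6)
      exact hq.one_lt.ne' (Nat.dvd_one.1 h7)
  · intro X _ g hg
    refine ⟨?_, ?_, ?_, ?_⟩
    · rw [← pow_add]
      conv_rhs => rw [← pow_one g]
      exact pow_eq_of_modEq hg (key _ _ (by simpa using he1.add hf1) (by simpa using he2.add hf2))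
    · exact pow_eq_of_modEq hg (key _ _ (by simpa using (he1.mul he1).trans he1.symm) (by simpa using (he2.mul he2).trans he2.symm))
    · rw [pow_eq_of_modEq hg (key (e * f) 0 (by simpa using he1.mul hf1) (by simpa using he2.mul hf2)), pow_zero]
    · exact pow_eq_of_modEq hg (key _ _ (by simpa using (hf1.mul hf1).trans hf1.symm) (by simpa using (hf2.mul hf2).trans hf2.symm))

/-- commuting pairs with first component in an invariant set -/
theorem card_comm_pairs {X : Type u} [Group X] [Finite X] (Q : X → Prop) (hQ : ∀ g y : X, Q y → Q (g * y * g⁻¹)) :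
    Nat.card {p : X × X // Q p.1 ∧ p.1 * p.2 = p.2 * p.1} =
      Nat.card X * Nat.card {C : ConjClasses X // ∀ y : X, ConjClasses.mk y = C → Q y} := by
  classical
  letI : Fintype X := Fintype.ofFinite X
  letI : Fintype (ConjClasses X) := Fintype.ofFinite _
  have h1 : Nat.card {p : X × X // Q p.1 ∧ p.1 * p.2 = p.2 * p.1} =
      ∑ y : X, if Q y then Nat.card (centralizer ({y} : Set X)) else 0 := by
    have e1 : {p : X × X // Q p.1 ∧ p.1 * p.2 = p.2 * p.1} ≃ Σ y : X, {g : X // Q y ∧ y * g = g * y} :=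
      ⟨fun p => ⟨p.1.1, p.1.2, p.2⟩, fun p => ⟨(p.1, p.2.1), p.2.2⟩, fun p => rfl, fun p => rfl⟩
    rw [Nat.card_congr e1, Nat.card_sigma]
    apply Finset.sum_congr rfl
    intro y _
    by_cases h : Q y
    · rw [if_pos h]
      refine Nat.card_congr ⟨fun g => ⟨g.1, mem_centralizer_singleton_iff'.2 g.2.2⟩,
        fun g => ⟨g.1, h, mem_centralizer_singleton_iff'.1 g.2⟩, fun g => rfl, fun g => rfl⟩
    · rw [if_neg h, Nat.card_eq_zero]
      left
      exact ⟨fun g => h g.2.1⟩
  rw [h1, ← Finset.sum_fiberwise (s := Finset.univ) (g := (ConjClasses.mk : X → ConjClasses X))]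
  have h2 : ∀ c : ConjClasses X, ∑ v ∈ Finset.univ.filter (fun v : X => ConjClasses.mk v = c),
      (if Q v then Nat.card (centralizer ({v} : Set X)) else 0) =
      if (∀ y : X, ConjClasses.mk y = c → Q y) then Nat.card X else 0 := by
    intro c
    obtain ⟨u, rfl⟩ := ConjClasses.exists_rep c
    have hcard : ∀ v : X, ConjClasses.mk v = ConjClasses.mk u → Nat.card (centralizer ({v} : Set X)) = Nat.card (centralizer ({u} : Set X)) := by
      intro v hv
      rw [ConjClasses.mk_eq_mk_iff_isConj] at hv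
      obtain ⟨g, rfl⟩ := isConj_iff.1 hv.symm
      have h3 := csz_conj g u
      have h4 := (centralizer ({g * u * g⁻¹} : Set X)).card_mul_index
      have h5 := (centralizer ({u} : Set X)).card_mul_index
      rw [← h5] at h4
      have h6 : (centralizer ({g * u * g⁻¹} : Set X)).index = (centralizer ({u} : Set X)).index := h3
      rw [h6] at h4
      exact Nat.eq_of_mul_eq_mul_right (Nat.pos_of_ne_zero (csz_ne_zero u)) h4
    have hQu : ∀ v : X, ConjClasses.mk v = ConjClasses.mk u → (Q v ↔ Q u) := by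
      intro v hv
      rw [ConjClasses.mk_eq_mk_iff_isConj] at hv
      obtain ⟨g, rfl⟩ := isConj_iff.1 hv.symm
      constructor
      · intro h
        have := hQ g⁻¹ _ h
        have e : g⁻¹ * (g * u * g⁻¹) * g⁻¹⁻¹ = u := by group
        rwa [e] at this
      · exact hQ g u
    by_cases hQu' : Q u
    · rw [if_pos (fun y hy => (hQu y hy).2 hQu')]
      rw [Finset.sum_congr rfl (g := fun _ => Nat.card (centralizer ({u} : Set X)))]
      · rw [Finset.sum_const, smul_eq_mul, ← (centralizer ({u} : Set X)).card_mul_index, mul_comm]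
        congr 1
        have h7 := csz_eq_card u
        show _ = csz u
        rw [h7, Nat.card_eq_fintype_card, Fintype.card_subtype]
        congr 1
        ext v
        simp only [Finset.mem_filter, Finset.mem_univ, true_and]
        rw [ConjClasses.mk_eq_mk_iff_isConj]
        exact ⟨fun h => h.symm, fun h => h.symm⟩
      · intro v hv
        have hv' := (Finset.mem_filter.1 hv).2
        rw [if_pos ((hQu v hv').2 hQu'), hcard v hv']
    · rw [if_neg (fun h => hQu' (h u rfl))]
      apply Finset.sum_eq_zero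
      intro v hv
      have hv' := (Finset.mem_filter.1 hv).2
      rw [if_neg (fun h => hQu' ((hQu v hv').1 h))]
  rw [Finset.sum_congr rfl (fun c _ => h2 c), ← Finset.sum_filter, Finset.sum_const, smul_eq_mul, mul_comm]
  congr 1
  rw [Nat.card_eq_fintype_card, Fintype.card_subtype]

end CfsgH2
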