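import Cfsg.Agent.H2.TransvCent
import Cfsg.Agent.H9.IwaSL

/-! Standard subgroups of special linear groups. -/

set_option autoImplicit false

namespace CfsgH2

open Subgroup Cfsg Matrix
open scoped commutatorElement

theorem quasisimple_SL {F : Type*} [Field F] {ι : Type*} [Fintype ι] [DecidableEq ι] [Nontrivial ι]
    (h3 : ∀ i j : ι, i ≠ j → ∃ k, i ≠ k ∧ k ≠ j) : IsQuasisimple (SpecialLinearGroup ι F) :=
  ⟨⟨CfsgH9.IwaSL.SL_perfect h3⟩, CfsgH9.IwaSL.PSL_simple h3⟩

variable {F : Type*} [Field F] {n : ℕ} {l : Fin n}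

/-- the middle block has the same determinant -/
theorem det_mid (M : Matrix (Fin n) (Fin n) F) (hll : M l l = 1) (h2 : ∀ j, j ≠ l → M l j = 0) : 
    (M.submatrix Subtype.val Subtype.val : Matrix {i : Fin n // i ≠ l} {i : Fin n // i ≠ l} F).det = M.det := by
  rw [twoBlockTriangular_det M (fun i => i ≠ l) (by
    intro i hi j hj
    rw [not_not] at hi
    rw [hi]; exact h2 j hj)]
  haveI : Unique {i : Fin n // ¬ (i ≠ l)} := 
    ⟨⟨⟨l, not_not.mpr rfl⟩⟩, fun x => Subtype.ext (not_not.mp x.2)⟩
  have h3 : (toSquareBlockProp M fun i => ¬ (i ≠ l)).det = 1 := by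
    rw [det_unique, toSquareBlockProp_def, of_apply]
    have h4 : ((default : {i : Fin n // ¬ (i ≠ l)}) : Fin n) = l := 
      not_not.mp (default : {i : Fin n // ¬ (i ≠ l)}).2
    rw [h4]; exact hll
  rw [h3, mul_one]
  rfl

/-- block diagonal elements -/
def IsBD (l : Fin n) (g : SpecialLinearGroup (Fin n) F) : Prop := 
  ∀ i, i ≠ l → g.1 i l = 0 ∧ g.1 l i = 0

section

variable {C : Subgroup (SpecialLinearGroup (Fin n) F)} (hC : ∀ g ∈ C, IsBD l g)

/-- the (l,l) entry -/
def ent (hC : ∀ g ∈ C, IsBD l g) : C →* F where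
  toFun g := g.1.1 l l
  map_one' := by
    change (1 : Matrix (Fin n) (Fin n) F) l l = 1
    exact one_apply_eq l
  map_mul' := by
    intro g h
    change (g.1.1 * h.1.1) l l = _
    rw [mul_apply, Finset.sum_eq_single l]
    · intro k _ hk
      rw [(hC g g.2 k hk).2, zero_mul]
    · intro h; exact absurd (Finset.mem_univ l) h

theorem mem_ent_ker {g : C} : g ∈ (ent hC).ker ↔ g.1.1 l l = 1 := Iff.rfl

/-- restriction to the middle block -/
def resHom (hC : ∀ g ∈ C, IsBD l g) : (ent hC).ker →* SpecialLinearGroup {i : Fin n // i ≠ l} F where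
  toFun g := ⟨g.1.1.1.submatrix Subtype.val Subtype.val, by
    rw [det_mid g.1.1.1 ((mem_ent_ker hC).mp g.2) (fun j hj => (hC g.1.1 g.1.2 j hj).2)]
    exact g.1.1.2⟩
  map_one' := by
    apply Subtype.ext
    ext a b
    change (1 : Matrix (Fin n) (Fin n) F) a b = (1 : Matrix {i : Fin n // i ≠ l} {i : Fin n // i ≠ l} F) a b
    rw [one_apply, one_apply]
    simp only [Subtype.ext_iff]
  map_mul' := by
    intro g h
    apply Subtype.ext
    ext a b
    change (g.1.1.1 * h.1.1.1) a b = ((g.1.1.1.submatrix Subtype.val Subtype.val : 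
      Matrix {i : Fin n // i ≠ l} {i : Fin n // i ≠ l} F) * (h.1.1.1.submatrix Subtype.val Subtype.val : 
      Matrix {i : Fin n // i ≠ l} {i : Fin n // i ≠ l} F) : Matrix {i : Fin n // i ≠ l} {i : Fin n // i ≠ l} F) a b
    rw [mul_apply, mul_apply]
    simp only [submatrix_apply]
    rw [← Finset.sum_subtype (Finset.univ.filter (fun k : Fin n => k ≠ l)) (by simp) 
      (fun c => g.1.1.1 a c * h.1.1.1 c b)]
    symm
    apply Finset.sum_subset (Finset.filter_subset _ _)
    intro c _ hc
    rw [Finset.mem_filter, not_and, not_not] at hc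
    rw [hc (Finset.mem_univ c), (hC g.1.1 g.1.2 a a.2).1, zero_mul]

theorem resHom_bijective (hC' : ∀ g, IsBD l g → g.1 l l = 1 → g ∈ C) : Function.Bijective (resHom hC) := by
  constructor
  · intro g h hgh
    have h1 : ∀ a b : {i : Fin n // i ≠ l}, g.1.1.1 a b = h.1.1.1 a b := by
      intro a b
      have := congrArg Subtype.val hgh
      exact congrFun (congrFun this a) b
    apply Subtype.ext
    apply Subtype.ext
    apply Subtype.ext
    ext a b
    by_cases ha : a = l
    · by_cases hb : b = l
      · rw [ha, hb, (mem_ent_ker hC).mp g.2, (mem_ent_ker hC).mp h.2]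
      · rw [ha, (hC g.1.1 g.1.2 b hb).2, (hC h.1.1 h.1.2 b hb).2]
    · by_cases hb : b = l
      · rw [hb, (hC g.1.1 g.1.2 a ha).1, (hC h.1.1 h.1.2 a ha).1]
      · exact h1 ⟨a, ha⟩ ⟨b, hb⟩
  · intro A
    obtain ⟨B, hB⟩ : ∃ B : Matrix (Fin n) (Fin n) F, B = of (fun i j => if hi : i ≠ l then 
      (if hj : j ≠ l then A.1 ⟨i, hi⟩ ⟨j, hj⟩ else 0) else (if j = l then 1 else 0)) := ⟨_, rfl⟩
    have hBll : B l l = 1 := by rw [hB]; simp
    have hBl : ∀ i, i ≠ l → B i l = 0 ∧ B l i = 0 := by
      intro i hi
      rw [hB]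
      simp [hi]
    have hsub : (B.submatrix Subtype.val Subtype.val : Matrix {i : Fin n // i ≠ l} {i : Fin n // i ≠ l} F) = A.1 := by
      ext a b
      rw [submatrix_apply, hB]
      have ha := a.2
      have hb := b.2
      simp [ha, hb]
    have hdet : B.det = 1 := by
      rw [← det_mid B hBll (fun j hj => (hBl j hj).2), hsub]
      exact A.2
    refine ⟨⟨⟨⟨B, hdet⟩, hC' ⟨B, hdet⟩ hBl hBll⟩, hBll⟩, ?_⟩
    apply Subtype.ext
    exact hsub

end

/-- the transvection `1 + E_ij` -/
def trv {i j : Fin n} (hij : i ≠ j) : SpecialLinearGroup (Fin n) F := 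
  ⟨transvection i j 1, det_transvection_of_ne i j hij 1⟩

theorem transv_mem {i j : Fin n} (hij : i ≠ j) (hi : i ≠ l) (hj : j ≠ l) : 
    IsBD (F := F) l (trv hij) ∧ 
      (transvection i j (1 : F)) l l = 1 := by
  constructor
  · intro a ha
    change (transvection i j (1 : F)) a l = 0 ∧ (transvection i j (1 : F)) l a = 0
    constructor
    · rw [transvection, Matrix.add_apply, one_apply_ne ha, single_apply_of_col_ne _ _ hj, add_zero]
    · rw [transvection, Matrix.add_apply, one_apply_ne (Ne.symm ha), single_apply_of_row_ne hi, add_zero]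
  · rw [transvection, Matrix.add_apply, one_apply_eq, single_apply_of_row_ne hi, add_zero]

/-- the centralizer of the block -/
theorem cent_block (hn : 4 ≤ n) {g : SpecialLinearGroup (Fin n) F} 
    (h : ∀ i j : Fin n, ∀ hij : i ≠ j, i ≠ l → j ≠ l → 
      trv hij * g = g * trv hij) : 
    (∀ a b, a ≠ b → g.1 a b = 0) ∧ ∀ i j, i ≠ l → j ≠ l → g.1 i i = g.1 j j := by
  have key : ∀ i j : Fin n, i ≠ j → i ≠ l → j ≠ l → 
      (∀ a, a ≠ i → g.1 a i = 0) ∧ (∀ b, b ≠ j → g.1 j b = 0) ∧ g.1 i i = g.1 j j := by
    intro i j hij hi hj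
    have h1 : transvection i j (1 : F) * g.1 = g.1 * transvection i j (1 : F) := congrArg Subtype.val (h i j hij hi hj)
    have h2 : g.1 * Matrix.single i j (1 : F) = Matrix.single i j (1 : F) * g.1 := by
      rw [transvection, mul_add, add_mul, mul_one, one_mul, add_right_inj] at h1
      exact h1.symm
    refine ⟨fun a ha => ?_, fun b hb => ?_, ?_⟩
    · have h1 := congrFun (congrFun h2 a) j
      rw [mul_single_apply_same, single_mul_apply_of_ne _ _ _ _ _ ha, mul_one] at h1
      exact h1
    · have h1 := congrFun (congrFun h2 i) b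
      rw [mul_single_apply_of_ne _ _ _ _ _ hb, single_mul_apply_same, one_mul] at h1
      exact h1.symm
    · have h1 := congrFun (congrFun h2 i) j
      rw [mul_single_apply_same, single_mul_apply_same, one_mul, mul_one] at h1
      exact h1
  have hex : ∀ i : Fin n, ∃ j, j ≠ i ∧ j ≠ l := by
    intro i
    by_contra hc
    push Not at hc
    have h2 : (Finset.univ : Finset (Fin n)) ⊆ {i, l} := by
      intro k _
      rw [Finset.mem_insert, Finset.mem_singleton]
      by_cases hk : k = i
      · left; exact hk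
      · right; exact hc k hk
    have h3 := Finset.card_le_card h2
    rw [Finset.card_univ, Fintype.card_fin] at h3
    have h4 := Finset.card_le_two (a := i) (b := l)
    omega
  constructor
  · intro a b hab
    by_cases hb : b = l
    · have ha : a ≠ l := fun h => hab (h.trans hb.symm)
      obtain ⟨j, hj, hjl⟩ := hex a
      exact (key j a hj hjl ha).2.1 b (Ne.symm hab)
    · obtain ⟨j, hj, hjl⟩ := hex b
      exact (key b j (Ne.symm hj) hb hjl).1 a hab
  · intro i j hi hj
    by_cases hij : i = j
    · rw [hij]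
    · exact (key i j hij hi hj).2.2


theorem standard_SL [Fintype F] [DecidableEq F] (hF : Odd (Fintype.card F)) (hn : 4 ≤ n) (hodd : Odd n) 
    (t : SpecialLinearGroup (Fin n) F) (ht : t.1 = diagonal (fun i : Fin n => if i = l then (1 : F) else -1)) : 
    IsStandardSubgroup ((layer ↥(centralizer ({t} : Set (SpecialLinearGroup (Fin n) F)))).map 
      (centralizer ({t} : Set (SpecialLinearGroup (Fin n) F))).subtype) := by
  haveI : Finite (SpecialLinearGroup (Fin n) F) := inferInstance
  have h2 : (1 : F) + 1 ≠ 0 := by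
    intro h
    have h1 : (2 : ℕ) ∣ Fintype.card F := by
      have h3 : addOrderOf (1 : F) ∣ Fintype.card F := addOrderOf_dvd_card
      have h4 : addOrderOf (1 : F) = 2 := by
        apply addOrderOf_eq_prime
        · rw [two_nsmul]; exact h
        · exact one_ne_zero
      rwa [h4] at h3
    rw [← Nat.not_even_iff_odd] at hF
    exact hF (even_iff_two_dvd.mpr h1)
  have hne1 : (1 : F) ≠ -1 := fun h => h2 (by nth_rewrite 2 [h]; rw [add_neg_cancel])
  have hdne : ∀ i, i ≠ l → (if i = l then (1 : F) else -1) = -1 := fun i hi => if_neg hi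
  have hdl : (if l = l then (1 : F) else -1) = 1 := if_pos rfl
  have hx0 : ∀ x : F, x * 1 = -1 * x → x = 0 := by
    intro x hx
    have h3 : (1 + 1) * x = 0 := by
      rw [mul_one, neg_one_mul] at hx
      have : (1 + 1) * x = x + x := by ring
      rw [this]; nth_rewrite 1 [hx]; exact neg_add_cancel x
    rcases mul_eq_zero.mp h3 with h | h
    · exact absurd h h2
    · exact h
  obtain ⟨C, hCdef⟩ : ∃ C, C = centralizer ({t} : Set (SpecialLinearGroup (Fin n) F)) := ⟨_, rfl⟩
  have hC : ∀ g ∈ C, IsBD l g := by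
    intro g hg i hi
    rw [hCdef] at hg
    have h1 : t * g = g * t := mem_centralizer_singleton_iff'.mp hg
    have h3 : t.1 * g.1 = g.1 * t.1 := congrArg Subtype.val h1
    rw [ht] at h3
    constructor
    · have h4 := congrFun (congrFun h3 i) l
      rw [diagonal_mul, mul_diagonal, hdne i hi, hdl] at h4
      exact hx0 _ h4.symm
    · have h4 := congrFun (congrFun h3 l) i
      rw [diagonal_mul, mul_diagonal, hdne i hi, hdl] at h4
      apply hx0
      exact (mul_comm _ _).trans (h4.trans (mul_comm _ _))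
  have hC' : ∀ g, IsBD l g → g ∈ C := by
    intro g hg
    rw [hCdef, mem_centralizer_singleton_iff']
    apply Subtype.ext
    change t.1 * g.1 = g.1 * t.1
    rw [ht]
    ext i j
    rw [diagonal_mul, mul_diagonal]
    by_cases hi : i = l
    · by_cases hj : j = l
      · rw [hi, hj, mul_comm]
      · rw [hi, (hg j hj).2, mul_zero, zero_mul]
    · by_cases hj : j = l
      · rw [hj, (hg i hi).1, mul_zero, zero_mul]
      · rw [hdne i hi, hdne j hj, mul_comm]
  have htt : t * t = 1 := by
    apply Subtype.ext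
    change t.1 * t.1 = 1
    rw [ht, diagonal_mul_diagonal, ← diagonal_one]
    congr 1
    ext i
    by_cases hi : i = l
    · rw [if_pos hi, mul_one]
    · rw [if_neg hi]; ring
  obtain ⟨m0, hm0⟩ : ∃ m0 : Fin n, m0 ≠ l := by
    have : Nontrivial (Fin n) := Fin.nontrivial_iff_two_le.2 (by omega)
    exact exists_ne l
  have ht1 : t ≠ 1 := by
    intro h
    have h1 : t.1 m0 m0 = 1 := by
      rw [h]; exact one_apply_eq m0
    rw [ht, diagonal_apply_eq, hdne m0 hm0] at h1
    exact hne1 h1.symm
  have ht2 : orderOf t = 2 := orderOf_eq_prime (by rw [pow_two]; exact htt) ht1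
  -- E
  obtain ⟨E', hE'⟩ : ∃ E' : Subgroup C, E' = (ent hC).ker := ⟨_, rfl⟩
  have hE'n : E'.Normal := by rw [hE']; infer_instance
  have hE'q : IsQuasisimple E' := by
    rw [hE']
    have hcard : 3 ≤ Fintype.card {i : Fin n // i ≠ l} := by
      rw [Fintype.card_subtype_compl, Fintype.card_fin, Fintype.card_subtype_eq]; omega
    haveI : Nontrivial {i : Fin n // i ≠ l} := Fintype.one_lt_card_iff_nontrivial.mp (by omega)
    have h3 : IsQuasisimple (SpecialLinearGroup {i : Fin n // i ≠ l} F) := by
      apply quasisimple_SL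
      intro i j _
      by_contra hc
      push Not at hc
      have h2 : (Finset.univ : Finset {i : Fin n // i ≠ l}) ⊆ {i, j} := by
        intro k _
        rw [Finset.mem_insert, Finset.mem_singleton]
        by_cases hk : i = k
        · left; exact hk.symm
        · right; exact hc k hk
      have h3 := Finset.card_le_card h2
      rw [Finset.card_univ] at h3
      have h4 := Finset.card_le_two (a := i) (b := j)
      omega
    exact (isQuasisimple_congr (MulEquiv.ofBijective (resHom hC) 
      (resHom_bijective hC (fun g h1 _ => hC' g h1)))).mpr h3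
  have hmemE : ∀ g, g ∈ E'.map C.subtype ↔ IsBD l g ∧ g.1 l l = 1 := by
    intro g
    constructor
    · rintro ⟨x, hx, rfl⟩
      rw [hE'] at hx
      exact ⟨hC x x.2, hx⟩
    · rintro ⟨h1, h3⟩
      refine ⟨⟨g, hC' g h1⟩, ?_, rfl⟩
      rw [hE']; exact h3
  obtain ⟨E, hE⟩ : ∃ E : Subgroup (SpecialLinearGroup (Fin n) F), E = E'.map C.subtype := ⟨_, rfl⟩
  rw [← hE] at hmemE
  have hEC : E ≤ C := by rw [hE]; exact map_subtype_le _
  have htrv : ∀ i j : Fin n, ∀ hij : i ≠ j, i ≠ l → j ≠ l → trv hij ∈ E := by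
    intro i j hij hi hj
    rw [hmemE]
    exact transv_mem hij hi hj
  -- centralizer of E
  have hK : ∀ g ∈ centralizer (E : Set (SpecialLinearGroup (Fin n) F)), 
      (∀ a b, a ≠ b → g.1 a b = 0) ∧ ∀ i j, i ≠ l → j ≠ l → g.1 i i = g.1 j j := by
    intro g hg
    apply cent_block hn
    intro i j hij hi hj
    exact mem_centralizer_iff.mp hg _ (htrv i j hij hi hj)
  have hdiag : ∀ g : SpecialLinearGroup (Fin n) F, (∀ a b, a ≠ b → g.1 a b = 0) → g.1 = diagonal (fun i => g.1 i i) := by
    intro g hg
    ext a b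
    by_cases hab : a = b
    · rw [hab, diagonal_apply_eq]
    · rw [diagonal_apply_ne _ hab, hg a b hab]
  have hKcomm : ∀ g ∈ centralizer (E : Set (SpecialLinearGroup (Fin n) F)), 
      ∀ h ∈ centralizer (E : Set (SpecialLinearGroup (Fin n) F)), g * h = h * g := by
    intro g hg h hh
    apply Subtype.ext
    change g.1 * h.1 = h.1 * g.1
    rw [hdiag g (hK g hg).1, hdiag h (hK h hh).1, diagonal_mul_diagonal, diagonal_mul_diagonal]
    congr 1
    ext i
    exact mul_comm _ _
  have htK : t ∈ centralizer (E : Set (SpecialLinearGroup (Fin n) F)) := by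
    refine mem_centralizer_iff.mpr ?_
    intro e he
    have := hEC he
    rw [hCdef] at this
    exact (mem_centralizer_singleton_iff'.mp this).symm
  have hinv : ∀ u ∈ centralizer (E : Set (SpecialLinearGroup (Fin n) F)), orderOf u = 2 → u = t := by
    intro u hu hu2
    have hu1 : u ≠ 1 := by rintro rfl; rw [orderOf_one] at hu2; omega
    have huu : u.1 * u.1 = 1 := by
      have : u ^ 2 = 1 := by rw [← hu2]; exact pow_orderOf_eq_one u
      rw [pow_two] at this
      exact congrArg Subtype.val this
    obtain ⟨hk1, hk2⟩ := hK u hu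
    have hud := hdiag u hk1
    have hsq : ∀ i, u.1 i i * u.1 i i = 1 := by
      intro i
      rw [hud, diagonal_mul_diagonal] at huu
      have := congrFun (congrFun huu i) i
      rw [diagonal_apply_eq, one_apply_eq] at this
      exact this
    have hprod : (∏ i, u.1 i i) = 1 := by
      have h1 := u.2
      rw [hud, det_diagonal] at h1
      exact h1
    have hprod2 : u.1 l l * ∏ i ∈ Finset.univ.erase l, u.1 i i = 1 := by
      exact (Finset.mul_prod_erase Finset.univ (fun i => u.1 i i) (Finset.mem_univ l)).trans hprod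
    have hprod3 : ∏ i ∈ Finset.univ.erase l, u.1 i i = (u.1 m0 m0) ^ (n - 1) := by
      rw [Finset.prod_congr rfl (fun i hi => hk2 i m0 (Finset.mem_erase.mp hi).1 hm0), Finset.prod_const,
        Finset.card_erase_of_mem (Finset.mem_univ l), Finset.card_univ, Fintype.card_fin]
    have heven : Even (n - 1) := Nat.Odd.sub_odd hodd odd_one
    have hpow : (u.1 m0 m0) ^ (n - 1) = 1 := by
      obtain ⟨r, hr⟩ := heven
      rw [hr, ← two_mul, pow_mul, pow_two, hsq m0, one_pow]
    rw [hprod3, hpow, mul_one] at hprod2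
    have hlam : u.1 m0 m0 = -1 := by
      rcases mul_self_eq_one_iff.mp (hsq m0) with h | h
      · exfalso
        apply hu1
        apply Subtype.ext
        rw [hud]
        change _ = (1 : Matrix (Fin n) (Fin n) F)
        rw [← diagonal_one]
        congr 1
        ext i
        by_cases hi : i = l
        · rw [hi]; exact hprod2
        · rw [hk2 i m0 hi hm0, h]
      · exact h
    apply Subtype.ext
    rw [ht, hud]
    congr 1
    ext i
    by_cases hi : i = l
    · rw [if_pos hi, hi]; exact hprod2
    · rw [if_neg hi, hk2 i m0 hi hm0]; exact hlam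
  have hCN : C ≤ normalizer (E : Set (SpecialLinearGroup (Fin n) F)) := by
    rw [hE]; exact le_normalizer_map_of_normal _ hE'n
  have hEq : IsQuasisimple E := by rw [hE]; exact isQuasisimple_map_subtype.mpr hE'q
  have hNK : normalizer (E : Set (SpecialLinearGroup (Fin n) F)) ≤ 
      normalizer ((centralizer (E : Set (SpecialLinearGroup (Fin n) F)) : Subgroup _) : Set (SpecialLinearGroup (Fin n) F)) := 
    normalizer_le_normalizer_centralizer _
  have hcj : ∀ g, g * t * g⁻¹ ∈ centralizer (E : Set (SpecialLinearGroup (Fin n) F)) → g ∈ C := by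
    intro g hg
    have h1 : orderOf (g * t * g⁻¹) = 2 := by
      rw [← ht2]
      exact orderOf_injective (MulAut.conj g).toMonoidHom (MulAut.conj g).injective t
    have h3 := hinv _ hg h1
    rw [hCdef, mem_centralizer_singleton_iff']
    exact (mul_inv_eq_iff_eq_mul.mp h3).symm
  -- the layer
  have hlayer : layer C = E' := by
    have hcomp : IsComponent E' := ⟨Subgroup.Normal.isSubnormal hE'n, hE'q⟩
    apply le_antisymm
    · refine sSup_le fun K hKc => ?_
      by_cases hKE : K = E'
      · rw [hKE]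
      · exfalso
        have h1 := commutator_eq_bot_iff_le_centralizer.mp (IsComponent.commutator_eq_bot_of_ne hKc hcomp hKE)
        apply IsQuasisimple.not_isMulCommutative hKc.2
        refine ⟨⟨?_⟩⟩
        rintro ⟨a, ha⟩ ⟨b, hb⟩
        have hcen : ∀ x ∈ K, (x : SpecialLinearGroup (Fin n) F) ∈ centralizer (E : Set (SpecialLinearGroup (Fin n) F)) := by
          intro x hx
          refine mem_centralizer_iff.mpr ?_
          rw [hE]
          rintro _ ⟨e, he, rfl⟩
          exact congrArg Subtype.val (mem_centralizer_iff.mp (h1 hx) e he)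
        apply Subtype.ext
        apply Subtype.ext
        exact hKcomm _ (hcen a ha) _ (hcen b hb)
    · exact le_sSup hcomp
  have hgoal : (layer ↥(centralizer ({t} : Set (SpecialLinearGroup (Fin n) F)))).map 
      (centralizer ({t} : Set (SpecialLinearGroup (Fin n) F))).subtype = E := by
    subst hCdef
    rw [hlayer, hE]
  rw [hgoal]
  refine ⟨hEq, ⟨?_, ?_⟩, ?_, ?_⟩
  · rw [even_iff_two_dvd]
    have := orderOf_dvd_natCard (⟨t, htK⟩ : centralizer (E : Set (SpecialLinearGroup (Fin n) F)))
    rwa [← Subgroup.orderOf_coe, ht2] at this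
  · intro g hg
    by_contra hodd'
    rw [Nat.not_odd_iff_even] at hodd'
    obtain ⟨k, hk⟩ := exists_prime_orderOf_dvd_card' 2 (even_iff_two_dvd.mp hodd')
    have hk2 : orderOf (k : SpecialLinearGroup (Fin n) F) = 2 := by rw [Subgroup.orderOf_coe]; exact hk
    obtain ⟨hk1, k', hk', hkk⟩ := k.2
    have hk2' : orderOf k' = 2 := by
      rw [← hk2, ← hkk]
      exact (orderOf_injective (MulAut.conj g).toMonoidHom (MulAut.conj g).injective k').symm
    apply hg
    apply hNK
    apply hCN
    apply hcj
    have h3 : (k : SpecialLinearGroup (Fin n) F) = g * k' * g⁻¹ := by rw [← hkk]; rfl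
    rw [← hinv k' hk' hk2', ← h3]
    exact hk1
  · intro g _ hcomm
    have h1 : E.map (MulAut.conj g).toMonoidHom ≤ centralizer (E : Set (SpecialLinearGroup (Fin n) F)) := by
      rw [← commutator_eq_bot_iff_le_centralizer, commutator_comm]
      exact hcomm
    apply IsQuasisimple.not_isMulCommutative hEq
    refine ⟨⟨?_⟩⟩
    rintro ⟨a, ha⟩ ⟨b, hb⟩
    apply Subtype.ext
    have h3 := hKcomm _ (h1 ⟨a, ha, rfl⟩) _ (h1 ⟨b, hb, rfl⟩)
    apply (MulAut.conj g).injective
    change (MulAut.conj g) (a * b) = (MulAut.conj g) (b * a)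
    rw [map_mul, map_mul]
    exact h3
  · apply le_antisymm hNK
    intro g hg
    apply hCN
    apply hcj
    exact (mem_normalizer_iff.mp hg t).mp htK

end CfsgH2
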