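import Cfsg.Agent.H2.LocBal3

/-! Centralizers of transvections over the field of two elements. -/

set_option autoImplicit false

namespace CfsgH2

open Subgroup Cfsg

theorem genFitting_eq_pCore_of_centralizer_le {X : Type*} [Group X] [Finite X] {p : ℕ} [hp : Fact p.Prime] 
    (N : Subgroup X) [N.Normal] (hN : IsPGroup p N) (h : centralizer (N : Set X) ≤ N) : 
    generalizedFittingSubgroup X = pCore p X := by
  have h1 : N ≤ pCore p X := CfsgH2.le_pCore inferInstance hN
  have h2 : centralizer (pCore p X : Set X) ≤ pCore p X := 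
    (centralizer_le h1).trans (h.trans h1)
  have h3 : pPrimeCore p X = ⊥ := by
    have h4 : pPrimeCore p X ≤ centralizer (pCore p X : Set X) := by
      rw [← commutator_eq_bot_iff_le_centralizer]
      exact commutator_pPrimeCore_pCore
    exact eq_bot_of_isPGroup_of_coprime (p := p) ((isPGroup_pCore p).to_le (h4.trans h2)) (coprime_card_pPrimeCore p)
  apply le_antisymm
  · refine sup_le (sSup_le fun K hK => ?_) ?_
    · exfalso
      have hsolv : Group.IsSolvable (pCore p X) := by
        have := (isPGroup_pCore (G := X) p).isNilpotent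
        infer_instance
      have h4 := IsComponent.commutator_eq_bot_of_solvable_subnormal hK 
        (H := pCore p X) (Subgroup.Normal.isSubnormal inferInstance) hsolv
      have h5 := (commutator_eq_bot_iff_le_centralizer.mp h4).trans h2
      exact IsQuasisimple.not_isSolvable hK.2 
        (Group.isSolvable_of_isSolvable_injective (f := Subgroup.inclusion h5) (inclusion_injective h5))
    · rw [fittingSubgroup_eq_pCore_of_pPrimeCore_eq_bot h3]
  · rw [← fittingSubgroup_eq_pCore_of_pPrimeCore_eq_bot h3]
    exact le_sup_right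

section matrix

open Matrix

variable {F : Type*} [Field F] [Fintype F] [DecidableEq F] {n : ℕ} {i j : Fin n}

/-- commuting with `1 + E_ik` -/
theorem comm_transv_iff {k : Fin n} (M : Matrix (Fin n) (Fin n) F) : 
    M * transvection i k (1 : F) = transvection i k (1 : F) * M ↔ 
      M * Matrix.single i k (1 : F) = Matrix.single i k (1 : F) * M := by
  rw [transvection, mul_add, add_mul, mul_one, one_mul, add_right_inj]

theorem comm_single {k : Fin n} {M : Matrix (Fin n) (Fin n) F} 
    (h : M * Matrix.single i k (1 : F) = Matrix.single i k (1 : F) * M) : 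
    (∀ a, a ≠ i → M a i = 0) ∧ (∀ b, b ≠ k → M k b = 0) ∧ M i i = M k k := by
  refine ⟨fun a ha => ?_, fun b hb => ?_, ?_⟩
  · have h1 := congrFun (congrFun h a) k
    rw [mul_single_apply_same, single_mul_apply_of_ne _ _ _ _ _ ha, mul_one] at h1
    exact h1
  · have h1 := congrFun (congrFun h i) b
    rw [mul_single_apply_of_ne _ _ _ _ _ hb, single_mul_apply_same, one_mul] at h1
    exact h1.symm
  · have h1 := congrFun (congrFun h i) k
    rw [mul_single_apply_same, single_mul_apply_same, one_mul, mul_one] at h1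
    exact h1

theorem card_two_eq_one (hF : Fintype.card F = 2) {x : F} (hx : x ≠ 0) : x = 1 := by
  have h := FiniteField.pow_card_sub_one_eq_one x hx
  rw [hF] at h
  simpa using h

theorem char_two (hF : Fintype.card F = 2) : (1 : F) + 1 = 0 := by
  by_contra h
  have := card_two_eq_one hF h
  have h2 : (1 : F) = 0 := by
    have h3 : (1 : F) + 1 = 1 + 0 := by rw [this, add_zero]
    exact add_left_cancel h3
  exact one_ne_zero h2

theorem diag_ne_zero {M : SpecialLinearGroup (Fin n) F} (h : ∀ a, a ≠ i → (M : Matrix (Fin n) (Fin n) F) a i = 0) : 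
    (M : Matrix (Fin n) (Fin n) F) i i ≠ 0 := by
  intro h0
  have h1 : (M : Matrix (Fin n) (Fin n) F).det = 0 := by
    apply det_eq_zero_of_column_eq_zero i
    intro a
    by_cases ha : a = i
    · rw [ha]; exact h0
    · exact h a ha
  rw [M.det_coe] at h1
  exact one_ne_zero h1

/-- the action on the middle section -/
def midHom (C : Subgroup (SpecialLinearGroup (Fin n) F)) 
    (hC : ∀ g ∈ C, (∀ a, a ≠ i → (g : Matrix (Fin n) (Fin n) F) a i = 0) ∧ 
      (∀ b, b ≠ j → (g : Matrix (Fin n) (Fin n) F) j b = 0)) : 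
    C →* Matrix {k : Fin n // k ≠ i ∧ k ≠ j} {k : Fin n // k ≠ i ∧ k ≠ j} F where
  toFun g := (g : SpecialLinearGroup (Fin n) F).1.submatrix Subtype.val Subtype.val
  map_one' := by
    ext a b
    rw [submatrix_apply]
    change (1 : Matrix (Fin n) (Fin n) F) a b = _
    rw [one_apply, one_apply]
    simp only [Subtype.ext_iff]
  map_mul' := by
    intro g h
    ext a b
    rw [submatrix_apply, mul_apply]
    change ((g : SpecialLinearGroup (Fin n) F).1 * (h : SpecialLinearGroup (Fin n) F).1) a b = _
    rw [mul_apply]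
    simp only [submatrix_apply]
    rw [← Finset.sum_subtype (Finset.univ.filter (fun k : Fin n => k ≠ i ∧ k ≠ j)) (by simp) 
      (fun c => (g : SpecialLinearGroup (Fin n) F).1 a c * (h : SpecialLinearGroup (Fin n) F).1 c b)]
    symm
    apply Finset.sum_subset (Finset.filter_subset _ _)
    intro c _ hc
    rw [Finset.mem_filter, not_and, not_and_or, not_not, not_not] at hc
    rcases hc (Finset.mem_univ c) with rfl | rfl
    · have := (hC g g.2).1 a a.2.1
      have h2 : (g : SpecialLinearGroup (Fin n) F).1 a c = 0 := this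
      rw [h2, zero_mul]
    · have := (hC h h.2).2 b b.2.2
      have h2 : (h : SpecialLinearGroup (Fin n) F).1 c b = 0 := this
      rw [h2, mul_zero]

theorem main_transv (hF : Fintype.card F = 2) (hij : i ≠ j) (t : SpecialLinearGroup (Fin n) F) 
    (ht : (t : Matrix (Fin n) (Fin n) F) = transvection i j 1) : 
    generalizedFittingSubgroup ↥(centralizer ({t} : Set (SpecialLinearGroup (Fin n) F))) = 
      pCore 2 ↥(centralizer ({t} : Set (SpecialLinearGroup (Fin n) F))) := by
  haveI : Fact (Nat.Prime 2) := ⟨Nat.prime_two⟩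
  haveI : Finite (SpecialLinearGroup (Fin n) F) := inferInstance
  have hC0 : ∀ g ∈ centralizer ({t} : Set (SpecialLinearGroup (Fin n) F)), 
      (∀ a, a ≠ i → (g : Matrix (Fin n) (Fin n) F) a i = 0) ∧ 
      (∀ b, b ≠ j → (g : Matrix (Fin n) (Fin n) F) j b = 0) ∧ 
      (g : Matrix (Fin n) (Fin n) F) i i = (g : Matrix (Fin n) (Fin n) F) j j := by
    intro g hg
    have h1 : t * g = g * t := mem_centralizer_singleton_iff'.mp hg
    have h2 : (t : Matrix (Fin n) (Fin n) F) * (g : Matrix (Fin n) (Fin n) F) = 
        (g : Matrix (Fin n) (Fin n) F) * (t : Matrix (Fin n) (Fin n) F) := congrArg Subtype.val h1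
    rw [ht] at h2
    exact comm_single ((comm_transv_iff _).mp h2.symm)
  have hC : ∀ g ∈ centralizer ({t} : Set (SpecialLinearGroup (Fin n) F)), 
      (∀ a, a ≠ i → (g : Matrix (Fin n) (Fin n) F) a i = 0) ∧ 
      (∀ b, b ≠ j → (g : Matrix (Fin n) (Fin n) F) j b = 0) := fun g hg => ⟨(hC0 g hg).1, (hC0 g hg).2.1⟩
  have hii : ∀ g ∈ centralizer ({t} : Set (SpecialLinearGroup (Fin n) F)), (g : Matrix (Fin n) (Fin n) F) i i = 1 := 
    fun g hg => card_two_eq_one hF (diag_ne_zero (hC g hg).1)
  have hjj : ∀ g ∈ centralizer ({t} : Set (SpecialLinearGroup (Fin n) F)), (g : Matrix (Fin n) (Fin n) F) j j = 1 := 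
    fun g hg => by rw [← (hC0 g hg).2.2]; exact hii g hg
  have hker : ∀ g : centralizer ({t} : Set (SpecialLinearGroup (Fin n) F)), g ∈ (midHom _ hC).ker ↔ 
      ∀ a b, a ≠ i → a ≠ j → b ≠ i → b ≠ j → 
      ((g : SpecialLinearGroup (Fin n) F) : Matrix (Fin n) (Fin n) F) a b = (1 : Matrix (Fin n) (Fin n) F) a b := by
    intro g
    rw [MonoidHom.mem_ker]
    constructor
    · intro h a b ha1 ha2 hb1 hb2
      have h1 := congrFun (congrFun h ⟨a, ha1, ha2⟩) ⟨b, hb1, hb2⟩
      change ((g : SpecialLinearGroup (Fin n) F) : Matrix (Fin n) (Fin n) F) a b = _ at h1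
      rw [h1, one_apply, one_apply]
      simp only [Subtype.mk.injEq]
    · intro h
      ext ⟨a, ha1, ha2⟩ ⟨b, hb1, hb2⟩
      change ((g : SpecialLinearGroup (Fin n) F) : Matrix (Fin n) (Fin n) F) a b = _
      rw [h a b ha1 ha2 hb1 hb2, one_apply, one_apply]
      simp only [Subtype.mk.injEq]
  refine genFitting_eq_pCore_of_centralizer_le (p := 2) (midHom _ hC).ker ?_ ?_
  · rintro ⟨g, hg⟩
    rw [hker] at hg
    refine ⟨2, Subtype.ext (Subtype.ext (Subtype.ext ?_))⟩
    obtain ⟨M, hM⟩ : ∃ M, M = ((g : SpecialLinearGroup (Fin n) F) : Matrix (Fin n) (Fin n) F) := ⟨_, rfl⟩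
    change ((g : SpecialLinearGroup (Fin n) F) : Matrix (Fin n) (Fin n) F) ^ (2 ^ 2) = 1
    rw [← hM]
    rw [← hM] at hg
    have hM1 := (hC g g.2).1
    have hM2 := (hC g g.2).2
    have hM3 := hii g g.2
    have hM4 := hjj g g.2
    rw [← hM] at hM1 hM2 hM3 hM4
    obtain ⟨N, hN⟩ : ∃ N, N = M - 1 := ⟨_, rfl⟩
    have hMN : M = 1 + N := by rw [hN]; abel
    -- N is supported in row i and column j
    have hNab : ∀ a b, a ≠ i → b ≠ j → N a b = 0 := by
      intro a b ha hb
      rw [hN, Matrix.sub_apply]
      by_cases hbi : b = i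
      · rw [hbi, hM1 a ha, one_apply_ne ha, sub_zero]
      · by_cases haj : a = j
        · rw [haj, hM2 b hb, one_apply_ne (Ne.symm hb), sub_zero]
        · rw [hg a b ha haj hbi hb, sub_self]
    have hNii : N i i = 0 := by rw [hN, Matrix.sub_apply, hM3, one_apply_eq, sub_self]
    have hNjj : N j j = 0 := by rw [hN, Matrix.sub_apply, hM4, one_apply_eq, sub_self]
    have hNj : ∀ b, N j b = 0 := by
      intro b
      by_cases hb : b = j
      · rw [hb]; exact hNjj
      · exact hNab j b (Ne.symm hij) hb
    have hNi : ∀ a, N a i = 0 := by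
      intro a
      by_cases ha : a = i
      · rw [ha]; exact hNii
      · exact hNab a i ha hij
    have hN2 : ∀ a b, a ≠ i → (N * N) a b = 0 := by
      intro a b ha
      rw [mul_apply]
      apply Finset.sum_eq_zero
      intro c _
      by_cases hc : c = j
      · rw [hc, hNj b, mul_zero]
      · rw [hNab a c ha hc, zero_mul]
    have hN2' : ∀ a b, b ≠ j → (N * N) a b = 0 := by
      intro a b hb
      rw [mul_apply]
      apply Finset.sum_eq_zero
      intro c _
      by_cases hc : c = i
      · rw [hc, hNi a, zero_mul]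
      · rw [hNab c b hc hb, mul_zero]
    have hN4 : (N * N) * (N * N) = 0 := by
      ext a b
      rw [mul_apply]
      apply Finset.sum_eq_zero
      intro c _
      by_cases hc : c = j
      · rw [hc, hN2 j b (Ne.symm hij), mul_zero]
      · rw [hN2' a c hc, zero_mul]
    have htwo : ∀ A : Matrix (Fin n) (Fin n) F, A + A = 0 := by
      intro A
      ext a b
      rw [Matrix.add_apply]
      have : A a b + A a b = (1 + 1) * A a b := by ring
      rw [this, char_two hF, zero_mul]; rfl
    have h2 : M * M = 1 + N * N := by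
      rw [hMN]
      have : (1 + N) * (1 + N) = 1 + N * N + (N + N) := by noncomm_ring
      rw [this, htwo, add_zero]
    have h4 : (M * M) * (M * M) = 1 := by
      rw [h2]
      have : (1 + N * N) * (1 + N * N) = 1 + (N * N) * (N * N) + (N * N + N * N) := by noncomm_ring
      rw [this, htwo, hN4, add_zero, add_zero]
    have h5 : M ^ (2 ^ 2) = (M * M) * (M * M) := by
      rw [show (2 : ℕ) ^ 2 = 2 + 2 by norm_num, pow_add, pow_two]
    rw [h5, h4]
  · intro h hh
    rw [hker]
    intro a b ha1 ha2 hb1 hb2
    -- the transvection 1 + E_ia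
    have hdet : (transvection i a (1 : F)).det = 1 := det_transvection_of_ne i a (Ne.symm ha1) 1
    obtain ⟨s, hs⟩ : ∃ s : SpecialLinearGroup (Fin n) F, s = ⟨transvection i a (1 : F), hdet⟩ := ⟨_, rfl⟩
    have hsM : (s : Matrix (Fin n) (Fin n) F) = transvection i a (1 : F) := by rw [hs]
    have hsC : s ∈ centralizer ({t} : Set (SpecialLinearGroup (Fin n) F)) := by
      rw [mem_centralizer_singleton_iff']
      refine Subtype.ext ?_
      change (t : Matrix (Fin n) (Fin n) F) * (s : Matrix (Fin n) (Fin n) F) = 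
        (s : Matrix (Fin n) (Fin n) F) * (t : Matrix (Fin n) (Fin n) F)
      rw [hsM, ht, eq_comm, comm_transv_iff]
      rw [transvection, mul_add, add_mul, mul_one, one_mul, add_right_inj, 
        single_mul_single_of_ne _ _ _ _ ha1, single_mul_single_of_ne _ _ _ _ (Ne.symm hij)]
    have hsQ : (⟨s, hsC⟩ : centralizer ({t} : Set (SpecialLinearGroup (Fin n) F))) ∈ (midHom _ hC).ker := by
      rw [hker]
      intro c d hc1 hc2 hd1 hd2
      change (s : Matrix (Fin n) (Fin n) F) c d = _
      rw [hsM, transvection, Matrix.add_apply, single_apply_of_row_ne (Ne.symm hc1), add_zero]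
    have h1 := mem_centralizer_iff.mp hh _ hsQ
    have h2 : s * (h : SpecialLinearGroup (Fin n) F) = h * s := congrArg Subtype.val h1
    have h3 : (s : Matrix (Fin n) (Fin n) F) * ((h : SpecialLinearGroup (Fin n) F) : Matrix (Fin n) (Fin n) F) = 
        ((h : SpecialLinearGroup (Fin n) F) : Matrix (Fin n) (Fin n) F) * (s : Matrix (Fin n) (Fin n) F) := 
      congrArg Subtype.val h2
    rw [hsM] at h3
    obtain ⟨h4, h5, h6⟩ := comm_single ((comm_transv_iff _).mp h3.symm)
    by_cases hab : b = a
    · rw [hab, ← h6, one_apply_eq]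
      exact hii h h.2
    · rw [h5 b hab, one_apply_ne (Ne.symm hab)]

end matrix

end CfsgH2
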